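import Cfsg.Agent.GWDihedral.Chars.InvGroup
import Cfsg.Agent.FourGroupGW.FamilyBound

/-!
# Inverted kind: the degree bound

A character of `G` which is not trivial at `z` and whose values on the cosets `O s^k ≠ O` are invariant under `z`
contains on `C` every irreducible character which is not trivial at `z`.
-/

set_option autoImplicit false
set_option linter.unusedSectionVars false
set_option linter.style.haveILetI false

namespace Cfsg.Lib.GWD.Chr

open scoped ComplexConjugate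
open Cfsg.Lib.Chars Cfsg.Lib.GW

universe u

variable {G : Type u} [Group G] [Fintype G] {F : Frame G} {K A : Subgroup G} {z : G} {p : ℕ}

/-- `O⟨s⟩` inside `C`. -/
abbrev NC (F : Frame G) : Subgroup F.C := (F.O ⊔ Subgroup.zpowers F.s).subgroupOf F.C

/-- The facts about the characters of `C` which are not trivial at `z`. -/
structure InvFacts (F : Frame G) [Fintype F.C] (K A : Subgroup G) (p : ℕ) (zC : F.C)
    [Fintype (Subgroup.zpowers zC)] (φ : F.C → ℂ) : Prop where
  deg : φ 1 = 2 * (p : ℂ)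
  vanish_out : ∀ c : F.C, c ∉ NC F → φ c = 0
  vanish_K : ∀ c : F.C, (c : G) ∈ K → (c : G) ∉ A → φ c = 0
  sum_coset : ∀ c ∈ NC F, ∑ x : Subgroup.zpowers zC, φ (x * c) = 0
  s_ne : φ ⟨F.s, s_mem_C F⟩ ≠ 0 ∨ φ (zC * ⟨F.s, s_mem_C F⟩) ≠ 0

variable (D : F.InvertedData K A z p)
include D

theorem p_odd : Odd p := by
  have := Cfsg.Lib.GW.Frame.odd_orderOf F.odd_card_O (z_mem_O D)
  rwa [orderOf_eq_prime (hp := ⟨D.hp⟩) D.zp D.z1] at this

theorem facts [Fintype F.C] {zC : F.C} [Fintype (Subgroup.zpowers zC)] (hzC : (zC : G) = z)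
    {φ : F.C → ℂ} (hφ : Cfsg.IsIrrCharacter F.C φ) (hzφ : φ zC ≠ φ 1) : InvFacts F K A p zC φ := by
  classical
  set N := NC F with hN
  haveI : N.Normal := Subgroup.normal_subgroupOf_of_le_normalizer (C_le_normalizer_sup D)
  have hφc := isCharacter_of_irr hφ
  have hzN : zC ∈ N := Subgroup.mem_subgroupOf.2 (Subgroup.mem_sup_left (hzC ▸ z_mem_O D))
  set zN : N := ⟨zC, hzN⟩ with hzNd
  have hcomm : ∀ (x : N) (y : G), y ∈ F.O ⊔ Subgroup.zpowers F.s → (∀ o ∈ F.O, y * o = o * y) →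
      (∀ k : ℤ, y * F.s ^ k = F.s ^ k * y) → ((x : F.C) : G) * y = y * ((x : F.C) : G) := fun x y _ h1 h2 => by
    obtain ⟨o, ho, k, e⟩ := (mem_sup_s D le_rfl).1 (Subgroup.mem_subgroupOf.1 x.2)
    rw [e, mul_assoc, ← h2, ← mul_assoc, ← h1 o ho, mul_assoc]
  have hzcent : zN ∈ Subgroup.center N := Subgroup.mem_center_iff.2 fun x => Subtype.ext (Subtype.ext (by
    show ((x : F.C) : G) * (zC : G) = (zC : G) * ((x : F.C) : G)
    rw [hzC]
    exact hcomm x z (Subgroup.mem_sup_left (z_mem_O D)) (fun o ho => D.acent z D.zA o ho)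
      fun k => (commute_zpow D (z_mem_O D) k).eq))
  obtain ⟨η, hη, hηc⟩ := exists_constituent N hφc (IsIrrCharacter.apply_one_ne_zero hφ)
  have hcl := clifford N hφ hη hηc
  obtain ⟨e, he⟩ := IsCharacter.exists_mult (IsCharacter.restrict hφc N) hη
  rw [he] at hcl hηc
  set rC : F.C := ⟨F.r, r_mem_C F⟩ with hrC
  have horbit : ∀ g : F.C, conjN N g η = η ∨ conjN N g η = conjN N rC η := by
    intro g
    have hηcl := isClassFunction_isChar (isCharacter_of_irr hη)
    have hmem : ∀ g : F.C, g ∈ N → conjN N g η = η := fun g hg => conjN_of_mem hηcl ⟨g, hg⟩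
    rcases cover D g.2 with h | h
    · exact Or.inl (hmem g (Subgroup.mem_subgroupOf.2 h))
    · right
      have hrr : rC * rC = 1 := Subtype.ext (Cfsg.Lib.GenDihedral.mul_self_of_two F.r_order)
      rw [show g = (g * rC) * rC by rw [mul_assoc, hrr, mul_one], conjN_mul,
        hmem (g * rC) (Subgroup.mem_subgroupOf.2 h)]
  have hone : ∀ (g : F.C) (f : N → ℂ), conjN N g f 1 = f 1 := fun g f => by
    show f _ = f 1
    congr 1
    exact Subtype.ext (by simp)
  have hinvz : ∀ f : N → ℂ, conjN N rC f zN = f zN⁻¹ := by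
    intro f
    show f _ = f _
    congr 1
    refine Subtype.ext (Subtype.ext ?_)
    show F.r * (zC : G) * F.r⁻¹ = (zC : G)⁻¹
    rw [hzC]; exact D.ainv z D.zA
  have hηz : η zN ≠ η 1 := by
    intro h
    refine hzφ ?_
    have h' : η zN⁻¹ = η 1 := IsCharacter.ker_inv (isCharacter_of_irr hη) h
    have e1 := congrFun hcl zN
    have e2 := congrFun hcl 1
    simp only [Pi.smul_apply, Finset.sum_apply, smul_eq_mul] at e1 e2
    rw [show φ zC = φ ((zN : N) : F.C) from rfl, e1, show φ 1 = φ ((1 : N) : F.C) from rfl, e2]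
    congr 1
    refine Finset.sum_congr rfl fun ψ hψ => ?_
    obtain ⟨g, rfl⟩ := (mem_conjOrbit N).1 hψ
    rw [hone]
    rcases horbit g with hg | hg
    · rw [hg, h]
    · rw [hg, hinvz, h']
  have hzNp : zN ^ p = 1 := Subtype.ext (Subtype.ext (by
    show (zC : G) ^ p = 1
    rw [hzC, D.zp]))
  -- a linear character at `z` with a square equal to one is trivial
  have hsq : ∀ ψ : N → ℂ, Cfsg.IsIrrCharacter N ψ → ψ zN⁻¹ = ψ zN → ψ zN = ψ 1 := by
    intro ψ hψ h1
    have h2 := center_mul_of_irr hψ hzcent zN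
    have h3 := center_mul_of_irr hψ hzcent zN⁻¹
    rw [mul_inv_cancel, h1] at h3
    rw [← h3] at h2
    have h4 : ψ (zN * zN) = ψ 1 := mul_right_cancel₀ (IsIrrCharacter.apply_one_ne_zero hψ) h2
    obtain ⟨k, hk⟩ := p_odd D
    have h5 : (zN * zN) ^ (k + 1) ∈ kerSubgroup ψ (isCharacter_of_irr hψ) :=
      pow_mem ((mem_kerSubgroup _ _).2 h4) _
    rwa [← pow_two, ← pow_mul, show 2 * (k + 1) = p + 1 by omega, pow_succ, hzNp, one_mul,
      mem_kerSubgroup] at h5
  have hrη : conjN N rC η ≠ η := fun h => hηz (hsq η hη (by rw [← hinvz η, h]))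
  have horb : conjOrbit N η = {η, conjN N rC η} := by
    ext f
    rw [mem_conjOrbit, Finset.mem_insert, Finset.mem_singleton]
    constructor
    · rintro ⟨g, rfl⟩; exact horbit g
    · rintro (rfl | rfl)
      · exact ⟨1, conjN_one N _⟩
      · exact ⟨rC, rfl⟩
  rw [horb, Finset.sum_pair hrη.symm] at hcl
  -- the constituents on `N`
  set f : N →* G := (Subgroup.subtype F.C).comp N.subtype with hf
  have hfi : Function.Injective f := Subtype.val_injective.comp Subtype.val_injective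
  have hfN : ∀ x : N, f x ∈ F.O ⊔ Subgroup.zpowers F.s := fun x => Subgroup.mem_subgroupOf.1 x.2
  have hmk : ∀ y ∈ F.O ⊔ Subgroup.zpowers F.s, ∃ x : N, f x = y := fun y hy =>
    ⟨⟨⟨y, sup_le_C D le_rfl hy⟩, Subgroup.mem_subgroupOf.2 hy⟩, rfl⟩
  have hpair : ∀ ψ : N → ℂ, Cfsg.IsIrrCharacter N ψ → ψ zN ≠ ψ 1 →
      ψ 1 = (p : ℂ) ∧ ∀ c : N, f c ∈ K → f c ∉ A → ψ c = 0 := by
    intro ψ hψ hψz
    have hcard : ∀ H : Subgroup G, H ≤ F.O →
        Nat.card ((H ⊔ Subgroup.zpowers F.s).comap f) = Nat.card H * 2 ^ (F.n - 1) := fun H hH => by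
      rw [← card_sup_s D hH, ← Subgroup.card_map_of_injective hfi, Subgroup.map_comap_eq_self]
      exact fun x hx => hmk x (sup_le_sup_right hH _ hx)
    haveI : ((K ⊔ Subgroup.zpowers F.s).comap f).Normal := ⟨fun x hx g => by
      rw [Subgroup.mem_comap] at hx ⊢
      obtain ⟨k, hk, i, ek⟩ := (mem_sup_s D D.KO).1 hx
      obtain ⟨o, ho, j, eo⟩ := (mem_sup_s D le_rfl).1 (hfN g)
      rw [map_mul, map_mul, map_inv, ek, eo, show o * F.s ^ j * (k * F.s ^ i) * (o * F.s ^ j)⁻¹ =
        o * (F.s ^ j * k * (F.s ^ j)⁻¹) * (F.s ^ j * F.s ^ i * (F.s ^ j)⁻¹) * o⁻¹ by group,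
        ← (commute_zpow D (D.KO hk) j).eq, mul_inv_cancel_right,
        show F.s ^ j * F.s ^ i * (F.s ^ j)⁻¹ = F.s ^ i by group, mul_assoc (o * k), ← (commute_zpow D (inv_mem ho) i).eq,
        ← mul_assoc (o * k)]
      exact mul_mem (Subgroup.mem_sup_left (D.knorm o ho k hk)) (Subgroup.mem_sup_right ⟨i, rfl⟩)⟩
    have hcyc : IsCyclic (N ⧸ (K ⊔ Subgroup.zpowers F.s).comap f) := by
      obtain ⟨g, hg, hg'⟩ := D.cyc
      obtain ⟨x₀, hx₀⟩ := hmk g (Subgroup.mem_sup_left hg)
      refine ⟨⟨QuotientGroup.mk x₀, fun x => ?_⟩⟩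
      induction x using QuotientGroup.induction_on with
      | _ x =>
        obtain ⟨o, ho, k, ek⟩ := (mem_sup_s D le_rfl).1 (hfN x)
        obtain ⟨i, hi⟩ := hg' o ho
        refine ⟨(i : ℤ), ?_⟩
        show _ ^ (i : ℤ) = _
        rw [zpow_natCast, ← QuotientGroup.mk_pow, QuotientGroup.eq, Subgroup.mem_comap, map_mul,
          map_inv, map_pow, hx₀, ek, ← mul_assoc]
        exact mul_mem (Subgroup.mem_sup_left hi) (Subgroup.mem_sup_right ⟨k, rfl⟩)
    have hnd : ∀ x : N, f x ∈ K ⊔ Subgroup.zpowers F.s → f x ∉ A ⊔ Subgroup.zpowers F.s →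
        ∃ y : N, f y ∈ K ⊔ Subgroup.zpowers F.s ∧ y * x * y⁻¹ * x⁻¹ ∈ Subgroup.zpowers zN ∧
          y * x * y⁻¹ * x⁻¹ ≠ 1 := by
      intro x hx hxA
      obtain ⟨k, hk, i, ek⟩ := (mem_sup_s D D.KO).1 hx
      have hkA : k ∉ A := fun h => hxA (by rw [ek]; exact mul_mem (Subgroup.mem_sup_left h) (Subgroup.mem_sup_right ⟨i, rfl⟩))
      obtain ⟨y, hy, h1, h2⟩ := D.nondeg k hk hkA
      obtain ⟨y', hy'⟩ := hmk y (Subgroup.mem_sup_left (D.KO hy))
      have e : f (y' * x * y'⁻¹ * x⁻¹) = y * k * y⁻¹ * k⁻¹ := by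
        rw [map_mul, map_mul, map_mul, map_inv, map_inv, hy', ek]
        calc y * (k * F.s ^ i) * y⁻¹ * (k * F.s ^ i)⁻¹ = y * k * (F.s ^ i * y⁻¹ * (F.s ^ i)⁻¹) * k⁻¹ := by group
          _ = y * k * y⁻¹ * k⁻¹ := by
            rw [← (commute_zpow D (inv_mem (D.KO hy)) i).eq, mul_inv_cancel_right]
      refine ⟨y', hy' ▸ Subgroup.mem_sup_left hy, ?_, fun h => h2 (by rw [← e, h, map_one])⟩
      obtain ⟨j, hj⟩ := Subgroup.mem_zpowers_iff.1 h1
      exact Subgroup.mem_zpowers_iff.2 ⟨j, hfi (by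
        rw [map_zpow, e, ← hj, show f zN = z from hzC])⟩
    obtain ⟨h1, h2⟩ := deg_of_pair ((K ⊔ Subgroup.zpowers F.s).comap f) ((A ⊔ Subgroup.zpowers F.s).comap f) hcyc
      (Subgroup.comap_mono (sup_le_sup_right D.AK _)) (fun a ha => Subgroup.mem_center_iff.2 fun x => hfi (by
        rw [map_mul, map_mul]
        obtain ⟨a', ha', i, ea⟩ := (mem_sup_s D (D.AK.trans D.KO)).1 ha
        rw [ea]
        refine hcomm x _ (mul_mem (Subgroup.mem_sup_left (D.KO (D.AK ha'))) (Subgroup.mem_sup_right ⟨i, rfl⟩))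
          (fun o ho => ?_) fun k => ?_
        · exact ((show Commute a' o from D.acent a' ha' o ho).mul_left (commute_zpow D ho i).symm).eq
        · exact ((commute_zpow D (D.KO (D.AK ha')) k).mul_left ((Commute.refl F.s).zpow_zpow i k)).eq))
      D.hp (z := zN) (n := p) (Subgroup.mem_sup_left (by rw [show (f zN : G) = z from hzC]; exact D.zA)) hzNp
      (by rw [hcard K D.KO, hcard A (D.AK.trans D.KO), D.card]; ring)
      (fun k hk hkA => by
        obtain ⟨y, hy, h⟩ := hnd k hk hkA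
        exact ⟨y, hy, h⟩) hψ hψz
    refine ⟨h1, fun c hc hcA => h2 c (Subgroup.mem_sup_left hc) fun h => hcA ?_⟩
    obtain ⟨a, ha, i, ea⟩ := (mem_sup_s D (D.AK.trans D.KO)).1 (Subgroup.mem_comap.1 h)
    have hs : F.s ^ i ∈ F.O := by
      rw [eq_inv_mul_of_mul_eq ea.symm]
      exact mul_mem (inv_mem (D.KO (D.AK ha))) (D.KO hc)
    rw [ea, eq_one_of_mem D hs, mul_one]
    exact ha
  have hrz : conjN N rC η zN ≠ conjN N rC η 1 := by
    rw [hinvz, hone]
    intro h
    have := IsCharacter.ker_inv (isCharacter_of_irr hη) h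
    rw [inv_inv] at this
    exact hηz this
  obtain ⟨hη1, hηK⟩ := hpair η hη hηz
  obtain ⟨hr1, hrK⟩ := hpair _ (IsIrrCharacter.conjN hη rC) hrz
  have hres : ∀ x : N, φ x = (e : ℂ) * (η x + conjN N rC η x) := fun x => by
    simpa using congrFun hcl x
  have he0 : e ≠ 0 := fun h => hηc (by rw [h, Nat.cast_zero])
  -- the norm on `N`
  have hnormN : ∑ x : N, φ x * conj (φ x) = (Nat.card N : ℂ) * (2 * (e : ℂ) ^ 2) := by
    have h : Cfsg.classInner (fun x : N => φ x) (fun x : N => φ x) = 2 * (e : ℂ) ^ 2 := by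
      have hfun : (fun x : N => φ x) = (e : ℂ) • (η + conjN N rC η) := funext fun x => by
        simpa using hres x
      rw [hfun, classInner_smul_left, classInner_smul_right, classInner_add_left,
        classInner_add_right, classInner_add_right, classInner_self_irr hη,
        classInner_self_irr (IsIrrCharacter.conjN hη rC),
        classInner_irrChar hη (IsIrrCharacter.conjN hη rC), if_neg hrη.symm,
        classInner_irrChar (IsIrrCharacter.conjN hη rC) hη, if_neg hrη, Complex.conj_natCast]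
      ring
    rw [classInner_def] at h
    field_simp at h
    linear_combination h
  have hsumN : ∑ c ∈ Finset.univ.filter (· ∈ N), Complex.normSq (φ c) = (Nat.card N : ℝ) * (2 * (e : ℝ) ^ 2) := by
    rw [Finset.sum_subtype (p := (· ∈ N)) _ (fun x => by simp)]
    apply Complex.ofReal_injective
    push_cast
    rw [← hnormN]
    exact Finset.sum_congr rfl fun x _ => (Complex.mul_conj _).symm
  have htot : ∑ c : F.C, Complex.normSq (φ c) = (Nat.card F.C : ℝ) := by
    have h := classInner_self_irr hφ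
    rw [classInner_def] at h
    field_simp at h
    apply Complex.ofReal_injective
    push_cast
    rw [← h]
    exact Finset.sum_congr rfl fun x _ => (Complex.mul_conj _).symm
  have hcardC : (Nat.card F.C : ℝ) = 2 * (Nat.card N : ℝ) := by
    have h := N.card_mul_index
    rw [hN, index_sup D, ← hN] at h
    rw [← h]; push_cast; ring
  have hrest : ∀ s : Finset F.C, (∀ c ∈ s, c ∉ N) →
      (Nat.card N : ℝ) * (2 * (e : ℝ) ^ 2) + ∑ c ∈ s, Complex.normSq (φ c) ≤ 2 * (Nat.card N : ℝ) := by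
    intro s hs
    have hd : Disjoint (Finset.univ.filter (· ∈ N)) s := by
      rw [Finset.disjoint_left]
      intro c hc hcs
      exact hs c hcs (Finset.mem_filter.1 hc).2
    rw [← hsumN, ← Finset.sum_union hd, ← hcardC, ← htot]
    exact Finset.sum_le_univ_sum_of_nonneg fun c => Complex.normSq_nonneg _
  have he1 : e = 1 := by
    have h := hrest ∅ (by simp)
    have hpos : (0 : ℝ) < Nat.card N := by exact_mod_cast Nat.card_pos
    rw [Finset.sum_empty, add_zero] at h
    have : (e : ℝ) ^ 2 ≤ 1 := by nlinarith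
    have h' : e ^ 2 ≤ 1 := by exact_mod_cast this
    nlinarith [Nat.pos_of_ne_zero he0]
  have hres' : ∀ x : N, φ x = η x + conjN N rC η x := fun x => by rw [hres, he1, Nat.cast_one, one_mul]
  have hsum0 : ∀ ψ : N → ℂ, Cfsg.IsIrrCharacter N ψ → ψ zN ≠ ψ 1 → ∀ c : N,
      ∑ x : Subgroup.zpowers zC, ψ (⟨x, (Subgroup.zpowers_le.2 hzN) x.2⟩ * c) = 0 := by
    intro ψ hψ hψz c
    set T := ∑ x : Subgroup.zpowers zC, ψ (⟨x, (Subgroup.zpowers_le.2 hzN) x.2⟩ * c)
    have h1 : ψ 1 * T = ψ zN * T := by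
      calc ψ 1 * T
          = ∑ x : Subgroup.zpowers zC, ψ 1 *
              ψ (⟨zC * x, (Subgroup.zpowers_le.2 hzN) (mul_mem (Subgroup.mem_zpowers zC) x.2)⟩ * c) := by
            rw [Finset.mul_sum]
            exact (Fintype.sum_equiv (Equiv.mulLeft (⟨zC, Subgroup.mem_zpowers zC⟩ : Subgroup.zpowers zC)) _ _
              fun x => rfl).symm
        _ = _ := by
            rw [Finset.mul_sum]
            refine Finset.sum_congr rfl fun x _ => ?_
            rw [mul_comm, show (⟨zC * x, (Subgroup.zpowers_le.2 hzN) (mul_mem (Subgroup.mem_zpowers zC) x.2)⟩ : N) * c =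
              zN * (⟨x, (Subgroup.zpowers_le.2 hzN) x.2⟩ * c) from Subtype.ext (mul_assoc _ _ _)]
            exact center_mul_of_irr hψ hzcent _
    exact (mul_eq_zero.1 (by linear_combination h1 : (ψ 1 - ψ zN) * T = 0)).resolve_left (sub_ne_zero.2 hψz.symm)
  refine ⟨?_, fun c hc => ?_, fun c hc hcA => ?_, fun c hc => ?_, ?_⟩
  · rw [show φ 1 = φ ((1 : N) : F.C) from rfl, hres', hη1, hr1]; ring
  · have h := hrest {c} (by simpa using hc)
    rw [Finset.sum_singleton, he1] at h
    have h0 : Complex.normSq (φ c) = 0 :=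
      le_antisymm (by norm_num at h; linarith) (Complex.normSq_nonneg _)
    exact Complex.normSq_eq_zero.1 h0
  · have hcN : c ∈ N := Subgroup.mem_subgroupOf.2 (Subgroup.mem_sup_left (D.KO hc))
    rw [show φ c = φ ((⟨c, hcN⟩ : N) : F.C) from rfl, hres', hηK ⟨c, hcN⟩ hc hcA, hrK ⟨c, hcN⟩ hc hcA, add_zero]
  · have h0 : ∀ x : Subgroup.zpowers zC, φ ((x : F.C) * c) = η (⟨x, (Subgroup.zpowers_le.2 hzN) x.2⟩ * ⟨c, hc⟩) +
        conjN N rC η (⟨x, (Subgroup.zpowers_le.2 hzN) x.2⟩ * ⟨c, hc⟩) :=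
      fun x => hres' (⟨x, (Subgroup.zpowers_le.2 hzN) x.2⟩ * ⟨c, hc⟩)
    rw [Finset.sum_congr rfl fun x _ => h0 x, Finset.sum_add_distrib, hsum0 η hη hηz,
      hsum0 _ (IsIrrCharacter.conjN hη rC) hrz, add_zero]
  · -- `s` is central in `N`
    by_contra h
    push Not at h
    obtain ⟨sN, hsN⟩ := hmk F.s (Subgroup.mem_sup_right (Subgroup.mem_zpowers _))
    have hscent : sN ∈ Subgroup.center N := Subgroup.mem_center_iff.2 fun x => hfi (by
      rw [map_mul, map_mul, hsN]
      exact hcomm x F.s (Subgroup.mem_sup_right (Subgroup.mem_zpowers _)) D.s_cent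
        fun k => ((Commute.refl F.s).zpow_right k).eq)
    have hsC : ((sN : N) : F.C) = ⟨F.s, s_mem_C F⟩ := Subtype.ext hsN
    have h1 : φ ((sN : N) : F.C) = 0 := hsC ▸ h.1
    have h2 : φ ((zN * sN : N) : F.C) = 0 := by
      rw [Subgroup.coe_mul, hsC]; exact h.2
    rw [hres'] at h1 h2
    have hr := center_mul_of_irr (IsIrrCharacter.conjN hη rC) hzcent sN
    rw [hinvz, hone, eq_neg_of_add_eq_zero_right h1, eq_neg_of_add_eq_zero_right h2] at hr
    have h3 := center_mul_of_irr hη hzcent sN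
    have hs0 : η sN ≠ 0 := fun h0 => by
      have := mul_conj_center hη hscent
      rw [h0, zero_mul] at this
      exact IsIrrCharacter.apply_one_ne_zero hη (mul_self_eq_zero.1 this.symm)
    exact hηz (hsq η hη (mul_right_cancel₀ hs0 (by linear_combination h3 + hr)))

/-- Two functions on `C` supported on the special set induce with the same inner product. -/
theorem indFun_inner [Fintype F.C] {f g : F.C → ℂ} (hg : Cfsg.IsClassFunction F.C g)
    (hf0 : ∀ c : F.C, (c : G) ∉ Sp F K A → f c = 0)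
    (hg0 : ∀ c : F.C, (c : G) ∉ Sp F K A → g c = 0) :
    Cfsg.classInner (Cfsg.indFun F.C f) (Cfsg.indFun F.C g) = Cfsg.classInner f g := by
  rw [frobenius_reciprocity _ _ (isClassFunction_indFun _ g), classInner_def, classInner_def]
  refine congrArg _ (Finset.sum_congr rfl fun c _ => ?_)
  by_cases hc : (c : G) ∈ Sp F K A
  · have hc1 : c ≠ 1 := by
      rintro rfl
      rcases hc with ⟨-, h | ⟨-, h⟩⟩ | ⟨y, hy, k, hk, e⟩
      · exact h (one_mem K)
      · exact h rfl
      · refine hk (eq_one_of_mem D ?_)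
        rw [eq_inv_of_mul_eq_one_right (show y * F.s ^ k = 1 from e.symm)]
        exact inv_mem hy
    rw [indFun_TI_apply' F.C (Sp F K A) (fun g hg x hx hy => absurd hy (ti D hg hx)) hg hg0 c hc hc1]
  · rw [hf0 c hc, zero_mul, zero_mul]

/-- The degree bound. -/
theorem inverted_degree (χ : Cfsg.IrrCharacter G) (hz : (χ : G → ℂ) z ≠ (χ : G → ℂ) 1)
    (hinv : ∀ y ∈ F.O, ∀ k : ℤ, F.s ^ k ≠ 1 → (χ : G → ℂ) (z * y * F.s ^ k) = (χ : G → ℂ) (y * F.s ^ k)) :
    2 ^ (F.n - 1) * (p - 1) * Nat.card F.O ≤ p ^ 2 * deg (χ : G → ℂ) := by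
  classical
  haveI : Fact p.Prime := ⟨D.hp⟩
  set zC : F.C := ⟨z, F.O_le (z_mem_O D)⟩ with hzC
  set sC : F.C := ⟨F.s, s_mem_C F⟩ with hsC
  set N := NC F with hN
  have hzCp : zC ^ p = 1 := Subtype.ext D.zp
  have hzC1 : zC ≠ 1 := fun h => D.z1 (congrArg Subtype.val h)
  set S0 : Finset (IrrCharacter F.C) :=
    Finset.univ.filter fun φ => (φ : F.C → ℂ) zC ≠ (φ : F.C → ℂ) 1 with hS0
  have hfacts : ∀ φ ∈ S0, InvFacts F K A p zC (φ : F.C → ℂ) := fun φ hφ =>
    facts D rfl φ.2 (Finset.mem_filter.1 hφ).2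
  -- the multiplicities
  set res : F.C → ℂ := fun c => (χ : G → ℂ) c
  have hres : Cfsg.IsCharacter F.C res := IsCharacter.restrict (isCharacter_of_irr χ.2) _
  obtain ⟨m, hm⟩ := IsCharacter.exists_decomp hres
  have hinner : ∀ φ : IrrCharacter F.C, Cfsg.classInner res (φ : F.C → ℂ) = m φ := by
    intro φ
    rw [hm]
    simp only [← Nat.cast_smul_eq_nsmul ℂ]
    exact classInner_irrSum (fun ψ => (m ψ : ℂ)) φ
  set Z := Subgroup.zpowers zC
  have hkey : ∀ φ ∈ S0, ∀ φ' ∈ S0, m φ = m φ' := by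
    obtain ⟨ε, hε1, hε2, hεs⟩ := exists_sign D
    have hεz : ε zC = 1 := hε1 zC (z_mem_O D)
    let tw : IrrCharacter F.C → IrrCharacter F.C := fun φ =>
      ⟨fun c => (ε c : ℂ) * (φ : F.C → ℂ) c, IsIrrCharacter.mul_linear φ.2 ε⟩
    have htw : ∀ φ ∈ S0, tw φ ∈ S0 := by
      intro φ hφ
      refine Finset.mem_filter.2 ⟨Finset.mem_univ _, ?_⟩
      show (ε zC : ℂ) * _ ≠ (ε 1 : ℂ) * _
      rw [hεz, map_one, Units.val_one, one_mul, one_mul]
      exact (Finset.mem_filter.1 hφ).2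
    have hmtw : ∀ φ ∈ S0, m (tw φ) = m φ := by
      intro φ hφ
      have Fφ := hfacts φ hφ
      have h : Cfsg.classInner res (tw φ : F.C → ℂ) = Cfsg.classInner res (φ : F.C → ℂ) := by
        rw [← sub_eq_zero, ← classInner_sub_right, classInner_def]
        refine mul_eq_zero_of_right _ ?_
        set SN := Finset.univ.filter fun c : F.C => c ∈ N ∧ (c : G) ∉ F.O with hSN
        set g : F.C → ℂ := fun c => res c * ((ε c : ℂ) - 1) with hg
        have hsplit : ∀ c : F.C, res c * conj (((tw φ : F.C → ℂ) - (φ : F.C → ℂ)) c) =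
            if c ∈ N ∧ (c : G) ∉ F.O then g c * conj ((φ : F.C → ℂ) c) else 0 := by
          intro c
          show _ * conj ((ε c : ℂ) * (φ : F.C → ℂ) c - (φ : F.C → ℂ) c) = _
          split_ifs with hc
          · show _ = res c * ((ε c : ℂ) - 1) * _
            rw [map_sub, map_mul]
            rcases hε2 c with h | h <;> rw [h] <;> simp <;> ring
          · by_cases hcN : c ∈ N
            · rw [hε1 c (by_contra fun h => hc ⟨hcN, h⟩), Units.val_one, one_mul, sub_self, map_zero, mul_zero]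
            · rw [Fφ.vanish_out c hcN]; simp
        rw [Finset.sum_congr rfl fun c _ => hsplit c, ← Finset.sum_filter, ← hSN]
        have hgz : ∀ x ∈ Z, ∀ c ∈ SN, x * c ∈ SN ∧ g (x * c) = g c := by
          have h1 : ∀ c ∈ SN, zC * c ∈ SN ∧ g (zC * c) = g c := by
            intro c hc
            simp only [hSN, Finset.mem_filter, Finset.mem_univ, true_and] at hc ⊢
            obtain ⟨y, hy, k, e⟩ := (mem_sup_s D le_rfl).1 (Subgroup.mem_subgroupOf.1 hc.1)
            refine ⟨⟨mul_mem (Subgroup.mem_subgroupOf.2 (Subgroup.mem_sup_left (z_mem_O D))) hc.1, fun h => hc.2 ?_⟩, ?_⟩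
            · rw [show (c : G) = z⁻¹ * (z * c) by group]
              exact mul_mem (inv_mem (z_mem_O D)) h
            · show (χ : G → ℂ) (z * (c : G)) * _ = (χ : G → ℂ) (c : G) * _
              have hk : F.s ^ k ≠ 1 := fun h => hc.2 (by rw [e, h, mul_one]; exact hy)
              rw [map_mul, hεz, one_mul, e, ← mul_assoc, hinv y hy k hk]
          intro x hx
          obtain ⟨i, rfl⟩ := mem_powers_iff_mem_zpowers.2 hx
          induction i with
          | zero => intro c hc; simp [hc]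
          | succ i ih =>
            intro c hc
            obtain ⟨h2, h3⟩ := ih (mul_mem hx (one_mem _) |> fun _ => pow_mem (Subgroup.mem_zpowers zC) i) c hc
            obtain ⟨h4, h5⟩ := h1 _ h2
            show zC ^ (i + 1) * c ∈ SN ∧ g (zC ^ (i + 1) * c) = g c
            rw [pow_succ', mul_assoc]
            exact ⟨h4, h5.trans h3⟩
        have hshift : ∀ x : Z, ∑ c ∈ SN, g c * conj ((φ : F.C → ℂ) c) =
            ∑ c ∈ SN, g c * conj ((φ : F.C → ℂ) ((x : F.C) * c)) := by
          intro x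
          refine Finset.sum_nbij' (fun c => (x : F.C)⁻¹ * c) (fun c => (x : F.C) * c)
            (fun c hc => (hgz _ (inv_mem x.2) c hc).1) (fun c hc => (hgz _ x.2 c hc).1)
            (fun c _ => mul_inv_cancel_left _ _) (fun c _ => inv_mul_cancel_left _ _) fun c hc => ?_
          rw [mul_inv_cancel_left, (hgz _ (inv_mem x.2) c hc).2]
        have hsum : ∑ x : Z, ∑ c ∈ SN, g c * conj ((φ : F.C → ℂ) ((x : F.C) * c)) = 0 := by
          rw [Finset.sum_comm]
          refine Finset.sum_eq_zero fun c hc => ?_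
          rw [← Finset.mul_sum, ← map_sum]
          refine mul_eq_zero_of_right _ ?_
          rw [map_eq_zero]
          exact Fφ.sum_coset c (Finset.mem_filter.1 hc).2.1
        rw [← Finset.sum_congr rfl fun x _ => hshift x, Finset.sum_const, nsmul_eq_mul] at hsum
        exact (mul_eq_zero.1 hsum).resolve_left (by simp [Fintype.card_ne_zero])
      rw [hinner, hinner] at h
      exact_mod_cast h
    intro φ hφ φ' hφ'
    by_cases h1 : φ = φ'
    · rw [h1]
    by_cases h2 : tw φ = φ'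
    · rw [← h2, hmtw φ hφ]
    by_cases h2' : tw φ' = φ
    · rw [← h2', hmtw φ' hφ']
    have hvan : ∀ a ∈ S0, ∀ b ∈ S0, ∀ c : F.C, (c : G) ∉ Sp F K A →
        ((a : F.C → ℂ) - (b : F.C → ℂ)) c = 0 := by
      intro a ha b hb c hc
      have Fa := hfacts a ha
      have Fb := hfacts b hb
      by_cases hcN : c ∈ N
      · obtain ⟨y, hy, k, e⟩ := (mem_sup_s D le_rfl).1 (Subgroup.mem_subgroupOf.1 hcN)
        have hk : F.s ^ k = 1 := by_contra fun h => hc (Or.inr ⟨y, hy, k, h, e⟩)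
        rw [hk, mul_one] at e
        by_cases hcK : (c : G) ∈ K
        · by_cases hcA : (c : G) ∈ A
          · have hc1 : c = 1 := by
              by_contra h
              exact hc (Or.inl ⟨e ▸ hy, Or.inr ⟨hcA, fun h' => h (Subtype.ext h')⟩⟩)
            rw [hc1, Pi.sub_apply, Fa.deg, Fb.deg, sub_self]
          · rw [Pi.sub_apply, Fa.vanish_K c hcK hcA, Fb.vanish_K c hcK hcA, sub_self]
        · exact absurd (Or.inl ⟨e ▸ hy, Or.inl hcK⟩) hc
      · rw [Pi.sub_apply, Fa.vanish_out c hcN, Fb.vanish_out c hcN, sub_self]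
    have hcf : ∀ a b : IrrCharacter F.C,
        Cfsg.IsClassFunction F.C ((a : F.C → ℂ) - (b : F.C → ℂ)) := fun a b x y => by
      simp only [Pi.sub_apply, isClassFunction_irr a x y, isClassFunction_irr b x y]
    have hpair : ∀ a ∈ S0, ∀ b ∈ S0, a ≠ b → ∃ μ ν : IrrCharacter G, μ ≠ ν ∧
        Cfsg.indFun F.C ((a : F.C → ℂ) - (b : F.C → ℂ)) = (μ : G → ℂ) - ν := by
      intro a ha b hb hab
      refine exists_sub_of_norm_two (IsGeneralizedCharacter.indFun
        ⟨_, _, isCharacter_of_irr a.2, isCharacter_of_irr b.2, rfl⟩) ?_ ?_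
      · rw [indFun_inner D (hcf a b) (hvan a ha b hb) (hvan a ha b hb)]
        simp only [classInner_sub_left, classInner_sub_right, classInner_irrCharacter, if_pos,
          if_neg hab, if_neg hab.symm]
        norm_num
      · rw [indFun_one, Pi.sub_apply, (hfacts a ha).deg, (hfacts b hb).deg, sub_self, mul_zero]
    have htw2 : ∀ a, tw (tw a) = a := fun a => by
      refine Subtype.ext (funext fun c => ?_)
      show (ε c : ℂ) * ((ε c : ℂ) * _) = _
      rcases hε2 c with h | h <;> rw [h] <;> ring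
    have h3 : tw φ ≠ tw φ' := fun h => h1 (by rw [← htw2 φ, h, htw2])
    obtain ⟨μ, ν, hμν, e⟩ := hpair φ hφ φ' hφ' h1
    obtain ⟨μ', ν', hμν', e'⟩ := hpair (tw φ) (htw φ hφ) (tw φ') (htw φ' hφ') h3
    have htwne : ∀ a ∈ S0, a ≠ tw a := by
      intro a ha h
      have key : ∀ c : F.C, ε c = -1 → (a : F.C → ℂ) c = 0 := by
        intro c hc
        have := congrFun (congrArg Subtype.val h) c
        rwa [show ((tw a : IrrCharacter F.C) : F.C → ℂ) c = (ε c : ℂ) * (a : F.C → ℂ) c from rfl, hc,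
          Units.val_neg, Units.val_one, neg_one_mul, eq_neg_iff_add_eq_zero, ← two_mul, mul_eq_zero,
          or_iff_right two_ne_zero] at this
      rcases (hfacts a ha).s_ne with h' | h'
      · exact h' (key _ hεs)
      · exact h' (key _ (by rw [map_mul, hεz, one_mul]; exact hεs))
    have hr : ∀ a b : IrrCharacter F.C, Cfsg.classInner (χ : G → ℂ)
        (Cfsg.indFun F.C ((a : F.C → ℂ) - (b : F.C → ℂ))) = (m a : ℂ) - m b := fun a b => by
      rw [frobenius_reciprocity' _ _ (isClassFunction_isChar (isCharacter_of_irr χ.2)),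
        classInner_sub_right, hinner, hinner]
    have h0 := coeff_eq_zero (χ := χ) hμν hμν' e e' (by
      rw [indFun_inner D (hcf _ _) (hvan φ hφ φ' hφ') (hvan _ (htw φ hφ) _ (htw φ' hφ'))]
      simp only [classInner_sub_left, classInner_sub_right, classInner_irrCharacter,
        if_neg (htwne φ hφ), if_neg (htwne φ' hφ'), if_neg (fun h : φ = tw φ' => h2' h.symm),
        if_neg (fun h : φ' = tw φ => h2 h.symm)]
      norm_num) (by
      rw [hr, hr, hmtw φ hφ, hmtw φ' hφ'])
    rw [hr] at h0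
    exact_mod_cast sub_eq_zero.1 h0
  -- some constituent is not trivial at `z`
  have hpos : ∀ φ ∈ S0, 1 ≤ m φ := by
    obtain ⟨φ₀, hφ₀, hm0⟩ : ∃ φ ∈ S0, m φ ≠ 0 := by
      by_contra h
      push Not at h
      refine hz ?_
      have e1 := congrFun hm zC
      have e2 := congrFun hm 1
      simp only [Finset.sum_apply, Pi.smul_apply, res] at e1 e2
      rw [show (χ : G → ℂ) z = (χ : G → ℂ) ((zC : F.C) : G) from rfl, e1,
        show (χ : G → ℂ) 1 = (χ : G → ℂ) ((1 : F.C) : G) from rfl, e2]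
      refine Finset.sum_congr rfl fun φ _ => ?_
      by_cases hφ : φ ∈ S0
      · simp [h φ hφ]
      · rw [not_not.1 fun h' => hφ (Finset.mem_filter.2 ⟨Finset.mem_univ _, h'⟩)]
    intro φ hφ
    rw [hkey φ hφ φ₀ hφ₀]
    exact Nat.one_le_iff_ne_zero.2 hm0
  -- the counting
  have hcount : p * ∑ φ ∈ S0, deg (φ : F.C → ℂ) ^ 2 = (p - 1) * Nat.card F.C := by
    have hZcard : Fintype.card Z = p := by
      rw [← Nat.card_eq_fintype_card, Nat.card_zpowers, orderOf_eq_prime hzCp hzC1]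
    have h1 : ∑ φ : IrrCharacter F.C, (φ : F.C → ℂ) 1 * ∑ x : Z, (φ : F.C → ℂ) x =
        (Nat.card F.C : ℂ) := by
      simp only [Finset.mul_sum]
      rw [Finset.sum_comm, Finset.sum_congr rfl fun (x : Z) _ => sum_deg_mul (x : F.C)]
      rw [Finset.sum_eq_single (1 : Z)]
      · exact if_pos rfl
      · exact fun x _ hx => if_neg (fun h => hx (Subtype.ext h))
      · exact fun h => absurd (Finset.mem_univ _) h
    have h2 : ∀ φ ∉ S0, ∑ x : Z, (φ : F.C → ℂ) x = (p : ℂ) * (φ : F.C → ℂ) 1 := by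
      intro φ hφ
      have hker : zC ∈ kerSubgroup (φ : F.C → ℂ) (isCharacter_of_irr φ.2) :=
        (mem_kerSubgroup _ _).2 (not_not.1 fun h' => hφ (Finset.mem_filter.2 ⟨Finset.mem_univ _, h'⟩))
      rw [Finset.sum_congr rfl fun (x : Z) _ =>
          (mem_kerSubgroup _ _).1 ((Subgroup.zpowers_le.2 hker) x.2),
        Finset.sum_const, Finset.card_univ, hZcard, nsmul_eq_mul]
    have hZn : ∀ φ ∈ S0, ∑ x : Z, (φ : F.C → ℂ) x = 0 := by
      intro φ hφ
      simpa only [mul_one] using (hfacts φ hφ).sum_coset 1 (one_mem _)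
    rw [← Finset.sum_add_sum_compl S0, Finset.sum_eq_zero fun φ hφ => by rw [hZn φ hφ, mul_zero],
      zero_add, Finset.sum_congr rfl fun φ hφ => by rw [h2 φ (Finset.mem_compl.1 hφ)]] at h1
    have h3 : p * ∑ φ ∈ S0ᶜ, deg (φ : F.C → ℂ) ^ 2 = Nat.card F.C := by
      apply Nat.cast_injective (R := ℂ)
      rw [← h1]
      push_cast
      rw [Finset.mul_sum]
      refine Finset.sum_congr rfl fun φ _ => ?_
      rw [irr_apply_one_eq_deg]; ring
    have h4 := sum_deg_sq_nat (G := F.C)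
    rw [← Finset.sum_add_sum_compl S0] at h4
    obtain ⟨q, hq⟩ := Nat.exists_eq_add_of_le D.hp.one_lt.le
    rw [hq, Nat.add_sub_cancel_left]
    rw [hq] at h3
    nlinarith [h3, h4]
  have hdeg : ∀ φ ∈ S0, deg (φ : F.C → ℂ) = 2 * p := fun φ hφ => by
    apply Nat.cast_injective (R := ℂ)
    rw [← irr_apply_one_eq_deg, (hfacts φ hφ).deg]; push_cast; rfl
  rw [Finset.sum_congr rfl (g := fun _ => (2 * p) ^ 2) fun φ hφ => by rw [hdeg φ hφ],
    Finset.sum_const, smul_eq_mul, F.card_C, Frame.m] at hcount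
  have hlow : S0.card * (2 * p) ≤ deg (χ : G → ℂ) := by
    have h : deg (χ : G → ℂ) = ∑ φ : IrrCharacter F.C, m φ * deg (φ : F.C → ℂ) := by
      apply Nat.cast_injective (R := ℂ)
      rw [← IsCharacter.apply_one_eq_deg (isCharacter_of_irr χ.2),
        show (χ : G → ℂ) 1 = res 1 from rfl, hm]
      simp [Finset.sum_apply, irr_apply_one_eq_deg]
    rw [h]
    refine le_trans ?_ (Finset.sum_le_univ_sum_of_nonneg (s := S0) fun _ => Nat.zero_le _)
    rw [← smul_eq_mul S0.card, ← Finset.sum_const]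
    refine Finset.sum_le_sum fun φ hφ => ?_
    rw [hdeg φ hφ]
    exact Nat.le_mul_of_pos_left _ (hpos φ hφ)
  have hn : 2 ^ (F.n - 1) = 2 ^ (F.n - 2) * 2 := by
    rw [← pow_succ]; congr 1; have := F.three_le; omega
  calc 2 ^ (F.n - 1) * (p - 1) * Nat.card F.O = p ^ 2 * (S0.card * (2 * p)) := by rw [hn]; nlinarith [hcount]
    _ ≤ _ := Nat.mul_le_mul_left _ hlow

end Cfsg.Lib.GWD.Chr
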