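import Cfsg.Agent.GWDihedral.Chars.Members
import Cfsg.Agent.GWDihedral.Chars.InvDegree

/-!
# Inverted kind: the non-linear characters

The degree bound makes the left side of the identity of `θ` small and that of the principal character large.
-/

set_option autoImplicit false
set_option linter.unusedSectionVars false
set_option linter.style.haveILetI false

namespace Cfsg.Lib.GWD.Chr

open Cfsg Cfsg.Lib.Chars Cfsg.Lib.Blocks
open scoped ComplexConjugate

universe u

variable {G : Type u} [Group G] [Fintype G] {F : Frame G} [Fintype F.O] {M : Ideal AlgInt}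

/-- An extension of the principal character with value one at the reflections. -/
theorem exists_ext_principal (F : Frame G) [Fintype F.O] : ∃ E : Ext F (principal F.O), E.val = 1 := by
  have key : ∀ θ : IrrCharacter F.O, (∀ a, (θ : F.O → ℂ) a = 1) → ∃ E : Ext F θ, E.val = 1 := by
    intro θ hθ
    obtain ⟨E, hE⟩ := exists_ext_linear F (1 : ↥F.O →* ℂˣ) fun _ _ _ _ _ => rfl
    rw [show θ = ⟨fun a => ((1 : ↥F.O →* ℂˣ) a : ℂ), isIrrCharacter_linear _⟩ from
      Subtype.ext (funext fun a => by rw [hθ a]; simp)]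
    exact ⟨E, hE⟩
  exact key _ fun _ => rfl

variable [Fintype F.C]

/-- The identity of the principal character bounds the order of `G` from the other side. -/
theorem order_ge (hM : IsPModular 2 M) (hs2 : ∀ y ∈ F.O, Commute (F.s ^ 2) y)
    (hU : F.n ≠ 3 ∨ ∀ y ∈ F.O, Commute F.s y) (hall : ∀ x : G, orderOf x = 2 → IsConj F.t x)
    {E : Ext F (principal F.O)} (hval : E.val = 1) {x0 : ℚ} (hx0 : 0 < x0)
    (hx : ∀ χ : IrrCharacter G, E.c false χ ≠ 0 → χ ≠ principal G → x0 ≤ (deg (χ : G → ℂ) : ℚ)) :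
    (x0 - (2 : ℚ) ^ F.n) * (Nat.card G : ℚ) ≤
      8 * (F.m : ℚ) ^ 3 * (1 / (F.w₁ : ℚ) + 1 / (F.w₂ : ℚ)) ^ 2 * x0 := by
  classical
  have hθ := invD_principal F F.S
  have h1 : deg ((principal F.O : IrrCharacter F.O) : F.O → ℂ) = 1 := by
    apply Nat.cast_injective (R := ℂ)
    rw [← irr_apply_one_eq_deg, Nat.cast_one]
    rfl
  have h1G : deg ((principal G : IrrCharacter G) : G → ℂ) = 1 := by
    apply Nat.cast_injective (R := ℂ)
    rw [← irr_apply_one_eq_deg, Nat.cast_one]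
    rfl
  set v : IrrCharacter G → ℤ := fun χ => mu F χ (principal F.O) with hv
  have hid := E.identity_rat hall false (v := v) fun χ hc => by
    rw [E.apply_t_eq hM hs2 hθ (Or.inl hc) hU, h1, Nat.cast_one, mul_one]
  rw [h1, hval, show (sgn false : ℚ) = 1 by simp [sgn]] at hid
  have hsum : ∑ χ : IrrCharacter G, (v χ : ℚ) ^ 2 = (2 : ℚ) ^ F.n := by
    have := congrArg (fun z : ℤ => (z : ℚ)) (sum_mu_sq F hθ)
    push_cast at this
    rw [← this]
    exact Finset.sum_congr rfl fun χ _ => by rw [sq, hv]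
  rw [← Finset.add_sum_erase _ _ (Finset.mem_univ (principal G))] at hsum
  have hv1 : v (principal G) = 1 := by
    rw [hv]; simp only; rw [mu_principal, if_pos rfl]
  have hlow : 1 - (2 : ℚ) ^ F.n / x0 ≤ E.lhs false v := by
    rw [Ext.lhs, ← Finset.add_sum_erase _ _ (Finset.mem_univ (principal G)), Ext.c_principal, hv1, h1G]
    simp only [Bool.false_eq_true, if_false, Int.cast_one, Nat.cast_one, one_mul, one_pow, div_one]
    have hle : -((2 : ℚ) ^ F.n / x0) ≤ ∑ χ ∈ Finset.univ.erase (principal G),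
        (E.c false χ : ℚ) * (v χ : ℚ) ^ 2 / (deg (χ : G → ℂ) : ℚ) := by
      have hle' : ∑ χ ∈ Finset.univ.erase (principal G), (v χ : ℚ) ^ 2 ≤ (2 : ℚ) ^ F.n := by
        rw [hv1] at hsum; push_cast at hsum; linarith
      refine le_trans (neg_le_neg ((div_le_div_iff_of_pos_right hx0).2 hle')) ?_
      rw [Finset.sum_div, ← Finset.sum_neg_distrib]
      refine Finset.sum_le_sum fun χ hχ => ?_
      have hd : (0 : ℚ) < deg (χ : G → ℂ) := by exact_mod_cast deg_irr_pos χ
      have hq : (0 : ℚ) ≤ (v χ : ℚ) ^ 2 / x0 := by positivity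
      rcases E.c_sq_le false χ with e | e | e
      · rw [e]; simp only [Int.cast_zero, zero_mul, zero_div]; linarith
      · rw [e, Int.cast_one, one_mul]
        have : (0 : ℚ) ≤ (v χ : ℚ) ^ 2 / deg (χ : G → ℂ) := by positivity
        linarith
      · rw [e, Int.cast_neg, Int.cast_one, neg_one_mul, neg_div]
        refine neg_le_neg ?_
        gcongr
        exact hx χ (by rw [e]; norm_num) (Finset.ne_of_mem_erase hχ)
    linarith
  calc (x0 - (2 : ℚ) ^ F.n) * (Nat.card G : ℚ) = (1 - (2 : ℚ) ^ F.n / x0) * x0 * (Nat.card G : ℚ) := by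
        field_simp
    _ ≤ E.lhs false v * x0 * (Nat.card G : ℚ) := by gcongr
    _ = E.lhs false v * ((1 : ℕ) * (Nat.card G : ℚ)) * x0 := by push_cast; ring
    _ = _ := by rw [hid]; push_cast; ring

end Cfsg.Lib.GWD.Chr

namespace Cfsg.Lib.GWD.Chr

open Cfsg Cfsg.Lib.Chars Cfsg.Lib.Blocks

universe u

variable {G : Type u} [Group G] [Finite G]

/-- The statement for the non-linear characters of the inverted kind. -/
theorem invertedSpec (F : Frame G) (hm : Minimal G) : F.InvertedSpec := by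
  intro K A z p D θ ψ hr hzθ _ hne hbig
  classical
  letI := Fintype.ofFinite G
  letI := Fintype.ofFinite F.O
  letI := Fintype.ofFinite F.C
  haveI := hm.simple
  obtain ⟨M, hM⟩ := Cfsg.Lib.Blocks.exists_isPModular (p := 2) Nat.prime_two
  have hs : ∀ y ∈ F.O, Commute F.s y := fun y hy => D.s_cent y hy
  have hs2 : ∀ y ∈ F.O, Commute (F.s ^ 2) y := fun y hy => (hs y hy).pow_left 2
  have hU : F.n ≠ 3 ∨ ∀ y ∈ F.O, Commute F.s y := Or.inr hs
  have hr' : ∀ a b : F.O, (b : G) = F.r * a * F.r⁻¹ → (θ : F.O → ℂ) b = (θ : F.O → ℂ) a :=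
    fun a b e => hr a b e.symm
  have hθS : InvD F F.S (θ : F.O → ℂ) := fixed_of_gen F (fun a b e => by
    rw [show b = a from Subtype.ext (by rw [e, (hs a a.2).eq, mul_inv_cancel_right])]) hr'
  have hall : ∀ x : G, orderOf x = 2 → IsConj F.t x := fun x hx => hm.one_class F.t_order hx
  obtain ⟨E⟩ := exists_ext_central F hM hs θ hr'
  obtain ⟨E₀, hE₀⟩ := exists_ext_principal F
  have hp2 : 2 ≤ p := D.hp.two_le
  set x0 : ℚ := ((2 ^ (F.n - 1) * (p - 1) * Nat.card F.O : ℕ) : ℚ) / (p : ℚ) ^ 2 with hx0def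
  have hx0 : 0 < x0 := by
    have : 0 < 2 ^ (F.n - 1) * (p - 1) * Nat.card F.O :=
      Nat.mul_pos (Nat.mul_pos (Nat.two_pow_pos _) (by omega)) Nat.card_pos
    have : (0 : ℚ) < p := by exact_mod_cast (show 0 < p by omega)
    rw [hx0def]; positivity
  have hdeg : ∀ (η : IrrCharacter F.O), InvD F F.S (η : F.O → ℂ) →
      (∀ a b : F.O, z * (a : G) = b → (η : F.O → ℂ) b = (η : F.O → ℂ) a) → ∀ (E' : Ext F η) (χ : IrrCharacter G),
      E'.c false χ ≠ 0 → χ ≠ principal G → x0 ≤ (deg (χ : G → ℂ) : ℚ) := by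
    intro η hη hzη E' χ hc hχ
    have hdeg' := inverted_degree D χ (fun e => D.z1 (faithful hχ e)) fun y hy k hk => by
      have hzy : z * y ∈ F.O := mul_mem (z_mem_O D) hy
      obtain ⟨a, ha⟩ := E'.section_scalar hM hs2 hη (Or.inl hc) hU
        (z := F.s ^ k) (Subgroup.mem_zpowers_iff.2 ⟨k, rfl⟩) hk fun w hw => (hs w hw).zpow_left k
      rw [← ((hs _ hzy).zpow_left k).eq, ← ((hs _ hy).zpow_left k).eq]
      exact ((ha ⟨_, hzy⟩).trans (by rw [hzη ⟨y, hy⟩ ⟨_, hzy⟩ rfl])).trans (ha ⟨y, hy⟩).symm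
    rw [hx0def, div_le_iff₀ (by positivity), mul_comm ((deg (χ : G → ℂ) : ℕ) : ℚ)]
    exact_mod_cast hdeg'
  have hne' : θ ≠ principal F.O := fun e => hne (by rw [e]; rfl)
  have h1 := E.order_le hM hs2 hθS hU hall hx0 fun χ hc =>
    hdeg θ hθS hzθ E χ hc (E.ne_principal hM hs2 hθS hne' (Or.inl hc))
  have h2 := order_ge hM hs2 hU hall hE₀ hx0 fun χ hc hχ =>
    hdeg _ (invD_principal F F.S) (fun _ _ _ => rfl) E₀ χ hc hχ
  set h := deg (θ : F.O → ℂ)
  have h3 : (x0 - (2 : ℚ) ^ F.n) ≤ (h : ℚ) ^ 3 * (2 : ℚ) ^ F.n :=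
    le_of_mul_le_mul_right (h2.trans h1) (by exact_mod_cast Nat.card_pos)
  have hn : (2 : ℚ) ^ F.n = 2 ^ (F.n - 1) * 2 := by
    rw [← pow_succ]; congr 1; have := F.three_le; omega
  have h4 : x0 * (p : ℚ) ^ 2 = (2 : ℚ) ^ (F.n - 1) * (((p - 1 : ℕ) : ℚ) * Nat.card F.O) := by
    rw [hx0def, div_mul_cancel₀ _ (pow_ne_zero 2 (by exact_mod_cast (show p ≠ 0 by omega)))]
    push_cast; ring
  have h5 : ((p ^ 2 * (2 * h ^ 3 + 2) : ℕ) : ℚ) < (((p - 1) * Nat.card F.O : ℕ) : ℚ) := by exact_mod_cast hbig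
  push_cast at h5
  have hp0 : (0 : ℚ) ≤ (p : ℚ) ^ 2 := by positivity
  have h6 := mul_le_mul_of_nonneg_right h3 hp0
  have h7 : (0 : ℚ) < 2 ^ (F.n - 1) := by positivity
  have h8 := mul_lt_mul_of_pos_left h5 h7
  rw [hn] at h6
  nlinarith [h4, h6, h8]

end Cfsg.Lib.GWD.Chr
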