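import Cfsg.Agent.GWDihedral.Chars.Three.Count
import Cfsg.Agent.GWDihedral.Chars.Inverted

/-!
# The three statements of the character layer
-/

set_option autoImplicit false
set_option linter.unusedSectionVars false
set_option linter.style.haveILetI false

namespace Cfsg.Lib.GWD.Chr

open Cfsg Cfsg.Lib.Chars Cfsg.Lib.Blocks
open scoped ComplexConjugate commutatorElement

universe u

variable {G : Type u} [Group G] [Fintype G] {F : Frame G} [Fintype F.O] [Fintype F.C]

theorem c_principal' {θ : IrrCharacter F.O} (h : θ = principal F.O) (E : Ext F θ) (i : Bool) :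
    E.c i (principal G) = if i then 0 else 1 := by
  subst h
  exact Ext.c_principal i

/-- The two values of `kval`. -/
theorem kval_bounds (hm : Minimal G) :
    32 / 45 ≤ kval F false ∧ kval F false ≤ 32 / 21 ∧ 0 ≤ kval F true := by
  obtain ⟨hlo, hup, -⟩ := F.bounds hm
  have hG : (0 : ℚ) < Nat.card G := by exact_mod_cast Nat.card_pos
  have hw₁ : (0 : ℚ) < F.w₁ := by exact_mod_cast F.w₁_pos
  have hw₂ : (0 : ℚ) < F.w₂ := by exact_mod_cast F.w₂_pos
  have e : kval F false * ((Nat.card G : ℚ) * ((F.w₁ : ℚ) * F.w₂) ^ 2) =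
      8 * (F.m : ℚ) ^ 3 * ((F.w₁ : ℚ) + F.w₂) ^ 2 := by
    rw [kval, show (sgn false : ℚ) = 1 by simp [sgn]]
    field_simp
    ring
  have hpos : (0 : ℚ) < (Nat.card G : ℚ) * ((F.w₁ : ℚ) * F.w₂) ^ 2 := by positivity
  refine ⟨le_of_mul_le_mul_right ?_ hpos, le_of_mul_le_mul_right ?_ hpos, ?_⟩
  · rw [e]; linarith
  · rw [e]; linarith
  · rw [kval]; positivity

variable {M : Ideal AlgInt} {f g₁ g₂ : ↥F.O →* ℂˣ} (E : Ext F (lin f))

/-- The members which are not principal have degree at least twelve. -/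
theorem Ext.twelve_le [IsSimpleGroup G] (hM : IsPModular 2 M) (hn : F.n = 3)
    (hf : InvD F F.S (lin f : F.O → ℂ)) (hT : IsMulCommutative F.four₁.T)
    (hK : ⁅F.four₁.T, F.four₁.W⁆ ≠ ⊥) (h₁ : IsLift (side₁ F) f g₁) (h₂ : IsLift (side₂ F) f g₂)
    {χ : IrrCharacter G} (hne : χ ≠ principal G) (h : E.c false χ ≠ 0 ∨ E.c true χ ≠ 0) :
    12 ≤ deg (χ : G → ℂ) := by
  have h12 := linear_degree F χ (comm_sq hn) hT hK (fun g hg => faithful hne hg) fun j hj k hk y hy => by
    have e : F.s ^ (2 * j) = F.t := by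
      rw [pow_mul, sq_eq_t hn] at hj ⊢
      rcases Nat.even_or_odd j with ⟨i, rfl⟩ | ⟨i, rfl⟩
      · exact absurd (by rw [← two_mul, pow_mul, pow_two, t_mul_t, one_pow]) hj
      · rw [pow_succ, pow_mul, pow_two, t_mul_t, one_pow, one_mul]
    rw [e]
    exact E.inv_three hM hn hf h₁ h₂ h hk hy
  rw [hn] at h12
  norm_num at h12
  exact h12

theorem abs_signed {c : ℤ} {d : ℕ} (hc : c = 0 ∨ c = 1 ∨ c = -1) (hc0 : c ≠ 0) (hd : 12 ≤ d) :
    12 ≤ |c * (d : ℤ)| := by
  rcases hc.resolve_left hc0 with e | e <;> rw [e] <;> simp <;> omega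

theorem principal_deg_eq : deg ((principal G : IrrCharacter G) : G → ℂ) = 1 := by
  apply Nat.cast_injective (R := ℂ)
  rw [← irr_apply_one_eq_deg, Nat.cast_one]
  rfl

end Cfsg.Lib.GWD.Chr

namespace Cfsg.Lib.GWD.Chr

open Cfsg Cfsg.Lib.Chars Cfsg.Lib.Blocks

universe u

variable {G : Type u} [Group G] [Finite G]

/-- The statement for the abelian ending. -/
theorem linearSpec (F : Frame G) (hm : Minimal G) : F.LinearSpec := by
  intro hs2' hT hK f hfs hfr hlift
  classical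
  letI := Fintype.ofFinite G
  letI := Fintype.ofFinite F.O
  letI := Fintype.ofFinite F.C
  have hinvf : ∀ u ∈ F.S, ∀ a b : F.O, (b : G) = u * a * u⁻¹ → f b = f a :=
    fixed_of_gen F (fun a b e => hfs a b e.symm) fun a b e => hfr a b e.symm
  intro x
  by_cases hn : F.n = 3
  swap
  · exact linear_of_ne_three hm hn hs2' hT hK f hinvf x
  haveI := hm.simple
  obtain ⟨M, hM⟩ := Cfsg.Lib.Blocks.exists_isPModular (p := 2) Nat.prime_two
  have hall : ∀ x : G, orderOf x = 2 → IsConj F.t x := fun x hx => hm.one_class F.t_order hx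
  by_contra hx
  have hf : InvD F F.S (lin f : F.O → ℂ) := fun u hu a b e => by rw [lin_apply, lin_apply, hinvf u hu a b e]
  have hne : lin f ≠ principal F.O := lin_ne_principal hx
  -- the lifts
  obtain ⟨g₁, h₁⟩ := exists_lift (side₁ F) f fun a b haT haW hab => by
    have h1 := r_inv_T₁ F hT haT
    have h2 : F.r * (a : G) * F.r⁻¹ = a := by
      have := ((mem_WD F (side₁ F).t_mem).1 haW).1 _ F.four₁.u_mem_U
      rw [show F.four₁.u = F.r from rfl] at this
      rw [this.eq, mul_inv_cancel_right]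
    have ha : (a : G) = 1 := Cfsg.Lib.GW.Frame.eq_one_of_fixed_inverted
      (Nat.not_even_iff_odd.1 fun h => odd_O F a.2 h.two_dvd) h2 h1
    have hb : b = 1 := Subtype.ext (by rw [← hab, ha]; simp)
    rw [hb, map_one]
  obtain ⟨g₂, h₂⟩ := exists_lift (side₂ F) f fun a b haT haW hab =>
    hlift a b haT ((side₂ F).mem_W.2 haW) hab
  -- the principal character
  have hone : InvD F F.S (lin (1 : ↥F.O →* ℂˣ) : F.O → ℂ) := fun _ _ _ _ _ => rfl
  have h1p : lin (1 : ↥F.O →* ℂˣ) = principal F.O := Subtype.ext (funext fun a => by simp [lin_apply]; rfl)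
  obtain ⟨E₀, hE₀⟩ : ∃ E : Ext F (lin (1 : ↥F.O →* ℂˣ)), E.val = 1 := exists_ext_linear F (1 : ↥F.O →* ℂˣ) fun _ _ _ _ _ => rfl
  have L₁ : IsLift (side₁ F) 1 1 := isLift_one _
  have L₂ : IsLift (side₂ F) 1 1 := isLift_one _
  obtain ⟨A, P, Q, R, R', x₁, y₁, x₂, y₂, ⟨⟨hA, hA'⟩, ⟨hP, hP'⟩, ⟨hQ, hQ'⟩, hR, hR'⟩, hsup, hx₁, hx₂, -, -, hrel⟩ :=
    Ext.exists_rel E₀ hM hn hall hone hE₀ L₁ L₂
  obtain ⟨rfl, rfl⟩ := hx₁ not_moved_one
  obtain ⟨rfl, rfl⟩ := hx₂ not_moved_one
  have hcp := c_principal' h1p E₀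
  have hnp : ∀ χ, E₀.c true χ ≠ 0 → χ ≠ principal G := fun χ h e => h (by rw [e, hcp true]; rfl)
  have hbigp : ∀ (i : Bool) (χ : IrrCharacter G), E₀.c i χ ≠ 0 → χ ≠ principal G →
      12 ≤ |E₀.c i χ * (deg (χ : G → ℂ) : ℤ)| := fun i χ h h' => abs_signed (E₀.c_sq_le i χ) h
    (E₀.twelve_le hM hn hone hT hK L₁ L₂ h' (by cases i <;> [exact Or.inl h; exact Or.inr h]))
  have ha := hbigp false A hA (hnp A hA')
  have hr := hbigp true R hR (hnp R hR)
  have hr' := hbigp true R' hR' (hnp R' hR')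
  have i₁ := hrel.id₁
  have i₂ := hrel.id₂
  norm_num at i₁ i₂
  have hpf : ∃ b : ℤ, 12 ≤ |b| ∧ 5 / 6 ≤ kval F false - kval F true ∧
      kval F false * ((b : ℚ) * (b + 1)) = ((b : ℚ) - 1) ^ 2 := by
    have hd := hrel.deg₁
    have hP1 : P = principal G ∨ Q = principal G := by
      rcases hsup (principal G) (by rw [hcp false]; decide) with e | e | e
      · exact absurd e.symm (hnp A hA')
      · exact Or.inl e.symm
      · exact Or.inr e.symm
    rcases hP1 with hP1 | hQ1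
    · rw [hP1, hcp false, principal_deg_eq] at i₁ hd
      have hQne : Q ≠ principal G := fun e => by
        rw [e, hcp false, principal_deg_eq] at hd
        simp only [Bool.false_eq_true, if_false, Nat.cast_one, mul_one] at hd
        rw [le_abs] at ha; omega
      have hq := hbigp false Q hQ hQne
      simp only [Bool.false_eq_true, if_false, Int.cast_one, Nat.cast_one, mul_one, one_mul, inv_one] at i₁ hd
      refine ⟨_, hq, principal_facts hd hrel.deg₂ ha hq hr hr' ?_ ?_⟩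
      · push_cast; linear_combination i₁
      · push_cast; linear_combination i₂
    · rw [hQ1, hcp false, principal_deg_eq] at i₁ hd
      have hPne : P ≠ principal G := fun e => by
        rw [e, hcp false, principal_deg_eq] at hd
        simp only [Bool.false_eq_true, if_false, Nat.cast_one, mul_one] at hd
        rw [le_abs] at ha; omega
      have hp := hbigp false P hP hPne
      simp only [Bool.false_eq_true, if_false, Int.cast_one, Nat.cast_one, mul_one, one_mul, inv_one] at i₁ hd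
      refine ⟨_, hp, principal_facts (by linarith) hrel.deg₂ ha hp hr hr' ?_ ?_⟩
      · push_cast; linear_combination i₁
      · push_cast; linear_combination i₂
  obtain ⟨b, hb, hΦ, hb₁⟩ := hpf
  -- the character `f`
  obtain ⟨E, hE⟩ : ∃ E : Ext F (lin f), E.val = 1 := exists_ext_linear F f hinvf
  obtain ⟨A', P', Q', S', S'', u₁, v₁, u₂, v₂, ⟨⟨hA₁, hA₂⟩, ⟨hP₁, -⟩, ⟨hQ₁, -⟩, hS₁, hS₂⟩, -, -, -, hp4, hq4, hrel'⟩ :=
    Ext.exists_rel E hM hn hall hf hE h₁ h₂
  have hnpf : ∀ χ, (E.c false χ ≠ 0 ∨ E.c true χ ≠ 0) → χ ≠ principal G :=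
    fun χ h => E.ne_principal hM (comm_sq hn) hf hne h
  have hbig : ∀ (i : Bool) (χ : IrrCharacter G), E.c i χ ≠ 0 → 12 ≤ |E.c i χ * (deg (χ : G → ℂ) : ℤ)| :=
    fun i χ h => abs_signed (E.c_sq_le i χ) h (E.twelve_le hM hn hf hT hK h₁ h₂
      (hnpf χ (by cases i <;> [exact Or.inl h; exact Or.inr h])) (by cases i <;> [exact Or.inl h; exact Or.inr h]))
  obtain ⟨hlo, hhi, hk2⟩ := kval_bounds (F := F) hm
  exact hrel'.absurd ⟨hbig false A' hA₁, hbig false P' hP₁, hbig false Q' hQ₁, hbig true S' hS₁, hbig true S'' hS₂⟩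
    hp4 hq4 hlo hhi hk2 hb hb₁ hΦ

/-- The three statements. -/
theorem charSpecs (G : Type u) [Group G] [Finite G] (F : Frame G) (hm : Minimal G) :
    F.LinearSpec ∧ F.LinearFixedSpec ∧ F.InvertedSpec :=
  ⟨linearSpec F hm, linearFixedSpec F hm, invertedSpec F hm⟩

end Cfsg.Lib.GWD.Chr
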