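import Cfsg.Agent.Blocks.KleinColumns
import Cfsg.Agent.Blocks.GlaubermanApi
import Cfsg.Agent.Chars.Gallagher
import Cfsg.Agent.Chars.Construct

/-!
# Residues modulo two: independence, correspondents, and central characters read off a section

If `y ↦ χ (z y)` on the odd part `L` of `C(z)` has a non-zero coefficient at `ζ`, the residue of the central character
of `χ` at an element `v` of odd order is the sum of the residues of `ζ` over the elements of `L` conjugate to `v`.
-/

set_option autoImplicit false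
set_option linter.unusedSectionVars false
set_option linter.style.haveILetI false

namespace Cfsg.Lib.GWD.Chr

open Cfsg Cfsg.Lib.Chars Cfsg.Lib.Blocks
open scoped ComplexConjugate

universe u v

variable {M : Ideal AlgInt}

theorem res_natCast_odd (hM : IsPModular 2 M) {n : ℕ} (h : ¬ 2 ∣ n) : (n : Res M) = 1 := by
  haveI := charP_res hM
  haveI : Fact (Nat.Prime 2) := ⟨Nat.prime_two⟩
  obtain ⟨k, rfl⟩ := Nat.not_even_iff_odd.1 fun e => h (even_iff_two_dvd.1 e)
  rw [Nat.cast_add, Nat.cast_mul, Nat.cast_ofNat, CharTwo.two_eq_zero, zero_mul, zero_add, Nat.cast_one]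

theorem apply_mem_place (hM : IsPModular 2 M) {H : Type u} [Group H] [Finite H] {χ : H → ℂ}
    (hχ : IsCharacter H χ) (g : H) : χ g ∈ place M :=
  isIntegral_mem_place hM (IsCharacter.isIntegral hχ g)

section Odd

variable {W : Type u} [Group W] [Fintype W]

/-- Orthogonality modulo two on a group of odd order. -/
theorem res_pair (hM : IsPModular 2 M) (hW : ¬ 2 ∣ Nat.card W) (γ β : IrrCharacter W)
    [Decidable (γ = β)] :
    ∑ v : W, res M (conj ((β : W → ℂ) v)) * res M ((γ : W → ℂ) v) = if γ = β then 1 else 0 := by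
  have hc : ∀ v : W, conj ((β : W → ℂ) v) ∈ place M := fun v => by
    rw [← IsCharacter.conj_inv (isCharacter_of_irr β.2)]
    exact apply_mem_place hM (isCharacter_of_irr β.2) _
  rw [Finset.sum_congr rfl fun v _ => (res_mul (hc v) (apply_mem_place hM (isCharacter_of_irr γ.2) v)).symm,
    ← res_sum _ _ fun v _ => mul_mem (hc v) (apply_mem_place hM (isCharacter_of_irr γ.2) v)]
  have h1 := classInner_irrCharacter γ β
  rw [classInner_def, inv_mul_eq_iff_eq_mul₀ (Nat.cast_ne_zero.2 Nat.card_pos.ne')] at h1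
  rw [Finset.sum_congr rfl (g := fun v : W => (γ : W → ℂ) v * conj ((β : W → ℂ) v)) fun v _ => mul_comm _ _, h1]
  split_ifs
  · rw [mul_one, res_natCast, res_natCast_odd hM hW]
  · rw [mul_zero, res_zero]

/-- The coefficients of a residue combination are its pairings. -/
theorem res_coeff (hM : IsPModular 2 M) (hW : ¬ 2 ∣ Nat.card W) (a : IrrCharacter W → Res M) (β : IrrCharacter W) :
    ∑ v : W, res M (conj ((β : W → ℂ) v)) * ∑ γ, a γ * res M ((γ : W → ℂ) v) = a β := by
  classical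
  simp only [Finset.mul_sum]
  rw [Finset.sum_comm, Finset.sum_congr rfl (g := fun γ => a γ * if γ = β then 1 else 0) fun γ _ => ?_]
  · simp
  · rw [← res_pair hM hW γ β, Finset.mul_sum]
    exact Finset.sum_congr rfl fun v _ => by ring

theorem eq_of_res_eq (hM : IsPModular 2 M) (hW : ¬ 2 ∣ Nat.card W) {γ β : IrrCharacter W}
    (h : ∀ v, res M ((γ : W → ℂ) v) = res M ((β : W → ℂ) v)) : γ = β := by
  classical
  have h1 := res_pair hM hW γ β
  simp only [h, res_pair hM hW β β, if_pos rfl] at h1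
  by_contra hne
  rw [if_neg hne] at h1
  exact one_ne_zero h1

end Odd

section Corr

variable {K : Type u} [Group K] [Fintype K] {A : Type v} [Group A] [Finite A] {W : Type u} [Group W] [Fintype W]
  {φ : A →* MulAut K} {ι : W →* K}

/-- `β` has the residues of `ζ`. -/
def RC (M : Ideal AlgInt) (ι : W →* K) (ζ : IrrCharacter K) (β : IrrCharacter W) : Prop :=
  ∀ v : W, res M ((ζ : K → ℂ) (ι v)) = res M ((β : W → ℂ) v)

theorem corr_rc (hM : IsPModular 2 M) (hA : IsPGroup 2 A) (hK : ¬ 2 ∣ Nat.card K) (hf : Glauberman.IsFixed φ ι)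
    {ζ : IrrCharacter K} (hζ : Glauberman.Inv φ (ζ : K → ℂ)) {β : IrrCharacter W}
    (hβ : Glauberman.Corr 2 ι ζ β) : RC M ι ζ β := by
  classical
  haveI : Fact (Nat.Prime 2) := ⟨Nat.prime_two⟩
  haveI := charP_res hM
  intro v
  have hu := Glauberman.existsUnique_corr hA hK hf hζ
  have hχ : IsCharacter W (fun c : W => (ζ : K → ℂ) (ι c)) :=
    IsCharacter.comp_hom (isCharacter_of_irr ζ.2) ι
  obtain ⟨m, hm⟩ := IsCharacter.exists_decomp hχ
  have hval : ∀ γ : IrrCharacter W, classInner (fun c : W => (ζ : K → ℂ) (ι c)) (γ : W → ℂ) = (m γ : ℂ) := fun γ => by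
    rw [hm, show (∑ ψ : IrrCharacter W, m ψ • (ψ : W → ℂ)) = ∑ ψ, (m ψ : ℂ) • (ψ : W → ℂ) by
      simp [Nat.cast_smul_eq_nsmul], classInner_irrSum]
  have hodd : ∀ γ : IrrCharacter W, (m γ : Res M) = if γ = β then 1 else 0 := by
    intro γ
    split_ifs with h
    · subst h
      obtain ⟨n, hn, hnd⟩ := hβ
      rw [hval, Nat.cast_inj] at hn
      subst hn
      exact res_natCast_odd hM hnd
    · refine (res_natCast_eq_zero_iff hM _).2 ?_
      by_contra hd
      exact h (hu.unique ⟨m γ, hval γ, hd⟩ hβ)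
  have e := congrFun hm v
  simp only [Finset.sum_apply, Pi.smul_apply, nsmul_eq_mul, Pi.natCast_def, Pi.mul_apply] at e
  rw [e, res_sum _ _ fun γ _ => mul_mem (natCast_mem_place _) (apply_mem_place hM (isCharacter_of_irr γ.2) _),
    Finset.sum_congr rfl fun γ _ => by
      rw [res_mul (natCast_mem_place _) (apply_mem_place hM (isCharacter_of_irr γ.2) _), res_natCast, hodd γ],
    Finset.sum_eq_single β (fun γ _ h => by rw [if_neg h, zero_mul]) (fun h => absurd (Finset.mem_univ _) h),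
    if_pos rfl, one_mul]

theorem exists_rc (hM : IsPModular 2 M) (hA : IsPGroup 2 A) (hK : ¬ 2 ∣ Nat.card K) (hf : Glauberman.IsFixed φ ι)
    {ζ : IrrCharacter K} (hζ : Glauberman.Inv φ (ζ : K → ℂ)) :
    ∃ β : IrrCharacter W, RC M ι ζ β ∧ Glauberman.Corr 2 ι ζ β := by
  haveI : Fact (Nat.Prime 2) := ⟨Nat.prime_two⟩
  obtain ⟨β, hβ⟩ := (Glauberman.existsUnique_corr hA hK hf hζ).exists
  exact ⟨β, corr_rc hM hA hK hf hζ hβ, hβ⟩

/-- Two invariant characters with one correspondent are equal. -/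
theorem rc_injective (hM : IsPModular 2 M) (hA : IsPGroup 2 A) (hK : ¬ 2 ∣ Nat.card K) (hf : Glauberman.IsFixed φ ι)
    {ζ ζ' : IrrCharacter K} (hζ : Glauberman.Inv φ (ζ : K → ℂ)) (hζ' : Glauberman.Inv φ (ζ' : K → ℂ))
    {β : IrrCharacter W} (h : RC M ι ζ β) (h' : RC M ι ζ' β) : ζ = ζ' := by
  haveI : Fact (Nat.Prime 2) := ⟨Nat.prime_two⟩
  have hW : ¬ 2 ∣ Nat.card W := Glauberman.card_fixed_not_dvd hK hf
  obtain ⟨γ, hγ, hγc⟩ := exists_rc hM hA hK hf hζ
  obtain ⟨γ', hγ', hγc'⟩ := exists_rc hM hA hK hf hζ'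
  obtain rfl : γ = β := eq_of_res_eq hM hW fun v => (hγ v).symm.trans (h v)
  obtain rfl : γ' = γ := eq_of_res_eq hM hW fun v => (hγ' v).symm.trans (h' v)
  exact Glauberman.corr_injective hA hK hf hζ hζ' hγc hγc'

theorem exists_rc_lift (hM : IsPModular 2 M) (hA : IsPGroup 2 A) (hK : ¬ 2 ∣ Nat.card K)
    (hf : Glauberman.IsFixed φ ι) (β : IrrCharacter W) :
    ∃ ζ : IrrCharacter K, Glauberman.Inv φ (ζ : K → ℂ) ∧ RC M ι ζ β := by
  haveI : Fact (Nat.Prime 2) := ⟨Nat.prime_two⟩
  obtain ⟨ζ, hζ, hc⟩ := Glauberman.corr_surjective hA hK hf β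
  exact ⟨ζ, hζ, corr_rc hM hA hK hf hζ hc⟩

end Corr

section Induced

variable {G : Type u} [Group G] [Fintype G]

theorem res_translate (hM : IsPModular 2 M) {χ : G → ℂ} (hχ : IsCharacter G χ) {z y : G}
    (hz : ∃ k : ℕ, orderOf z = 2 ^ k) (hc : Commute z y) (hy : ¬ 2 ∣ orderOf y) :
    res M (χ (z * y)) = res M (χ y) :=
  (res_eq_iff (apply_mem_place hM hχ _) (apply_mem_place hM hχ _)).2 (small_apply_mul_sub hM hχ hc hz hy)

/-- The residue of the central character, read off the section of `z`. -/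
theorem res_centralChar_section (hM : IsPModular 2 M) {z : G} (hz : ∃ k : ℕ, orderOf z = 2 ^ k)
    {L : Subgroup G} [Fintype L] (hL : ∀ y, y ∈ L ↔ Commute z y ∧ ¬ 2 ∣ orderOf y) (hLo : ¬ 2 ∣ Nat.card L)
    {χ : IrrCharacter G} {ζ : IrrCharacter L}
    (h : classInner (fun y : L => (χ : G → ℂ) (z * y)) (ζ : L → ℂ) ≠ 0)
    {v : G} (hv : ¬ 2 ∣ orderOf v) [DecidablePred fun y : L => IsConj v (y : G)] :
    res M (centralChar (χ : G → ℂ) v) =
      ∑ y ∈ Finset.univ.filter (fun y : L => IsConj v (y : G)), res M ((ζ : L → ℂ) y) := by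
  classical
  haveI := charP_res hM
  set H : Subgroup G := Subgroup.centralizer ({z} : Set G) with hHd
  have hH : H = Subgroup.centralizer (Subgroup.zpowers z : Set G) := (centralizer_zpowers z).symm
  have hmemH : ∀ {c : G}, c ∈ H → Commute z c := fun hc =>
    (Subgroup.mem_centralizer_singleton_iff.1 hc).symm
  have hLH : L ≤ H := fun y hy => Subgroup.mem_centralizer_singleton_iff.2 ((hL y).1 hy).1.symm.eq
  letI : Fintype H := Fintype.ofFinite _
  set L' : Subgroup H := L.subgroupOf H with hL'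
  haveI : L'.Normal := ⟨fun n hn g => by
    rw [hL', Subgroup.mem_subgroupOf, hL] at hn ⊢
    refine ⟨hmemH (g * n * g⁻¹).2, ?_⟩
    rw [show ((g * n * g⁻¹ : H) : G) = MulAut.conj (g : G) (n : G) from rfl, MulEquiv.orderOf_eq]
    exact hn.2⟩
  letI : Fintype L' := Fintype.ofFinite _
  set e := Subgroup.subgroupOfEquivOfLe hLH with he'
  set ζ' : IrrCharacter L' :=
    ⟨fun n => (ζ : L → ℂ) (e n), IsIrrCharacter.comp_surjective ζ.2 e.toMonoidHom e.surjective⟩ with hζ'
  set f : H → ℂ := fun c => (χ : G → ℂ) (z * c) with hf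
  have hcl : IsClassFunction H f := isClassFunction_translate χ z fun c hc => hmemH hc
  have hres : ∀ g : H → ℂ, classInner (fun n : L' => g n) (ζ' : L' → ℂ) =
      classInner (fun y : L => g (Subgroup.inclusion hLH y)) (ζ : L → ℂ) := fun g =>
    classInner_comp_equiv e.toEquiv (fun y : L => g (Subgroup.inclusion hLH y)) (ζ : L → ℂ)
  obtain ⟨b, hb, hne⟩ : ∃ b, IsPBlock M b ∧ classInner (fun n : L' => blockPart b f n) (ζ' : L' → ℂ) ≠ 0 := by
    by_contra hno
    push Not at hno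
    refine h ?_
    rw [show (fun y : L => (χ : G → ℂ) (z * y)) =
      ∑ b ∈ blocksFinset M H, fun y : L => blockPart b f (Subgroup.inclusion hLH y) from funext fun y => by
        rw [Finset.sum_apply]
        exact (sum_blockPart hM hcl (Subgroup.inclusion hLH y)).symm, classInner_sum_left]
    exact Finset.sum_eq_zero fun b hb => (hres _).symm.trans (hno b ((mem_blocksFinset hM).1 hb))
  obtain ⟨ξ, hξb, hξ⟩ : ∃ ξ ∈ b, classInner (fun n : L' => (ξ : H → ℂ) n) (ζ' : L' → ℂ) ≠ 0 := by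
    by_contra hno
    push Not at hno
    refine hne ?_
    rw [show (fun n : L' => blockPart b f n) = ∑ η ∈ Finset.univ.filter (· ∈ b),
      classInner f (η : H → ℂ) • (fun n : L' => (η : H → ℂ) n) from funext fun n => by
        rw [Finset.sum_apply, blockPart_eq_sum]; rfl, classInner_sum_left]
    exact Finset.sum_eq_zero fun η hη => by
      rw [classInner_smul_left, hno η (Finset.mem_filter.1 hη).2, mul_zero]
  have hind : IsInducedBlock M H b (blockOf M (χ : G → ℂ)) := by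
    by_contra hnot
    refine hne ?_
    rw [show (fun n : L' => blockPart b f n) = 0 from funext fun n =>
      blockPart_translate_eq_zero hM hz hH (isPBlock_blockOf χ) (mem_blockOf_self hM χ) hb hnot n (by
        rw [← Subgroup.orderOf_coe]; exact ((hL _).1 (Subgroup.mem_subgroupOf.1 n.2)).2), classInner_zero_left]
  -- Clifford
  set S0 : Finset L' := Finset.univ.filter fun n : L' => IsConj v ((n : H) : G) with hS0
  obtain ⟨m, hm⟩ := IsCharacter.exists_mult (IsCharacter.restrict (isCharacter_of_irr ξ.2) L') ζ'.2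
  have hm0 : m ≠ 0 := fun e0 => hξ (by rw [hm, e0, Nat.cast_zero])
  have hcl' := clifford L' ξ.2 ζ'.2 hξ
  rw [hm] at hcl'
  have horb : ∀ ψ ∈ conjOrbit L' (ζ' : L' → ℂ),
      ψ 1 = (ζ' : L' → ℂ) 1 ∧ ∑ n ∈ S0, ψ n = ∑ n ∈ S0, (ζ' : L' → ℂ) n := by
    intro ψ hψ
    obtain ⟨g, rfl⟩ := (mem_conjOrbit L').1 hψ
    rw [conjN_eq_comp]
    refine ⟨by simp, ?_⟩
    refine Finset.sum_equiv (MulAut.conjNormal g).toEquiv (fun n => ?_) fun n _ => rfl
    simp only [hS0, Finset.mem_filter, Finset.mem_univ, true_and]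
    have : (((MulAut.conjNormal g).toEquiv n : L') : H) = g * (n : H) * g⁻¹ := MulAut.conjNormal_apply g n
    rw [this]
    have hc : IsConj ((n : H) : G) ((g * (n : H) * g⁻¹ : H) : G) := isConj_iff.2 ⟨g, rfl⟩
    exact ⟨fun h => h.trans hc, fun h => h.trans hc.symm⟩
  have hξ1 : (ξ : H → ℂ) 1 = (m : ℂ) * ((conjOrbit L' (ζ' : L' → ℂ)).card * (ζ' : L' → ℂ) 1) := by
    have := congrFun hcl' 1
    simp only [Pi.smul_apply, Finset.sum_apply, smul_eq_mul, OneMemClass.coe_one] at this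
    rw [this, Finset.sum_congr rfl fun ψ hψ => (horb ψ hψ).1, Finset.sum_const, nsmul_eq_mul]
  have hξS : ∑ n ∈ S0, (ξ : H → ℂ) n =
      (m : ℂ) * ((conjOrbit L' (ζ' : L' → ℂ)).card * ∑ n ∈ S0, (ζ' : L' → ℂ) n) := by
    rw [Finset.sum_congr rfl fun n _ => congrFun hcl' n]
    simp only [Pi.smul_apply, Finset.sum_apply, smul_eq_mul, ← Finset.mul_sum]
    rw [Finset.sum_comm, Finset.sum_congr rfl fun ψ hψ => (horb ψ hψ).2, Finset.sum_const, nsmul_eq_mul]
  have hind' : inducedCentralChar H (ξ : H → ℂ) v =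
      ∑ y ∈ Finset.univ.filter (fun y : L => IsConj v (y : G)), (ζ : L → ℂ) y * ((deg (ζ : L → ℂ) : ℂ))⁻¹ := by
    have h1 : inducedCentralChar H (ξ : H → ℂ) v = ∑ n ∈ S0, (ξ : H → ℂ) n / (ξ : H → ℂ) 1 := by
      unfold inducedCentralChar
      rw [finsum_mem_eq_sum_of_inter_support_eq _
        (t := S0.map ⟨Subtype.val, Subtype.val_injective⟩) ?_, Finset.sum_map]
      · rfl
      · ext c
        simp only [Set.mem_inter_iff, Set.mem_setOf_eq, Function.mem_support, Finset.coe_map,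
          Function.Embedding.coeFn_mk, Set.mem_image, Finset.mem_coe, hS0, Finset.mem_filter, Finset.mem_univ,
          true_and]
        constructor
        · rintro ⟨hc, hne⟩
          refine ⟨⟨⟨c, Subgroup.mem_subgroupOf.2 ((hL _).2 ⟨hmemH c.2, ?_⟩)⟩, hc, rfl⟩, hne⟩
          obtain ⟨g, hg⟩ := isConj_iff.1 hc
          rwa [← hg, show g * v * g⁻¹ = MulAut.conj g v from rfl, MulEquiv.orderOf_eq]
        · rintro ⟨⟨n, hn, rfl⟩, hne⟩
          exact ⟨hn, hne⟩
    have h2 : (ζ' : L' → ℂ) 1 = (deg (ζ : L → ℂ) : ℂ) := by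
      show (ζ : L → ℂ) (e 1) = _
      rw [map_one, irr_apply_one_eq_deg]
    have h3 : ∑ n ∈ S0, (ζ' : L' → ℂ) n = ∑ y ∈ Finset.univ.filter (fun y : L => IsConj v (y : G)), (ζ : L → ℂ) y :=
      Finset.sum_equiv e.toEquiv (fun n => by
        simp only [hS0, Finset.mem_filter, Finset.mem_univ, true_and]; exact Iff.rfl) fun n _ => rfl
    rw [h1, ← Finset.sum_div, hξS, hξ1, h2, h3, ← Finset.sum_mul, ← div_eq_mul_inv]
    have : ((conjOrbit L' (ζ' : L' → ℂ)).card : ℂ) ≠ 0 :=
      Nat.cast_ne_zero.2 (Finset.card_ne_zero.2 ⟨_, (mem_conjOrbit L').2 ⟨1, conjN_one L' _⟩⟩)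
    rw [mul_div_mul_left _ _ (Nat.cast_ne_zero.2 hm0), mul_div_mul_left _ _ this]
  have hodd : ¬ 2 ∣ deg (ζ : L → ℂ) := fun hd => hLo (hd.trans (IsIrrCharacter.deg_dvd ζ.2))
  set h' : ℂ := (deg (ζ : L → ℂ) : ℂ) with hh'
  have hu : (h'⁻¹ : ℂ) ∈ place M := (isUnitAt_natCast hM hodd).inv.mem_place
  have hres1 : res M h'⁻¹ = 1 := by
    have h1 : res M (h'⁻¹ * h') = 1 := by
      rw [inv_mul_cancel₀ (Nat.cast_ne_zero.2 (deg_irr_pos ζ).ne'), res_one]
    rwa [res_mul hu (natCast_mem_place _), res_natCast, res_natCast_odd hM hodd, mul_one] at h1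
  have hint : ∀ y : L, (ζ : L → ℂ) y ∈ place M := fun y => apply_mem_place hM (isCharacter_of_irr ζ.2) y
  have hsmall := hind.2.2 ξ hξb χ (mem_blockOf_self hM χ) v
  rw [← (res_eq_iff (by rw [hind']; exact sum_mem fun y _ => mul_mem (hint y) hu) (centralChar_mem_place hM χ _)).2
    (small_of_memLocalIdeal hM hsmall), hind', res_sum _ _ fun y _ => mul_mem (hint y) hu]
  exact Finset.sum_congr rfl fun y _ => by rw [res_mul (hint y) hu, hres1, mul_one]

end Induced

end Cfsg.Lib.GWD.Chr
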