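import Cfsg.Agent.GWDihedral.Basic
import Cfsg.Agent.GWDihedral.Chars.Residue

/-!
# The frame as seen by the characters

`C = C(t) = O S`; the powers of `s` other than one have their centralisers in `C`; a subgroup `D` of `S` acts on `O`
with fixed points `WD D`.
-/

set_option autoImplicit false
set_option linter.unusedSectionVars false
set_option linter.style.haveILetI false

namespace Cfsg.Lib.GWD.Chr

open Cfsg Cfsg.Lib.Chars Cfsg.Lib.Blocks
open scoped ComplexConjugate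

universe u

variable {G : Type u} [Group G] [Finite G] (F : Frame G)

theorem not_dvd_card_O : ¬ 2 ∣ Nat.card F.O := fun h =>
  Nat.not_even_iff_odd.2 F.odd_card_O (even_iff_two_dvd.2 h)

theorem memO {y : G} : y ∈ F.O ↔ Commute F.t y ∧ ¬ 2 ∣ orderOf y := by
  rw [F.mem_O, ← Nat.not_even_iff_odd, even_iff_two_dvd]
  exact and_congr_left' ⟨fun h => h.symm, fun h => h.symm⟩

theorem odd_O {y : G} (hy : y ∈ F.O) : ¬ 2 ∣ orderOf y := ((memO F).1 hy).2

theorem commute_t {y : G} (hy : y ∈ F.O) : Commute F.t y := ((memO F).1 hy).1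

theorem conj_mem_O {c y : G} (hc : c ∈ F.C) (hy : y ∈ F.O) : c * y * c⁻¹ ∈ F.O :=
  (Subgroup.mem_normalizer_iff.1 (F.C_le_normalizer_O hc) y).1 hy

theorem norm_O {D : Subgroup G} (hD : D ≤ F.C) : ∀ d ∈ D, ∀ y ∈ F.O, d * y * d⁻¹ ∈ F.O :=
  fun _ hd _ hy => conj_mem_O F (hD hd) hy

theorem s_mem_C : F.s ∈ F.C := F.S_le_C F.s_mem_S

theorem r_mem_C : F.r ∈ F.C := F.S_le_C F.r_mem_S

theorem isPGroup_of_le_S {D : Subgroup G} (hD : D ≤ F.S) : IsPGroup 2 D := F.isPGroup_S.to_le hD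

theorem order_two_pow {z : G} (hz : z ∈ Subgroup.zpowers F.s) : ∃ k : ℕ, orderOf z = 2 ^ k := by
  haveI : Fact (Nat.Prime 2) := ⟨Nat.prime_two⟩
  obtain ⟨k, -, hk⟩ := (Nat.dvd_prime_pow Nat.prime_two).1
    (F.s_order ▸ orderOf_dvd_of_mem_zpowers hz : orderOf z ∣ 2 ^ (F.n - 1))
  exact ⟨k, hk⟩

theorem t_mem_zpowers {z : G} (hz : z ∈ Subgroup.zpowers F.s) (hz1 : z ≠ 1) : F.t ∈ Subgroup.zpowers z := by
  obtain ⟨k, hk⟩ := order_two_pow F hz
  have hk0 : k ≠ 0 := fun e => hz1 (orderOf_eq_one_iff.1 (by rw [hk, e, pow_zero]))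
  obtain ⟨j, rfl⟩ : ∃ j, k = j + 1 := ⟨k - 1, by omega⟩
  have h1 : z ^ 2 ^ j ≠ 1 := fun e => by
    have := Nat.le_of_dvd (by positivity) (orderOf_dvd_of_pow_eq_one e)
    rw [hk, pow_succ] at this
    have := Nat.two_pow_pos j
    omega
  have h2 : z ^ 2 ^ j * z ^ 2 ^ j = 1 := by
    rw [← pow_add, ← two_mul, ← pow_succ', ← hk, pow_orderOf_eq_one]
  rcases F.data.sq_zpowers (pow_mem hz _) h2 with e | e
  · exact absurd e h1
  · rw [F.t_eq] at e
    exact e ▸ pow_mem (Subgroup.mem_zpowers z) _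

theorem centralizer_le_C {z : G} (hz : z ∈ Subgroup.zpowers F.s) (hz1 : z ≠ 1) {c : G} (hc : Commute z c) :
    c ∈ F.C := by
  obtain ⟨i, hi⟩ := Subgroup.mem_zpowers_iff.1 (t_mem_zpowers F hz hz1)
  exact F.mem_C.2 (hi ▸ (hc.zpow_left i).symm.eq)

/-- A power of `s` centralising `O` has `O` as the odd part of its centraliser. -/
theorem mem_O_section {z : G} (hz : z ∈ Subgroup.zpowers F.s) (hz1 : z ≠ 1)
    (hzO : ∀ y ∈ F.O, Commute z y) (y : G) : y ∈ F.O ↔ Commute z y ∧ ¬ 2 ∣ orderOf y :=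
  ⟨fun h => ⟨hzO y h, odd_O F h⟩,
    fun h => (memO F).2 ⟨(F.mem_C.1 (centralizer_le_C F hz hz1 h.1)).symm, h.2⟩⟩

/-- The fixed points of `D` in `O`. -/
def WD (D : Subgroup G) : Subgroup G := F.O ⊓ Subgroup.centralizer (D : Set G)

theorem WD_le (D : Subgroup G) : WD F D ≤ F.O := inf_le_left

theorem not_dvd_card_WD (D : Subgroup G) : ¬ 2 ∣ Nat.card (WD F D) := fun h =>
  not_dvd_card_O F (h.trans (Subgroup.card_dvd_of_le (WD_le F D)))

theorem mem_WD {D : Subgroup G} (ht : F.t ∈ D) {y : G} :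
    y ∈ WD F D ↔ (∀ d ∈ D, Commute d y) ∧ ¬ 2 ∣ orderOf y := by
  refine ⟨fun h => ⟨fun d hd => Subgroup.mem_centralizer_iff.1 h.2 d hd, odd_O F h.1⟩, fun h => ⟨?_, ?_⟩⟩
  · exact (memO F).2 ⟨h.1 _ ht, h.2⟩
  · exact Subgroup.mem_centralizer_iff.2 fun d hd => h.1 d hd

theorem conj_mem_WD {D : Subgroup G} (ht : F.t ∈ D) {g y : G} (hg : g ∈ Subgroup.normalizer (D : Set G))
    (hy : y ∈ WD F D) : g * y * g⁻¹ ∈ WD F D := by
  obtain ⟨h1, h2⟩ := (mem_WD F ht).1 hy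
  refine (mem_WD F ht).2 ⟨fun d hd => ?_, by
    rwa [show g * y * g⁻¹ = MulAut.conj g y from rfl, MulEquiv.orderOf_eq]⟩
  have hd' : g⁻¹ * d * g ∈ D := by
    refine (Subgroup.mem_normalizer_iff.1 hg _).2 ?_
    rwa [show g * (g⁻¹ * d * g) * g⁻¹ = d by group]
  have := (h1 _ hd').map (MulAut.conj g).toMonoidHom
  rwa [show (MulAut.conj g).toMonoidHom (g⁻¹ * d * g) = d by simp [mul_assoc]] at this

/-- The inclusion of the fixed points. -/
def ιD (D : Subgroup G) : ↥(WD F D) →* ↥F.O := Subgroup.inclusion (WD_le F D)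

/-- Invariance of a function on `O` under a subgroup. -/
def InvD (D : Subgroup G) (f : F.O → ℂ) : Prop :=
  ∀ d ∈ D, ∀ a b : F.O, (b : G) = d * a * d⁻¹ → f b = f a

theorem InvD.mono {D E : Subgroup G} {f : F.O → ℂ} (h : InvD F D f) (hE : E ≤ D) : InvD F E f :=
  fun d hd => h d (hE hd)

variable {D : Subgroup G}

theorem inv_opHom (hD : D ≤ F.C) {f : F.O → ℂ} (h : InvD F D f) :
    Glauberman.Inv (Glauberman.opHom F.O D (norm_O F hD)) f :=
  (Glauberman.inv_opHom_iff _ f).2 h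

section Corr

variable [Fintype F.O] [Fintype (WD F D)] {M : Ideal AlgInt}

theorem isFixed_WD (hD : D ≤ F.C) :
    Glauberman.IsFixed (Glauberman.opHom F.O D (norm_O F hD)) (ιD F D) :=
  Glauberman.isFixed_opHom _ rfl (WD_le F D)

theorem exists_rcD (hM : IsPModular 2 M) (hD : D ≤ F.S) {ζ : IrrCharacter F.O} (hζ : InvD F D (ζ : F.O → ℂ)) :
    ∃ β : IrrCharacter (WD F D), RC M (ιD F D) ζ β :=
  let ⟨β, h, _⟩ := exists_rc hM (isPGroup_of_le_S F hD) (not_dvd_card_O F)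
    (isFixed_WD F (hD.trans F.S_le_C)) (inv_opHom F (hD.trans F.S_le_C) hζ)
  ⟨β, h⟩

theorem rcD_injective (hM : IsPModular 2 M) (hD : D ≤ F.S) {ζ ζ' : IrrCharacter F.O}
    (hζ : InvD F D (ζ : F.O → ℂ)) (hζ' : InvD F D (ζ' : F.O → ℂ)) {β : IrrCharacter (WD F D)}
    (h : RC M (ιD F D) ζ β) (h' : RC M (ιD F D) ζ' β) : ζ = ζ' :=
  rc_injective hM (isPGroup_of_le_S F hD) (not_dvd_card_O F) (isFixed_WD F (hD.trans F.S_le_C))
    (inv_opHom F (hD.trans F.S_le_C) hζ) (inv_opHom F (hD.trans F.S_le_C) hζ') h h'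

theorem exists_rcD_lift (hM : IsPModular 2 M) (hD : D ≤ F.S) (β : IrrCharacter (WD F D)) :
    ∃ ζ : IrrCharacter F.O, InvD F D (ζ : F.O → ℂ) ∧ RC M (ιD F D) ζ β :=
  let ⟨ζ, hζ, h⟩ := exists_rc_lift hM (isPGroup_of_le_S F hD) (not_dvd_card_O F)
    (isFixed_WD F (hD.trans F.S_le_C)) β
  ⟨ζ, (Glauberman.inv_opHom_iff _ _).1 hζ, h⟩

/-- Invariant sums over `O` reduce to the fixed points. -/
theorem sum_O_eq_WD (hM : IsPModular 2 M) (hD : D ≤ F.S) {f : F.O → Res M}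
    (hf : ∀ d ∈ D, ∀ a b : F.O, (b : G) = d * a * d⁻¹ → f b = f a) :
    ∑ y : F.O, f y = ∑ v : WD F D, f (ιD F D v) := by
  haveI := charP_res hM
  haveI : Fact (Nat.Prime 2) := ⟨Nat.prime_two⟩
  exact Glauberman.sum_fixed (isPGroup_of_le_S F hD) (isFixed_WD F (hD.trans F.S_le_C))
    (fun r => by rw [two_nsmul, CharTwo.add_self_eq_zero]) ((Glauberman.inv_opHom_iff _ f).2 hf)

end Corr

/-- Conjugation by a normalising element, on the fixed points. -/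
def conjWD (ht : F.t ∈ D) {g : G} (hg : g ∈ Subgroup.normalizer (D : Set G)) : MulAut ↥(WD F D) where
  toFun v := ⟨g * v * g⁻¹, conj_mem_WD F ht hg v.2⟩
  invFun v := ⟨g⁻¹ * v * g⁻¹⁻¹, conj_mem_WD F ht (inv_mem hg) v.2⟩
  left_inv v := Subtype.ext (by simp [mul_assoc])
  right_inv v := Subtype.ext (by simp [mul_assoc])
  map_mul' a b := Subtype.ext (by simp [mul_assoc])

theorem conjWD_coe (ht : F.t ∈ D) {g : G} (hg : g ∈ Subgroup.normalizer (D : Set G)) (v : WD F D) :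
    ((conjWD F ht hg v : WD F D) : G) = g * v * g⁻¹ := rfl

/-- Conjugation by an element of `C` on `O`. -/
def conjO {c : G} (hc : c ∈ F.C) : MulAut ↥F.O := Glauberman.opHom F.O F.C (norm_O F le_rfl) ⟨c, hc⟩

theorem conjO_coe {c : G} (hc : c ∈ F.C) (y : F.O) : ((conjO F hc y : F.O) : G) = c * y * c⁻¹ := rfl

end Cfsg.Lib.GWD.Chr
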