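import Cfsg.Agent.GWDihedral.Chars.Basic
import Cfsg.Agent.Chars.Construct

/-!
# The dihedral quotient of order eight

`C = C(t)` maps onto the dihedral group of order eight with kernel `O ⟨s⁴⟩`, `s` to the rotation and `r` to a
reflection.  The two combinations `f₁ = 1 + ε - ψ`, `f₂ = a + ε a - ψ` vanish outside the non-trivial rotations.
-/

set_option autoImplicit false
set_option linter.unusedSectionVars false
set_option linter.style.haveILetI false

namespace Cfsg.Lib.GWD.Chr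

open Cfsg Cfsg.Lib.Chars Cfsg.Lib.Blocks
open scoped ComplexConjugate

universe u

/-- `-1` on reflections. -/
def epsD : DihedralGroup 4 →* ℤˣ where
  toFun
    | .r _ => 1
    | .sr _ => -1
  map_one' := rfl
  map_mul' := by decide

/-- `-1` on the rotation and `1` on the reflection `sr 0`. -/
def aD : DihedralGroup 4 →* ℤˣ where
  toFun
    | .r i => (-1) ^ i.val
    | .sr i => (-1) ^ i.val
  map_one' := rfl
  map_mul' := by decide

/-- The two-dimensional representation. -/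
def matD : DihedralGroup 4 →* Matrix (Fin 2) (Fin 2) ℤ where
  toFun
    | .r i => !![0, -1; 1, 0] ^ i.val
    | .sr i => !![1, 0; 0, -1] * !![0, -1; 1, 0] ^ i.val
  map_one' := by decide
  map_mul' := by decide

/-- The trace of `matD`. -/
def psiD (g : DihedralGroup 4) : ℤ := (matD g).trace

/-- `1 + ε - ψ` and `a + ε a - ψ`. -/
def fD (i : Bool) (g : DihedralGroup 4) : ℤ :=
  (if i then (aD g : ℤ) * (1 + (epsD g : ℤ)) else 1 + (epsD g : ℤ)) - psiD g

theorem fD_sr (i : Bool) (k : ZMod 4) : fD i (.sr k) = 0 := by revert i k; decide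

theorem fD_one (i : Bool) : fD i 1 = 0 := by revert i; decide

theorem psiD_sr (k : ZMod 4) : psiD (.sr k) = 0 := by revert k; decide

theorem psiD_one : psiD 1 = 2 := by decide

theorem fD_r (k : ZMod 4) : fD false (.r k) = (if k = 0 then 0 else if k = 2 then 4 else 2) ∧
    fD true (.r k) = (if k = 0 then 0 else if k = 2 then 4 else -2) := by revert k; decide

theorem isCharacter_psiD : IsCharacter (DihedralGroup 4) fun g => (psiD g : ℂ) := by
  let ρ : Representation ℂ (DihedralGroup 4) (Fin 2 → ℂ) :=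
    ((Matrix.toLinAlgEquiv' (R := ℂ) (n := Fin 2)).toAlgHom.toMonoidHom.comp
      ((Int.castRingHom ℂ).mapMatrix.toMonoidHom.comp matD))
  refine ⟨2, ρ, funext fun g => ?_⟩
  show LinearMap.trace ℂ _ (ρ g) = _
  show LinearMap.trace ℂ _ (Matrix.toLin' ((matD g).map (Int.cast : ℤ → ℂ))) = _
  rw [LinearMap.trace_eq_matrix_trace ℂ (Pi.basisFun ℂ (Fin 2)), LinearMap.toMatrix_eq_toMatrix',
    LinearMap.toMatrix'_toLin']
  simp [psiD, Matrix.trace, Matrix.map_apply]

variable {G : Type u} [Group G] [Finite G] (F : Frame G)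

theorem zpow_mem_S (k : ℤ) : F.s ^ k ∈ F.S := Subgroup.zpow_mem _ F.s_mem_S k

/-- Normal form in `C`. -/
theorem C_form {x : G} (hx : x ∈ F.C) :
    ∃ l ∈ F.O, ∃ k : ℤ, x = l * F.s ^ k ∨ x = l * (F.s ^ k * F.r) := by
  obtain ⟨l, hl, u, hu, rfl⟩ := F.C_structure x hx
  rcases F.S_cases hu with h | h
  · obtain ⟨k, hk⟩ := Subgroup.mem_zpowers_iff.1 h
    exact ⟨l, hl, k, Or.inl (by rw [hk])⟩
  · obtain ⟨k, hk⟩ := Subgroup.mem_zpowers_iff.1 h
    exact ⟨l, hl, k, Or.inr (by rw [hk, mul_assoc u, F.data.sq, mul_one])⟩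

theorem form_unique {l l' : G} (hl : l ∈ F.O) (hl' : l' ∈ F.O) {u u' : G} (hu : u ∈ F.S) (hu' : u' ∈ F.S)
    (h : l * u = l' * u') : l = l' ∧ u = u' := by
  have e := Subgroup.mul_injective_of_disjoint (disjoint_iff.2 F.O_inf_S)
    (a₁ := ((⟨l, hl⟩, ⟨u, hu⟩) : F.O × F.S)) (a₂ := (⟨l', hl'⟩, ⟨u', hu'⟩)) h
  exact ⟨congrArg (fun z : F.O × F.S => (z.1 : G)) e, congrArg (fun z : F.O × F.S => (z.2 : G)) e⟩

theorem zpow_cast_eq {k k' : ℤ} (h : F.s ^ k = F.s ^ k') : (k : ZMod 4) = (k' : ZMod 4) := by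
  have h1 : (orderOf F.s : ℤ) ∣ k' - k := by
    rw [orderOf_dvd_iff_zpow_eq_one, zpow_sub, h, mul_inv_cancel]
  rw [F.s_order] at h1
  have h4 : ((4 : ℕ) : ℤ) ∣ ((2 ^ (F.n - 1) : ℕ) : ℤ) := Int.natCast_dvd_natCast.2 (by
    have := F.three_le
    exact (show (4 : ℕ) = 2 ^ 2 by norm_num) ▸ pow_dvd_pow 2 (by omega))
  exact ((ZMod.intCast_eq_intCast_iff_dvd_sub k k' 4).2 (h4.trans h1))

open _root_.Classical in
/-- The map to the dihedral group of order eight. -/
noncomputable def kapFun (x : G) : DihedralGroup 4 :=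
  if h : ∃ l ∈ F.O, ∃ k : ℤ, x = l * F.s ^ k then .r ((Classical.choose (Classical.choose_spec h).2 : ℤ) : ZMod 4)
  else if h' : ∃ l ∈ F.O, ∃ k : ℤ, x = l * (F.s ^ k * F.r) then
    .r ((Classical.choose (Classical.choose_spec h').2 : ℤ) : ZMod 4) * .sr 0
  else 1

theorem kapFun_rot {l : G} (hl : l ∈ F.O) (k : ℤ) : kapFun F (l * F.s ^ k) = .r (k : ZMod 4) := by
  have h : ∃ l' ∈ F.O, ∃ k' : ℤ, l * F.s ^ k = l' * F.s ^ k' := ⟨l, hl, k, rfl⟩
  rw [kapFun, dif_pos h]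
  have e := Classical.choose_spec (Classical.choose_spec h).2
  rw [zpow_cast_eq F (form_unique F hl (Classical.choose_spec h).1 (zpow_mem_S F _) (zpow_mem_S F _) e).2]

theorem kapFun_ref {l : G} (hl : l ∈ F.O) (k : ℤ) :
    kapFun F (l * (F.s ^ k * F.r)) = .r (k : ZMod 4) * .sr 0 := by
  have h' : ∃ l' ∈ F.O, ∃ k' : ℤ, l * (F.s ^ k * F.r) = l' * (F.s ^ k' * F.r) := ⟨l, hl, k, rfl⟩
  have hno : ¬ ∃ l' ∈ F.O, ∃ k' : ℤ, l * (F.s ^ k * F.r) = l' * F.s ^ k' := by
    rintro ⟨l', hl', k', e⟩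
    have h1 := (form_unique F hl hl' (mul_mem (zpow_mem_S F _) F.r_mem_S) (zpow_mem_S F _) e).2
    exact F.r_not_mem_zpowers (Subgroup.mem_zpowers_iff.2 ⟨-k + k', by
      rw [zpow_add, zpow_neg, ← h1, inv_mul_cancel_left]⟩)
  rw [kapFun, dif_neg hno, dif_pos h']
  have e := Classical.choose_spec (Classical.choose_spec h').2
  rw [zpow_cast_eq F (mul_right_cancel
    (form_unique F hl (Classical.choose_spec h').1 (mul_mem (zpow_mem_S F _) F.r_mem_S)
      (mul_mem (zpow_mem_S F _) F.r_mem_S) e).2)]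

/-- The map to the dihedral group of order eight. -/
noncomputable def kap : ↥F.C →* DihedralGroup 4 where
  toFun x := kapFun F x
  map_one' := by
    show kapFun F 1 = 1
    have h := kapFun_rot F (one_mem F.O) 0
    rw [zpow_zero, mul_one] at h
    rw [h, Int.cast_zero, ← DihedralGroup.one_def]
  map_mul' := by
    intro x y
    show kapFun F ((x : G) * y) = kapFun F x * kapFun F y
    obtain ⟨l, hl, k, hx⟩ := C_form F x.2
    obtain ⟨l', hl', k', hy⟩ := C_form F y.2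
    have hrs : ∀ j : ℤ, F.r * F.s ^ j = F.s ^ (-j) * F.r := fun j => by
      rw [← mul_inv_eq_iff_eq_mul, F.data.tau_zpow, zpow_neg]
    have hcj : ∀ (u : G), u ∈ F.S → u * l' * u⁻¹ ∈ F.O := fun u hu => conj_mem_O F (F.S_le_C hu) hl'
    rcases hx with hx | hx <;> rcases hy with hy | hy <;> rw [hx, hy]
    · rw [kapFun_rot F hl, kapFun_rot F hl', show l * F.s ^ k * (l' * F.s ^ k') =
        l * (F.s ^ k * l' * (F.s ^ k)⁻¹) * (F.s ^ (k + k')) by rw [zpow_add]; group,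
        kapFun_rot F (mul_mem hl (hcj _ (zpow_mem_S F k))), DihedralGroup.r_mul_r, Int.cast_add]
    · rw [kapFun_rot F hl, kapFun_ref F hl', show l * F.s ^ k * (l' * (F.s ^ k' * F.r)) =
        l * (F.s ^ k * l' * (F.s ^ k)⁻¹) * (F.s ^ (k + k') * F.r) by rw [zpow_add]; group,
        kapFun_ref F (mul_mem hl (hcj _ (zpow_mem_S F k))), ← mul_assoc, DihedralGroup.r_mul_r, Int.cast_add]
    · rw [kapFun_ref F hl, kapFun_rot F hl', show l * (F.s ^ k * F.r) * (l' * F.s ^ k') =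
        l * (F.s ^ k * F.r * l' * (F.s ^ k * F.r)⁻¹) * (F.s ^ k * (F.r * F.s ^ k')) by group, hrs,
        ← mul_assoc (F.s ^ k), ← zpow_add,
        kapFun_ref F (mul_mem hl (hcj _ (mul_mem (zpow_mem_S F k) F.r_mem_S)))]
      simp [DihedralGroup.r_mul_sr, DihedralGroup.sr_mul_r, sub_eq_add_neg, add_comm]
    · rw [kapFun_ref F hl, kapFun_ref F hl', show l * (F.s ^ k * F.r) * (l' * (F.s ^ k' * F.r)) =
        l * (F.s ^ k * F.r * l' * (F.s ^ k * F.r)⁻¹) * (F.s ^ k * (F.r * F.s ^ k') * F.r) by group, hrs,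
        ← mul_assoc (F.s ^ k), mul_assoc _ F.r F.r, F.data.sq, mul_one, ← zpow_add,
        kapFun_rot F (mul_mem hl (hcj _ (mul_mem (zpow_mem_S F k) F.r_mem_S)))]
      simp [DihedralGroup.r_mul_sr, DihedralGroup.sr_mul_sr, sub_eq_add_neg, add_comm]

theorem kap_rot {x : F.C} {l : G} (hl : l ∈ F.O) {k : ℤ} (h : (x : G) = l * F.s ^ k) :
    kap F x = .r (k : ZMod 4) := by
  show kapFun F x = _
  rw [h, kapFun_rot F hl]

theorem kap_ref {x : F.C} {l : G} (hl : l ∈ F.O) {k : ℤ} (h : (x : G) = l * (F.s ^ k * F.r)) :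
    kap F x = .r (k : ZMod 4) * .sr 0 := by
  show kapFun F x = _
  rw [h, kapFun_ref F hl]

/-- Where `f` is non-zero the element lies in `⟨s⟩ O` off `O`. -/
theorem support_fD {x : F.C} {i : Bool} (h : fD i (kap F x) ≠ 0) :
    ∃ l ∈ F.O, ∃ k : ℤ, (x : G) = l * F.s ^ k ∧ ¬ (4 : ℤ) ∣ k := by
  obtain ⟨l, hl, k, hx | hx⟩ := C_form F x.2
  · refine ⟨l, hl, k, hx, fun h4 => h ?_⟩
    rw [kap_rot F hl hx, show ((k : ℤ) : ZMod 4) = 0 from (ZMod.intCast_zmod_eq_zero_iff_dvd k 4).2 h4,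
      ← DihedralGroup.one_def, fD_one]
  · exact absurd (by rw [kap_ref F hl hx, DihedralGroup.r_mul_sr, fD_sr]) h

end Cfsg.Lib.GWD.Chr
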