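import Cfsg.Agent.GWDihedral.Chars.Virtual
import Cfsg.Agent.Chars.Gallagher
import Cfsg.Agent.Blocks.CyclicGlauberman
import Cfsg.Agent.Blocks.BrauerTuan.CentralSum

/-!
# Extensions to `C`

A linear character of `O` fixed by `S` extends along `C = O S`; if `s` centralises `O`, the canonical extension to
`O⟨r⟩` of a character fixed by `r` is inflated along `C → O⟨r⟩`.
-/

set_option autoImplicit false
set_option linter.unusedSectionVars false
set_option linter.style.haveILetI false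

namespace Cfsg.Lib.GWD.Chr

open Cfsg Cfsg.Lib.Chars Cfsg.Lib.Blocks
open scoped ComplexConjugate

universe u

variable {G : Type u} [Group G] [Fintype G] (F : Frame G)

/-- The part in `O` of an element of `C`. -/
noncomputable def partO (c : F.C) : F.O :=
  ⟨Classical.choose (F.C_structure c c.2), (Classical.choose_spec (F.C_structure c c.2)).1⟩

theorem partO_spec {c : F.C} {l u : G} (hl : l ∈ F.O) (hu : u ∈ F.S) (h : (c : G) = l * u) :
    (partO F c : G) = l := by
  obtain ⟨h1, u', hu', e⟩ := Classical.choose_spec (F.C_structure c c.2)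
  exact (form_unique F h1 hl hu' hu (e.symm.trans h)).1

theorem partO_mul (c d : F.C) : ∃ u ∈ F.S, (partO F (c * d) : G) = partO F c * (u * partO F d * u⁻¹) := by
  obtain ⟨l, hl, u, hu, e⟩ := F.C_structure c c.2
  obtain ⟨l', hl', u', hu', e'⟩ := F.C_structure d d.2
  refine ⟨u, hu, ?_⟩
  rw [partO_spec F hl hu e, partO_spec F hl' hu' e']
  refine partO_spec F (mul_mem hl (conj_mem_O F (F.S_le_C hu) hl')) (mul_mem hu hu') ?_
  rw [Subgroup.coe_mul, e, e']; group

variable [Fintype F.O]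

/-- A linear character of `O` fixed by `S` has an extension. -/
theorem exists_ext_linear (f : ↥F.O →* ℂˣ) (hf : ∀ u ∈ F.S, ∀ a b : F.O, (b : G) = u * a * u⁻¹ → f b = f a) :
    ∃ E : Ext F (⟨fun a => (f a : ℂ), isIrrCharacter_linear f⟩ : IrrCharacter F.O), E.val = 1 := by
  let g : ↥F.C →* ℂˣ := MonoidHom.mk' (fun c => f (partO F c)) fun c d => by
    obtain ⟨u, hu, e⟩ := partO_mul F c d
    rw [show partO F (c * d) = partO F c * ⟨u * partO F d * u⁻¹, conj_mem_O F (F.S_le_C hu) (partO F d).2⟩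
      from Subtype.ext e, map_mul]
    congr 1
    exact hf u hu _ _ rfl
  have hg : ∀ c : F.C, g c = f (partO F c) := fun _ => rfl
  have h1 : ∀ c : F.C, (c : G) ∈ F.S → g c = 1 := fun c hc => by
    rw [hg, show partO F c = 1 from Subtype.ext (partO_spec F (one_mem _) hc (one_mul _).symm), map_one]
  refine ⟨⟨⟨fun c => (g c : ℂ), isIrrCharacter_linear g⟩, fun y k => ?_, 1, one_ne_zero, ?_, ?_⟩, rfl⟩
  · show ((g _ : ℂˣ) : ℂ) = (f y : ℂ)
    rw [hg]
    exact congrArg (fun z => (f z : ℂ)) (Subtype.ext (partO_spec F y.2 (zpow_mem_S F k) rfl))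
  · show ((g _ : ℂˣ) : ℂ) = _
    rw [h1 _ F.r_mem_S, Units.val_one, Int.cast_one]
  · show ((g _ : ℂˣ) : ℂ) = ((g _ : ℂˣ) : ℂ)
    rw [h1 _ (mul_mem F.r_mem_S F.s_mem_S), h1 _ F.r_mem_S]

theorem fixed_of_gen {X : Type*} {f : F.O → X}
    (hs : ∀ a b : F.O, (b : G) = F.s * a * F.s⁻¹ → f b = f a)
    (hr : ∀ a b : F.O, (b : G) = F.r * a * F.r⁻¹ → f b = f a) :
    ∀ u ∈ F.S, ∀ a b : F.O, (b : G) = u * a * u⁻¹ → f b = f a := by
  intro u hu
  induction hu using Subgroup.closure_induction with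
  | mem x hx =>
    rcases hx with rfl | rfl
    · exact hs
    · exact hr
  | one => intro a b e; rw [show b = a from Subtype.ext (by simpa using e)]
  | mul x y hxm hym hx hy =>
    intro a b e
    have hy' : y * a * y⁻¹ ∈ F.O := conj_mem_O F (F.S_le_C hym) a.2
    rw [hx ⟨_, hy'⟩ b (by rw [e]; group), hy a ⟨_, hy'⟩ rfl]
  | inv x hxm hx => intro a b e; exact (hx b a (by rw [e]; group)).symm

/-- If `s` centralises `O`, a character fixed by `r` has an extension. -/
theorem exists_ext_central {M : Ideal AlgInt} (hM : IsPModular 2 M) (hs : ∀ y ∈ F.O, Commute F.s y)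
    (θ : IrrCharacter F.O) (hr : ∀ a b : F.O, (b : G) = F.r * a * F.r⁻¹ → (θ : F.O → ℂ) b = (θ : F.O → ℂ) a) :
    Nonempty (Ext F θ) := by
  classical
  set R := Subgroup.zpowers F.r with hR
  have hRS : R ≤ F.S := Subgroup.zpowers_le.2 F.r_mem_S
  set K : Subgroup G := F.O ⊔ R with hK
  have hRn : R ≤ Subgroup.normalizer (F.O : Set G) := hRS.trans (F.S_le_C.trans F.C_le_normalizer_O)
  have hmemK : ∀ x, x ∈ K ↔ ∃ l ∈ F.O, ∃ w ∈ R, x = l * w := fun x => by
    rw [hK, ← SetLike.mem_coe, Subgroup.coe_mul_of_right_le_normalizer_left F.O R hRn, Set.mem_mul]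
    exact ⟨fun ⟨l, hl, w, hw, e⟩ => ⟨l, hl, w, hw, e.symm⟩, fun ⟨l, hl, w, hw, e⟩ => ⟨l, hl, w, hw, e.symm⟩⟩
  have hOK : F.O ≤ K := le_sup_left
  have hrK : F.r ∈ K := Subgroup.mem_sup_right (Subgroup.mem_zpowers F.r)
  set N : Subgroup K := F.O.subgroupOf K with hN
  haveI hNn : N.Normal := ⟨fun x hx g => by
    obtain ⟨l, hl, w, hw, e⟩ := (hmemK g).1 g.2
    rw [hN, Subgroup.mem_subgroupOf] at hx ⊢
    exact conj_mem_O F (show (g : G) ∈ F.C from e ▸ mul_mem (F.O_le hl) (F.S_le_C (hRS hw))) hx⟩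
  set e := Subgroup.subgroupOfEquivOfLe hOK with he
  have hθ' : IsIrrCharacter N fun x : N => (θ : F.O → ℂ) (e x) := IsIrrCharacter.comp_mulEquiv θ.2 e
  have hinv : ∀ g : K, conjN N g (fun x : N => (θ : F.O → ℂ) (e x)) = fun x : N => (θ : F.O → ℂ) (e x) := by
    intro g
    funext x
    obtain ⟨l, hl, w, hw, eg⟩ := (hmemK g).1 g.2
    have hfix := fixed_of_gen F (f := fun a => (θ : F.O → ℂ) a) (fun a b h => by
      rw [show b = a from Subtype.ext (by rw [h, (hs a a.2).eq, mul_inv_cancel_right])]) hr w (hRS hw)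
    have hxO : ((x : K) : G) ∈ F.O := x.2
    have h1 : w * ((x : K) : G) * w⁻¹ ∈ F.O := conj_mem_O F (F.S_le_C (hRS hw)) hxO
    show (θ : F.O → ℂ) (e _) = (θ : F.O → ℂ) (e x)
    rw [← hfix (e x) ⟨_, h1⟩ rfl, ← isClassFunction_irr θ ⟨_, h1⟩ ⟨l, hl⟩]
    refine congrArg _ (Subtype.ext ?_)
    show (g : G) * ((x : K) : G) * (g : G)⁻¹ = l * (w * ((x : K) : G) * w⁻¹) * l⁻¹
    rw [eg]; group
  have hcard : Nat.card N = Nat.card F.O := Nat.card_congr e.toEquiv
  have hidx : ∃ j, N.index = 2 ^ j := by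
    refine ⟨1, Nat.eq_of_mul_eq_mul_left (Nat.card_pos (α := N)) ?_⟩
    rw [Subgroup.card_mul_index]
    show Nat.card ↥(F.O ⊔ R) = _
    rw [Cfsg.Lib.Coprime.card_sup_coprime hRn, hR, Nat.card_zpowers, F.r_order, hcard,
      pow_one]
    rw [hR, Nat.card_zpowers, F.r_order]
    exact Nat.coprime_two_right.2 F.odd_card_O
  obtain ⟨j, hj⟩ := hidx
  have hd1 : (fun x : N => (θ : F.O → ℂ) (e x)) 1 = (deg (fun x : N => (θ : F.O → ℂ) (e x)) : ℂ) :=
    IsCharacter.apply_one_eq_deg (χ := fun x : N => (θ : F.O → ℂ) (e x)) (isCharacter_of_irr hθ')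
  obtain ⟨η, ⟨hη, hres, -⟩, -⟩ := exists_canonical_extension N hθ' hinv hd1 (by
      rw [hj]
      refine Nat.Coprime.pow_left j ((Nat.prime_two.coprime_iff_not_dvd).2 fun hd => not_dvd_card_O F ?_)
      rw [← hcard]
      rcases Nat.prime_two.dvd_mul.1 hd with h | h
      · exact h.trans (Cfsg.Lib.CyclicGlauberman.detOrder_dvd_card (isCharacter_of_irr hθ'))
      · exact h.trans (IsIrrCharacter.deg_dvd hθ'))
  -- the map `C → K`
  let w : DihedralGroup 4 → G := fun g => if (epsD g : ℤ) = 1 then 1 else F.r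
  have hw : ∀ g, w g ∈ R := fun g => by
    show (if _ then _ else _) ∈ R
    split_ifs
    exacts [one_mem _, Subgroup.mem_zpowers _]
  have hwmul : ∀ a b, w (a * b) = w a * w b := by
    intro a b
    simp only [w, map_mul, Units.val_mul]
    rcases Int.units_eq_one_or (epsD a) with h | h <;> rcases Int.units_eq_one_or (epsD b) with h' | h' <;>
      simp [h, h', F.data.sq]
  -- conjugation by `u` on `O` depends only on its image
  have hact : ∀ (c : F.C), ∀ u ∈ F.S, ∀ l ∈ F.O, (c : G) = l * u →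
      ∀ y ∈ F.O, u * y * u⁻¹ = w (kap F c) * y * (w (kap F c))⁻¹ := by
    intro c u hu l hl e y hy
    obtain ⟨l', hl', k, h | h⟩ := C_form F c.2
    · rw [(form_unique F hl hl' hu (zpow_mem_S F k) (e.symm.trans h)).2]
      simp only [w, kap_rot F hl' h, show ∀ z : ZMod 4, (epsD (DihedralGroup.r z) : ℤ) = 1 from fun z => rfl,
        if_true, one_mul, inv_one, mul_one]
      rw [((hs y hy).zpow_left k).eq, mul_inv_cancel_right]
    · rw [(form_unique F hl hl' hu (mul_mem (zpow_mem_S F k) F.r_mem_S) (e.symm.trans h)).2]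
      simp only [w, kap_ref F hl' h, DihedralGroup.r_mul_sr,
        show ∀ z : ZMod 4, (epsD (DihedralGroup.sr z) : ℤ) = -1 from fun z => rfl]
      rw [if_neg (by norm_num)]
      have hry : F.r * y * F.r⁻¹ ∈ F.O := conj_mem_O F (r_mem_C F) hy
      calc F.s ^ k * F.r * y * (F.s ^ k * F.r)⁻¹ = F.s ^ k * (F.r * y * F.r⁻¹) * (F.s ^ k)⁻¹ := by group
        _ = _ := by rw [((hs _ hry).zpow_left k).eq, mul_inv_cancel_right]
  let π : ↥F.C →* ↥K := MonoidHom.mk' (fun c => ⟨partO F c * w (kap F c),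
    (hmemK _).2 ⟨_, (partO F c).2, _, hw _, rfl⟩⟩) fun c d => by
      apply Subtype.ext
      show (partO F (c * d) : G) * w (kap F (c * d)) =
        (partO F c : G) * w (kap F c) * ((partO F d : G) * w (kap F d))
      obtain ⟨l, hl, u, hu, e⟩ := F.C_structure c c.2
      obtain ⟨l', hl', u', hu', e'⟩ := F.C_structure d d.2
      have h1 : (partO F (c * d) : G) = l * (u * l' * u⁻¹) := partO_spec F
        (mul_mem hl (conj_mem_O F (F.S_le_C hu) hl')) (mul_mem hu hu') (by rw [Subgroup.coe_mul, e, e']; group)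
      rw [h1, partO_spec F hl hu e, partO_spec F hl' hu' e', hact c u hu l hl e l' hl', map_mul, hwmul]
      group
  have hπ : Function.Surjective π := by
    intro x
    obtain ⟨l, hl, v, hv, e⟩ := (hmemK x).1 x.2
    refine ⟨⟨l * v, mul_mem (F.O_le hl) (F.S_le_C (hRS hv))⟩, Subtype.ext ?_⟩
    show (partO F _ : G) * w (kap F _) = (x : G)
    rw [partO_spec F hl (hRS hv) rfl, e]
    congr 1
    obtain ⟨i, rfl⟩ := Subgroup.mem_zpowers_iff.1 hv
    rcases Int.even_or_odd i with ⟨i, rfl⟩ | ⟨i, rfl⟩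
    · have hr : F.r ^ (i + i) = 1 := by rw [← two_mul, zpow_mul, zpow_two, F.data.sq, one_zpow]
      show (if _ then _ else _) = _
      rw [kap_rot F (k := 0) hl (show ((⟨l * F.r ^ (i + i), _⟩ : F.C) : G) = l * F.s ^ (0 : ℤ) by simp [hr]),
        hr]
      rfl
    · have hr : F.r ^ (2 * i + 1) = F.r := by rw [zpow_add_one, zpow_mul, zpow_two, F.data.sq, one_zpow, one_mul]
      show (if _ then _ else _) = _
      rw [kap_ref F (k := 0) hl
        (show ((⟨l * F.r ^ (2 * i + 1), _⟩ : F.C) : G) = l * (F.s ^ (0 : ℤ) * F.r) by simp [hr]), hr]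
      rfl
  have hη' := IsIrrCharacter.comp_surjective hη π hπ
  have hπr : π ⟨F.r, r_mem_C F⟩ = ⟨F.r, hrK⟩ := Subtype.ext <| by
    show (partO F _ : G) * w (kap F _) = F.r
    rw [partO_spec F (one_mem _) F.r_mem_S (one_mul _).symm, one_mul,
      kap_ref F (k := 0) (one_mem _) (show F.r = 1 * (F.s ^ (0 : ℤ) * F.r) by simp)]
    rfl
  obtain ⟨a, ha⟩ := BrauerTuan.exists_int_apply_sq_one (isCharacter_of_irr hη) (z := ⟨F.r, hrK⟩) (Subtype.ext F.data.sq)
  have hr2 : ∃ k : ℕ, orderOf (⟨F.r, hrK⟩ : K) = 2 ^ k := ⟨1, by rw [← Subgroup.orderOf_coe, pow_one]; exact F.r_order⟩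
  have hmod := res_translate hM (isCharacter_of_irr hη) hr2 (Commute.one_right _) (by simp)
  rw [mul_one, ha, show η 1 = ((deg (θ : F.O → ℂ) : ℕ) : ℂ) by
    rw [← irr_apply_one_eq_deg, show (1 : K) = ((1 : N) : K) from rfl, hres]
    simp] at hmod
  have hθodd : ¬ 2 ∣ deg (θ : F.O → ℂ) := fun h => not_dvd_card_O F (h.trans (IsIrrCharacter.deg_dvd θ.2))
  refine ⟨⟨⟨_, hη'⟩, fun y k => ?_, a, fun e => ?_, ?_, ?_⟩⟩
  · show η (π _) = _
    have hyK : (y : G) ∈ K := hOK y.2
    rw [show π _ = ((⟨⟨y, hyK⟩, y.2⟩ : N) : K) from Subtype.ext ?_, hres]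
    · exact congrArg _ (Subtype.ext rfl)
    · show (partO F _ : G) * w (kap F _) = y
      rw [partO_spec F y.2 (zpow_mem_S F k) rfl, kap_rot F y.2 rfl]
      exact mul_one _
  · subst e
    rw [Int.cast_zero, res_zero, res_natCast, res_natCast_odd hM hθodd] at hmod
    haveI := charP_res hM
    exact one_ne_zero hmod.symm
  · show η (π _) = _
    rw [hπr, ha]
  · show η (π _) = η (π _)
    congr 1
    refine Subtype.ext ?_
    show (partO F _ : G) * w (kap F _) = (partO F _ : G) * w (kap F _)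
    rw [partO_spec F (one_mem _) (mul_mem F.r_mem_S F.s_mem_S) (one_mul _).symm,
      partO_spec F (one_mem _) F.r_mem_S (one_mul _).symm,
      kap_ref F (x := ⟨F.r, r_mem_C F⟩) (k := 0) (one_mem _) (show F.r = 1 * (F.s ^ (0 : ℤ) * F.r) by simp),
      kap_ref F (x := ⟨F.r * F.s, mul_mem (r_mem_C F) (s_mem_C F)⟩) (k := -1) (one_mem _) (show F.r * F.s = 1 * (F.s ^ (-1 : ℤ) * F.r) by
        rw [one_mul, zpow_neg_one, ← F.rel, inv_mul_cancel_right])]
    rfl

end Cfsg.Lib.GWD.Chr
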