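import Cfsg.Agent.GWDihedral.Chars.Virtual
import Cfsg.Agent.GWDihedral.Ident.Degrees
import Cfsg.Agent.Chars.Sums

/-!
# The identity of a virtual character

Pairs of involutions with product in the support lie in `C`, where the involutions other than `t` form the classes of
`r` and `r s`.
-/

set_option autoImplicit false
set_option linter.unusedSectionVars false
set_option linter.style.haveILetI false

namespace Cfsg.Lib.GWD.Chr

open Cfsg Cfsg.Lib.Chars Cfsg.Lib.Blocks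
open scoped ComplexConjugate

universe u

variable {G : Type u} [Group G] [Fintype G] (F : Frame G)

theorem t_ne_one : F.t ≠ 1 := fun e => by
  have := F.t_order
  rw [e, orderOf_one] at this
  omega

theorem rot_sq {k : ℤ} (h : F.s ^ k * F.s ^ k = 1) : F.s ^ k = 1 ∨ F.s ^ k = F.t := by
  rcases F.data.sq_zpowers (Subgroup.mem_zpowers_iff.2 ⟨k, rfl⟩ : F.s ^ k ∈ Subgroup.zpowers F.s) h with e | e
  · exact Or.inl e
  · exact Or.inr (e.trans F.t_eq)

theorem aD_sr_zero : (aD (.sr 0) : ℤ) = 1 := by decide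

/-- An involution of `C` other than `t` is conjugate in `C` to `r` or to `r s`. -/
theorem invol_cases {a : F.C} (h2 : a * a = 1) (h1 : a ≠ 1) (ht : (a : G) ≠ F.t) :
    IsConj (⟨F.r, r_mem_C F⟩ : F.C) a ∨ IsConj (⟨F.r * F.s, mul_mem (r_mem_C F) (s_mem_C F)⟩ : F.C) a := by
  haveI : Fact (Nat.Prime 2) := ⟨Nat.prime_two⟩
  have hP : IsPGroup 2 (Subgroup.zpowers a) := IsPGroup.of_card (n := 1) (by
    rw [Nat.card_zpowers, orderOf_eq_prime (by rwa [pow_two]) h1, pow_one])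
  obtain ⟨R, hR⟩ := hP.exists_le_sylow
  obtain ⟨c, hc⟩ := MulAction.exists_smul_eq F.C R (F.sylow.subtype (by rw [F.coe_sylow]; exact F.S_le_C))
  have hu : c * a * c⁻¹ ∈ ((F.sylow.subtype (by rw [F.coe_sylow]; exact F.S_le_C) : Sylow 2 F.C) : Subgroup F.C) := by
    rw [← hc, Sylow.coe_subgroup_smul]
    exact ⟨a, hR (Subgroup.mem_zpowers a), rfl⟩
  rw [Sylow.coe_subtype, Subgroup.mem_subgroupOf, F.coe_sylow] at hu
  set u := c * a * c⁻¹ with hudef
  have hu2 : (u : G) * u = 1 := by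
    rw [← Subgroup.coe_mul, hudef, show c * a * c⁻¹ * (c * a * c⁻¹) = c * (a * a) * c⁻¹ by group, h2, mul_one,
      mul_inv_cancel, Subgroup.coe_one]
  have hu1 : (u : G) ≠ 1 := fun e => h1 (by
    have : u = 1 := Subtype.ext e
    rwa [hudef, mul_inv_eq_one, mul_eq_left] at this)
  have hut : (u : G) ≠ F.t := fun e => ht (by
    have ha : (a : G) = (c : G)⁻¹ * u * c := by rw [hudef]; push_cast; group
    rw [ha, e, mul_assoc, ← F.mem_C.1 c.2, inv_mul_cancel_left])
  have hus : (u : G) * F.r ∈ Subgroup.zpowers F.s := by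
    refine (F.S_cases hu).resolve_left fun h => ?_
    obtain ⟨k, hk⟩ := Subgroup.mem_zpowers_iff.1 h
    rw [← hk] at hu2
    rcases rot_sq F hu2 with e | e
    · exact hu1 (hk ▸ e)
    · exact hut (hk ▸ e)
  obtain ⟨k, hk⟩ := Subgroup.mem_zpowers_iff.1 hus
  have huk : (u : G) = F.s ^ k * F.r := by rw [hk, mul_assoc, F.data.sq, mul_one]
  have hrs : ∀ j : ℤ, F.r * F.s ^ j = F.s ^ (-j) * F.r := fun j => by
    rw [← mul_inv_eq_iff_eq_mul, F.data.tau_zpow, zpow_neg]
  have hua : IsConj u a := isConj_iff.2 ⟨c⁻¹, by rw [hudef]; group⟩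
  rcases Int.even_or_odd k with ⟨j, rfl⟩ | ⟨j, rfl⟩
  · refine Or.inl ((isConj_iff.2 ⟨⟨F.s ^ j, F.S_le_C (zpow_mem_S F j)⟩, Subtype.ext ?_⟩).trans hua)
    show F.s ^ j * F.r * (F.s ^ j)⁻¹ = (u : G)
    rw [huk, ← zpow_neg, mul_assoc, hrs, neg_neg, ← mul_assoc, ← zpow_add]
  · refine Or.inr ((isConj_iff.2 ⟨⟨F.s ^ (j + 1), F.S_le_C (zpow_mem_S F (j + 1))⟩, Subtype.ext ?_⟩).trans hua)
    show F.s ^ (j + 1) * (F.r * F.s) * (F.s ^ (j + 1))⁻¹ = (u : G)
    rw [huk, ← zpow_neg, mul_assoc, mul_assoc F.r, ← zpow_one_add, hrs, ← mul_assoc, ← zpow_add]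
    congr 2
    ring

/-- The involutions of `C` other than `t`, by class. -/
noncomputable def reflInvols [Fintype F.C] [DecidableEq F.C] : Finset F.C :=
  Finset.univ.filter fun a => a * a = 1 ∧ a ≠ 1 ∧ a ≠ ⟨F.t, F.mem_C.2 rfl⟩

theorem card_class_mul {v : G} (hv : v ∈ F.C) {w : ℕ}
    (hw : Nat.card (Subgroup.centralizer ({F.t, v} : Set G)) = 4 * w) :
    Nat.card {x : F.C // IsConj ⟨v, hv⟩ x} * w = F.m := by
  have h := card_isConj_mul (G := F.C) ⟨v, hv⟩
  have he : Nat.card (Subgroup.centralizer ({⟨v, hv⟩} : Set F.C)) = 4 * w := by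
    rw [← hw]
    refine Nat.card_congr
      { toFun := fun x => ⟨(x.1 : G), Subgroup.mem_centralizer_iff.2 fun y hy => ?_⟩
        invFun := fun x => ⟨⟨x.1, F.mem_C.2 (Subgroup.mem_centralizer_iff.1 x.2 F.t (Or.inl rfl)).symm⟩,
          Subgroup.mem_centralizer_singleton_iff.2 (Subtype.ext
            (Subgroup.mem_centralizer_iff.1 x.2 v (Or.inr rfl)).symm)⟩
        left_inv := fun x => rfl
        right_inv := fun x => rfl }
    rcases hy with rfl | rfl
    · exact (F.mem_C.1 x.1.2).symm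
    · exact congrArg Subtype.val (Subgroup.mem_centralizer_singleton_iff.1 x.2).symm
  rw [he, F.card_C] at h
  linarith

variable {F} [Fintype F.O] {θ : IrrCharacter F.O} (E : Ext F θ) [Fintype F.C]

theorem kap_r : kap F ⟨F.r, r_mem_C F⟩ = .sr 0 := by
  rw [kap_ref F (x := ⟨F.r, r_mem_C F⟩) (one_mem _) (k := 0) (by simp), Int.cast_zero, ← DihedralGroup.one_def,
    one_mul]

theorem kap_rs : kap F ⟨F.r * F.s, mul_mem (r_mem_C F) (s_mem_C F)⟩ = .r ((-1 : ℤ) : ZMod 4) * .sr 0 := by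
  refine kap_ref F (one_mem _) ?_
  show F.r * F.s = 1 * (F.s ^ (-1 : ℤ) * F.r)
  rw [one_mul, zpow_neg_one, ← F.rel, inv_mul_cancel_right]

/-- `E.ch` times a linear character of the quotient. -/
theorem Ext.isIrr_mul (f : DihedralGroup 4 →* ℤˣ) :
    IsIrrCharacter F.C fun x => (E.ch : F.C → ℂ) x * ((f (kap F x) : ℤ) : ℂ) := by
  refine isIrrCharacter_of_norm_one ?_ ?_
  · refine IsCharacter.mul (isCharacter_of_irr E.ch.2) ?_
    have := isCharacter_of_irr (isIrrCharacter_linear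
      ((Units.map (Int.castRingHom ℂ).toMonoidHom).comp (f.comp (kap F))))
    convert this using 1
    funext x
    simp
  · rw [← classInner_self_irr E.ch.2, classInner_def, classInner_def]
    refine congrArg _ (Finset.sum_congr rfl fun x _ => ?_)
    rcases Int.units_eq_one_or (f (kap F x)) with e | e <;> simp [e]

/-- `E.ch` times the two-dimensional character. -/
theorem Ext.isIrr_psi : IsIrrCharacter F.C fun x => (E.ch : F.C → ℂ) x * (psiD (kap F x) : ℂ) := by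
  refine isIrrCharacter_of_norm_one
    (IsCharacter.mul (isCharacter_of_irr E.ch.2) (IsCharacter.comp_hom isCharacter_psiD (kap F))) ?_
  rw [classInner_def, sum_supp F _ fun c hc => ?_]
  swap
  · obtain ⟨l, hl, k, h | h⟩ := C_form F c.2
    · exact ⟨l, hl, k, h⟩
    · exact absurd (by rw [kap_ref F hl h, DihedralGroup.r_mul_sr, psiD_sr]; simp) hc
  have h1 : ∀ k : ℕ, ∑ l : F.O, (E.ch : F.C → ℂ) ⟨(l : G) * F.s ^ (k : ℤ),
        mul_mem (F.O_le l.2) (F.S_le_C (zpow_mem_S F k))⟩ *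
        (psiD (kap F ⟨(l : G) * F.s ^ (k : ℤ), mul_mem (F.O_le l.2) (F.S_le_C (zpow_mem_S F k))⟩) : ℂ) *
        conj ((E.ch : F.C → ℂ) ⟨(l : G) * F.s ^ (k : ℤ), mul_mem (F.O_le l.2) (F.S_le_C (zpow_mem_S F k))⟩ *
        (psiD (kap F ⟨(l : G) * F.s ^ (k : ℤ), mul_mem (F.O_le l.2) (F.S_le_C (zpow_mem_S F k))⟩) : ℂ)) =
      (Nat.card F.O : ℂ) * ((psiD (.r ((k : ℤ) : ZMod 4)) * psiD (.r ((k : ℤ) : ZMod 4)) : ℤ) : ℂ) := by
    intro k
    rw [← sum_normSq_theta (θ := θ), Finset.sum_mul]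
    refine Finset.sum_congr rfl fun l _ => ?_
    rw [E.rot, kap_rot F l.2 rfl, map_mul, map_intCast]
    push_cast
    ring
  rw [Finset.sum_congr rfl fun k _ => h1 k, ← Finset.mul_sum,
    sum_period F (fun z : ZMod 4 => ((psiD (.r z) * psiD (.r z) : ℤ) : ℂ)), F.card_C, Frame.m]
  have hn : 2 ^ (F.n - 2) = 2 * 2 ^ (F.n - 3) := by
    have := F.three_le
    rw [← pow_succ']; congr 1; omega
  rw [show psiD (.r (0 : ZMod 4)) = 2 from rfl, show psiD (.r (1 : ZMod 4)) = 0 by decide,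
    show psiD (.r (2 : ZMod 4)) = -2 by decide, show psiD (.r (3 : ZMod 4)) = 0 by decide]
  push_cast
  rw [show (2 : ℂ) ^ (F.n - 2) = 2 * 2 ^ (F.n - 3) from mod_cast hn]
  have h0 : (Nat.card F.O : ℂ) ≠ 0 := Nat.cast_ne_zero.2 Nat.card_pos.ne'
  field_simp
  ring

/-- The sign of the second class. -/
def sgn (i : Bool) : ℤ := if i then -1 else 1

theorem Ext.ch_one : (E.ch : F.C → ℂ) 1 = (deg (θ : F.O → ℂ) : ℂ) := by
  rw [E.rot' (x := 1) (one_mem F.O) (k := 0) (by simp), ← irr_apply_one_eq_deg]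
  rfl

open scoped _root_.Classical in
/-- The products of the reflection involutions, weighed by `alpha i`. -/
theorem Ext.sum_refl (i : Bool) : ∑ a ∈ reflInvols F, ∑ b ∈ reflInvols F, E.alpha i (a * b) =
    2 * (E.val : ℂ) ^ 2 * (F.m : ℂ) ^ 2 * (1 / (F.w₁ : ℂ) + (sgn i : ℂ) / (F.w₂ : ℂ)) ^ 2 / (deg (θ : F.O → ℂ) : ℂ) := by
  set r' : F.C := ⟨F.r, r_mem_C F⟩ with hr'
  set q' : F.C := ⟨F.r * F.s, mul_mem (r_mem_C F) (s_mem_C F)⟩ with hq'
  have hclass : ∀ x : F.C, ∀ y : F.C, IsConj x y → kap F x * kap F x = 1 → kap F y * kap F y = 1 := by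
    intro x y h e
    rw [← map_mul] at e ⊢
    obtain ⟨c, rfl⟩ := isConj_iff.1 h
    rw [show c * x * c⁻¹ * (c * x * c⁻¹) = c * (x * x) * c⁻¹ by group, map_mul, map_mul, e]
    simp
  have hrt : r' ≠ ⟨F.t, F.mem_C.2 rfl⟩ := fun e => F.t_ne_r (congrArg Subtype.val e).symm
  have hqt : q' ≠ ⟨F.t, F.mem_C.2 rfl⟩ := fun e => F.t_ne_rs (congrArg Subtype.val e).symm
  have hinv : ∀ {x y : F.C}, IsConj x y → x * x = 1 ∧ x ≠ 1 ∧ x ≠ ⟨F.t, F.mem_C.2 rfl⟩ →
      y * y = 1 ∧ y ≠ 1 ∧ y ≠ ⟨F.t, F.mem_C.2 rfl⟩ := by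
    rintro x y h ⟨e2, e1, et⟩
    obtain ⟨c, rfl⟩ := isConj_iff.1 h
    refine ⟨by rw [show c * x * c⁻¹ * (c * x * c⁻¹) = c * (x * x) * c⁻¹ by group, e2, mul_one, mul_inv_cancel],
      fun e => e1 (by rwa [mul_inv_eq_one, mul_eq_left] at e), fun e => et ?_⟩
    have hc : c⁻¹ * ⟨F.t, F.mem_C.2 rfl⟩ * c = (⟨F.t, F.mem_C.2 rfl⟩ : F.C) :=
      Subtype.ext (by push_cast; rw [mul_assoc, ← F.mem_C.1 c.2, inv_mul_cancel_left])
    rw [← hc, ← e]; group
  have hr2 : r' * r' = 1 := Subtype.ext (by show F.r * F.r = 1; exact F.data.sq)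
  have hq2 : q' * q' = 1 := Subtype.ext (by
    show F.r * F.s * (F.r * F.s) = 1
    rw [← pow_two, ← F.rs_order, pow_orderOf_eq_one])
  have hr1 : r' ≠ 1 := fun e => by
    have := F.r_order
    rw [show F.r = 1 from congrArg Subtype.val e, orderOf_one] at this
    omega
  have hq1 : q' ≠ 1 := fun e => by
    have := F.rs_order
    rw [show F.r * F.s = 1 from congrArg Subtype.val e, orderOf_one] at this
    omega
  have hdis : ¬ IsConj r' q' := fun h => by
    obtain ⟨c, hc⟩ := isConj_iff.1 h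
    have e := congrArg (fun g => (aD (kap F g) : ℤ)) hc
    simp only [map_mul, map_inv] at e
    rw [show kap F r' = _ from kap_r, show kap F q' = _ from kap_rs] at e
    rw [mul_right_comm, mul_inv_cancel, one_mul] at e
    revert e; decide
  have hsplit : reflInvols F = Finset.univ.filter (IsConj r') ∪ Finset.univ.filter (IsConj q') := by
    ext a
    simp only [reflInvols, Finset.mem_filter, Finset.mem_univ, true_and, Finset.mem_union]
    refine ⟨fun ⟨e2, e1, et⟩ => invol_cases F e2 e1 (fun e => et (Subtype.ext e)), ?_⟩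
    rintro (h | h)
    · exact hinv h ⟨hr2, hr1, hrt⟩
    · exact hinv h ⟨hq2, hq1, hqt⟩
  have hd : Disjoint (Finset.univ.filter (IsConj r')) (Finset.univ.filter (IsConj q')) :=
    Finset.disjoint_filter.2 fun x _ h h' => hdis (h.trans h'.symm)
  set K₁ := (Nat.card {x : F.C // IsConj r' x} : ℂ) with hK₁
  set K₂ := (Nat.card {x : F.C // IsConj q' x} : ℂ) with hK₂
  set h := (deg (θ : F.O → ℂ) : ℂ) with hh
  have hh0 : h ≠ 0 := Nat.cast_ne_zero.2 (deg_irr_pos θ).ne'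
  -- a constituent
  have hpart : ∀ φ : F.C → ℂ, IsIrrCharacter F.C φ → ∑ a ∈ reflInvols F, ∑ b ∈ reflInvols F, φ (a * b) =
      (K₁ * φ r' + K₂ * φ q') ^ 2 / φ 1 := by
    intro φ hφ
    have h0 := IsIrrCharacter.apply_one_ne_zero hφ
    have hp : ∀ a b : F.C, ∑ x ∈ Finset.univ.filter (IsConj a), ∑ y ∈ Finset.univ.filter (IsConj b), φ (x * y) =
        (Nat.card {x : F.C // IsConj a x} : ℂ) * (Nat.card {x : F.C // IsConj b x} : ℂ) * φ a * φ b / φ 1 := by
      intro a b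
      have e := sum_class_products hφ a b 1
      simp only [mul_one] at e
      convert e using 1
      · exact Finset.sum_congr (Finset.ext fun x => by simp) fun x _ =>
          Finset.sum_congr (Finset.ext fun y => by simp) fun _ _ => rfl
      · field_simp
    simp only [hsplit, Finset.sum_union hd, Finset.sum_add_distrib, hp, ← hK₁, ← hK₂]
    field_simp
    try ring
  set a0 : ℂ := (E.ch : F.C → ℂ) r' with ha0
  have hq : (E.ch : F.C → ℂ) q' = a0 := E.refl_eq
  have ha : a0 = (E.val : ℂ) := E.refl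
  have hlin : ∀ f : DihedralGroup 4 →* ℤˣ, ∑ a ∈ reflInvols F, ∑ b ∈ reflInvols F,
      (E.ch : F.C → ℂ) (a * b) * ((f (kap F (a * b)) : ℤ) : ℂ) =
      (E.val : ℂ) ^ 2 * (K₁ * ((f (.sr 0) : ℤ) : ℂ) + K₂ * ((f (.r ((-1 : ℤ) : ZMod 4) * .sr 0) : ℤ) : ℂ)) ^ 2 / h := by
    intro f
    rw [hpart _ (E.isIrr_mul f), hq, E.ch_one, show kap F r' = _ from kap_r, show kap F q' = _ from kap_rs,
      ← ha0, map_one, map_one, ← hh]
    simp only [Units.val_one, Int.cast_one, mul_one]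
    rw [show K₁ * (a0 * ((f (.sr 0) : ℤ) : ℂ)) + K₂ * (a0 * ((f (.r ((-1 : ℤ) : ZMod 4) * .sr 0) : ℤ) : ℂ)) =
      a0 * (K₁ * ((f (.sr 0) : ℤ) : ℂ) + K₂ * ((f (.r ((-1 : ℤ) : ZMod 4) * .sr 0) : ℤ) : ℂ)) by ring,
      mul_pow, ha]
  have hpsi : ∑ a ∈ reflInvols F, ∑ b ∈ reflInvols F, (E.ch : F.C → ℂ) (a * b) * (psiD (kap F (a * b)) : ℂ) = 0 := by
    rw [hpart _ E.isIrr_psi, show kap F r' = _ from kap_r, show kap F q' = _ from kap_rs, DihedralGroup.r_mul_sr,
      psiD_sr, psiD_sr]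
    simp
  have hk₁ : K₁ * (F.w₁ : ℂ) = (F.m : ℂ) := by
    rw [hK₁]; exact_mod_cast card_class_mul F (r_mem_C F) F.card_cent₁
  have hk₂ : K₂ * (F.w₂ : ℂ) = (F.m : ℂ) := by
    rw [hK₂]; exact_mod_cast card_class_mul F (mul_mem (r_mem_C F) (s_mem_C F)) F.card_cent₂
  have hw₁ : (F.w₁ : ℂ) ≠ 0 := Nat.cast_ne_zero.2 F.w₁_pos.ne'
  have hw₂ : (F.w₂ : ℂ) ≠ 0 := Nat.cast_ne_zero.2 F.w₂_pos.ne'
  rw [← hk₁] at hk₂ ⊢
  have hexp : ∀ g : DihedralGroup 4, (fD i g : ℂ) =
      (((if i then aD else 1 : DihedralGroup 4 →* ℤˣ) g : ℤ) : ℂ) +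
        ((((if i then aD else 1 : DihedralGroup 4 →* ℤˣ) * epsD) g : ℤ) : ℂ) - (psiD g : ℂ) := by
    intro g
    cases i <;> simp [fD, mul_add]
  simp only [Ext.alpha, hexp, mul_sub, mul_add, Finset.sum_sub_distrib, Finset.sum_add_distrib, hlin, hpsi, sub_zero]
  have hv : ((if i then aD else 1 : DihedralGroup 4 →* ℤˣ) (.sr 0) : ℤ) = 1 ∧
      ((((if i then aD else 1 : DihedralGroup 4 →* ℤˣ)) * epsD) (.sr 0) : ℤ) = -1 ∧
      ((if i then aD else 1 : DihedralGroup 4 →* ℤˣ) (.r ((-1 : ℤ) : ZMod 4) * .sr 0) : ℤ) = sgn i ∧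
      ((((if i then aD else 1 : DihedralGroup 4 →* ℤˣ)) * epsD) (.r ((-1 : ℤ) : ZMod 4) * .sr 0) : ℤ) = -sgn i := by
    cases i <;> decide
  obtain ⟨v1, v2, v3, v4⟩ := hv
  rw [v1, v2, v3, v4]
  push_cast
  rw [show K₂ = K₁ * (F.w₁ : ℂ) / (F.w₂ : ℂ) by rw [← hk₂]; field_simp]
  field_simp
  ring

open scoped _root_.Classical in
/-- The identity of `alpha i`. -/
theorem Ext.identity (hall : ∀ x : G, orderOf x = 2 → IsConj F.t x) (i : Bool) :
    (∑ χ : IrrCharacter G, (E.c i χ : ℂ) * (χ : G → ℂ) F.t ^ 2 / (χ : G → ℂ) 1) *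
        ((deg (θ : F.O → ℂ) : ℂ) * (Nat.card G : ℂ)) =
      8 * (E.val : ℂ) ^ 2 * (F.m : ℂ) ^ 3 * (1 / (F.w₁ : ℂ) + (sgn i : ℂ) / (F.w₂ : ℂ)) ^ 2 := by
  set N : G → ℕ := fun g => Nat.card {p : G × G // IsConj F.t p.1 ∧ IsConj F.t p.2 ∧ p.1 * p.2 = g} with hN
  set K := (Nat.card {x : G // IsConj F.t x} : ℂ) with hK
  set S := ∑ χ : IrrCharacter G, (E.c i χ : ℂ) * (χ : G → ℂ) F.t ^ 2 / (χ : G → ℂ) 1 with hS
  have hNcl : IsClassFunction G fun g => (N g : ℂ) := by
    intro g h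
    simp only [hN, class_mult_formula]
    congr 1
    exact Finset.sum_congr rfl fun η _ => by rw [isClassFunction_irr η]
  -- the evaluation by characters
  have h1 : classInner (indFun F.C (E.alpha i)) (fun g => (N g : ℂ)) = K ^ 2 * S / (Nat.card G : ℂ) := by
    rw [classInner_def]
    simp only [Complex.conj_natCast]
    simp only [hN, class_mult_formula, ← hK, Finset.mul_sum]
    rw [Finset.sum_comm, hS, Finset.mul_sum, Finset.sum_div]
    refine Finset.sum_congr rfl fun η _ => ?_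
    have e : (Nat.card G : ℂ)⁻¹ * ∑ g : G, indFun F.C (E.alpha i) g * conj ((η : G → ℂ) g) = (E.c i η : ℂ) := by
      rw [← E.c_spec, Ext.coef, classInner_def]
    rw [← e, Finset.mul_sum, Finset.sum_mul, Finset.sum_div, Finset.mul_sum, Finset.sum_div]
    refine Finset.sum_congr rfl fun g _ => ?_
    ring
  -- the evaluation inside `C`
  have hTI : ∀ c : F.C, (c : G) ∈ Supp F → ∀ a : G, a * a = 1 → a * c * a⁻¹ = (c : G)⁻¹ → a ∈ F.C := by
    intro c hc a _ hac
    obtain ⟨e, -⟩ := t_pow_supp F hc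
    refine F.mem_C.2 (mul_inv_eq_iff_eq_mul.1 ?_)
    rw [← e, ← conj_pow, hac, inv_pow, e]
    exact inv_eq_of_mul_eq_one_right (t_mul_t F)
  have hord : ∀ {x : G}, IsConj F.t x → x * x = 1 ∧ x ≠ 1 := by
    intro x h
    obtain ⟨g, rfl⟩ := isConj_iff.1 h
    refine ⟨by rw [show g * F.t * g⁻¹ * (g * F.t * g⁻¹) = g * (F.t * F.t) * g⁻¹ by group, t_mul_t, mul_one,
      mul_inv_cancel], fun e => t_ne_one F (by rwa [mul_inv_eq_one, mul_eq_left] at e)⟩
  have hcount : ∑ c : F.C, E.alpha i c * (N c : ℂ) = ∑ a ∈ reflInvols F, ∑ b ∈ reflInvols F, E.alpha i (a * b) := by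
    set I := Finset.univ.filter fun a : F.C => a * a = 1 ∧ a ≠ 1 with hI
    have hIt : ∀ a ∈ I, IsConj F.t (a : G) := by
      intro a ha
      obtain ⟨e2, e1⟩ := (Finset.mem_filter.1 ha).2
      exact hall _ (orderOf_eq_prime (by rw [pow_two, ← Subgroup.coe_mul, e2, Subgroup.coe_one])
        fun e => e1 (Subtype.ext e))
    have hNC : ∀ c : F.C, E.alpha i c * (N c : ℂ) =
        E.alpha i c * (((I ×ˢ I).filter fun p => p.1 * p.2 = c).card : ℂ) := by
      intro c
      by_cases h0 : E.alpha i c = 0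
      · rw [h0, zero_mul, zero_mul]
      congr 2
      rw [hN, ← Fintype.card_coe, ← Nat.card_eq_fintype_card]
      have hmem : ∀ p : G × G, IsConj F.t p.1 ∧ IsConj F.t p.2 ∧ p.1 * p.2 = (c : G) →
          p.1 ∈ F.C ∧ p.2 ∈ F.C := by
        rintro ⟨a, b⟩ ⟨ha, hb, hab⟩
        simp only at ha hb hab ⊢
        have ha' := (hord ha).1
        have hb' := (hord hb).1
        have haC : a ∈ F.C := hTI c (E.alpha_support h0) a ha' (by
          rw [← hab, mul_inv_rev, inv_eq_of_mul_eq_one_right ha', inv_eq_of_mul_eq_one_right hb', ← mul_assoc,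
            ha', one_mul])
        refine ⟨haC, ?_⟩
        have : b = a * (c : G) := by rw [← hab, ← mul_assoc, ha', one_mul]
        rw [this]
        exact mul_mem haC c.2
      refine Nat.card_congr
        { toFun := fun p => ⟨(⟨p.1.1, (hmem _ p.2).1⟩, ⟨p.1.2, (hmem _ p.2).2⟩),
            Finset.mem_filter.2 ⟨Finset.mem_product.2 ⟨?_, ?_⟩, Subtype.ext p.2.2.2⟩⟩
          invFun := fun p => ⟨((p.1.1 : G), (p.1.2 : G)),
            hIt _ (Finset.mem_product.1 (Finset.mem_filter.1 p.2).1).1,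
            hIt _ (Finset.mem_product.1 (Finset.mem_filter.1 p.2).1).2,
            congrArg Subtype.val (Finset.mem_filter.1 p.2).2⟩
          left_inv := fun p => rfl
          right_inv := fun p => rfl }
      · exact Finset.mem_filter.2 ⟨Finset.mem_univ _, Subtype.ext (hord p.2.1).1,
          fun e => (hord p.2.1).2 (congrArg Subtype.val e)⟩
      · exact Finset.mem_filter.2 ⟨Finset.mem_univ _, Subtype.ext (hord p.2.2.1).1,
          fun e => (hord p.2.2.1).2 (congrArg Subtype.val e)⟩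
    rw [Finset.sum_congr rfl fun c _ => hNC c]
    have hfib : ∑ c : F.C, E.alpha i c * (((I ×ˢ I).filter fun p => p.1 * p.2 = c).card : ℂ) =
        ∑ p ∈ I ×ˢ I, E.alpha i (p.1 * p.2) := by
      rw [← Finset.sum_fiberwise_of_maps_to (t := Finset.univ) (g := fun p : F.C × F.C => p.1 * p.2)
        (fun _ _ => Finset.mem_univ _) (fun p => E.alpha i (p.1 * p.2))]
      refine Finset.sum_congr rfl fun c _ => ?_
      rw [Finset.sum_congr rfl (g := fun _ => E.alpha i c) fun p hp => by rw [(Finset.mem_filter.1 hp).2],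
        Finset.sum_const, nsmul_eq_mul, mul_comm]
    rw [hfib, Finset.sum_product]
    set t' : F.C := ⟨F.t, F.mem_C.2 rfl⟩ with ht'
    have hsub : reflInvols F ⊆ I := fun a ha => by
      obtain ⟨e2, e1, -⟩ := (Finset.mem_filter.1 ha).2
      exact Finset.mem_filter.2 ⟨Finset.mem_univ _, e2, e1⟩
    have hrest : ∀ a ∈ I, a ∉ reflInvols F → a = t' := fun a ha hn => by
      by_contra hne
      obtain ⟨e2, e1⟩ := (Finset.mem_filter.1 ha).2
      exact hn (Finset.mem_filter.2 ⟨Finset.mem_univ _, e2, e1, hne⟩)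
    have htt : ∀ b ∈ I, E.alpha i (t' * b) = 0 ∧ E.alpha i (b * t') = 0 := by
      intro b hb
      have hcomm : b * t' = t' * b := Subtype.ext (F.mem_C.1 b.2)
      rw [hcomm, and_self]
      by_cases hbt : b ∈ reflInvols F
      · obtain ⟨e2, e1, et⟩ := (Finset.mem_filter.1 hbt).2
        obtain ⟨l, hl, k, h | h⟩ := C_form F b.2
        · exfalso
          rcases invol_cases F e2 e1 (fun e => et (Subtype.ext e)) with hc | hc <;>
          · obtain ⟨c, hc⟩ := isConj_iff.1 hc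
            have e := congrArg (fun g => (epsD (kap F g) : ℤ)) hc
            simp only [map_mul, map_inv] at e
            rw [kap_rot F hl h] at e
            first
              | (rw [show kap F (⟨F.r, r_mem_C F⟩ : F.C) = _ from kap_r] at e)
              | (rw [show kap F (⟨F.r * F.s, mul_mem (r_mem_C F) (s_mem_C F)⟩ : F.C) = _ from kap_rs] at e)
            rw [mul_right_comm, mul_inv_cancel, one_mul] at e
            generalize ((k : ℤ) : ZMod 4) = z at e
            revert z; decide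
        · rw [Ext.alpha, show kap F (t' * b) = kap F t' * kap F b from map_mul _ _ _,
            kap_rot F (x := t') (one_mem _) (k := ((2 ^ (F.n - 2) : ℕ) : ℤ)) (by rw [zpow_natCast, one_mul]; rfl),
            kap_ref F hl h]
          simp [DihedralGroup.r_mul_sr, fD_sr]
      · rw [hrest b hb hbt, show t' * t' = 1 from Subtype.ext (t_mul_t F), E.alpha_one]
    symm
    rw [Finset.sum_congr rfl fun a ha => Finset.sum_subset hsub fun b hb hn => by
      rw [hrest b hb hn]; exact (htt a (hsub ha)).2]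
    exact Finset.sum_subset hsub fun a ha hn => Finset.sum_eq_zero fun b hb => by
      rw [hrest a ha hn]; exact (htt b hb).1
  have h2 : classInner (indFun F.C (E.alpha i)) (fun g => (N g : ℂ)) =
      (Nat.card F.C : ℂ)⁻¹ * ∑ a ∈ reflInvols F, ∑ b ∈ reflInvols F, E.alpha i (a * b) := by
    rw [frobenius_reciprocity F.C _ hNcl, classInner_def, ← hcount]
    simp only [Complex.conj_natCast]
  rw [E.sum_refl, h1] at h2
  have hKG : K * (4 * (F.m : ℂ)) = (Nat.card G : ℂ) := by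
    have := card_isConj_mul F.t
    rw [show Subgroup.centralizer ({F.t} : Set G) = F.C from rfl, F.card_C] at this
    rw [hK]
    exact_mod_cast this
  rw [F.card_C] at h2
  push_cast at h2
  have hm0 : (F.m : ℂ) ≠ 0 := Nat.cast_ne_zero.2 F.m_pos.ne'
  have hG0 : (Nat.card G : ℂ) ≠ 0 := Nat.cast_ne_zero.2 Nat.card_pos.ne'
  have hh0 : (deg (θ : F.O → ℂ) : ℂ) ≠ 0 := Nat.cast_ne_zero.2 (deg_irr_pos θ).ne'
  rw [← hKG] at h2 hG0 ⊢
  have hK0 : K ≠ 0 := left_ne_zero_of_mul hG0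
  generalize (1 / (F.w₁ : ℂ) + (sgn i : ℂ) / (F.w₂ : ℂ)) ^ 2 = Q at h2 ⊢
  field_simp at h2
  linear_combination (4 * (F.m : ℂ)) * h2

end Cfsg.Lib.GWD.Chr
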