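import Cfsg.Agent.GWDihedral.CharSpec
import Cfsg.Agent.GWDihedral.Chars.Basic
import Cfsg.Agent.FourGroupGW.Local

/-!
# Inverted kind: the group of the degree bound

`s` centralises `O`, so `C = (O × ⟨s⟩)⟨r⟩`; the elements of `O⟨s⟩` outside `O` and the special elements of `O` form a
trivial intersection set; the sign character of `C` trivial on `O` and `r`.
-/

set_option autoImplicit false
set_option linter.unusedSectionVars false
set_option linter.style.haveILetI false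

namespace Cfsg.Lib.GWD.Chr

open Subgroup

universe u

variable {G : Type u} [Group G] [Finite G] {F : Frame G} {K A : Subgroup G} {z : G} {p : ℕ}
  (D : F.InvertedData K A z p)

include D

theorem z_mem_O : z ∈ F.O := D.KO (D.AK D.zA)

theorem commute_zpow {y : G} (hy : y ∈ F.O) (k : ℤ) : Commute y (F.s ^ k) :=
  (show Commute F.s y from D.s_cent y hy).symm.zpow_right k

theorem mem_sup_s {H : Subgroup G} (hH : H ≤ F.O) {x : G} :
    x ∈ H ⊔ zpowers F.s ↔ ∃ y ∈ H, ∃ k : ℤ, x = y * F.s ^ k := by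
  refine ⟨fun h => ?_, ?_⟩
  · rw [sup_eq_closure] at h
    induction h using closure_induction with
    | mem a ha =>
      rcases ha with ha | ⟨k, rfl⟩
      · exact ⟨a, ha, 0, by simp⟩
      · exact ⟨1, one_mem _, k, by simp⟩
    | one => exact ⟨1, one_mem _, 0, by simp⟩
    | mul a b _ _ ha hb =>
      obtain ⟨y, hy, k, rfl⟩ := ha
      obtain ⟨y', hy', k', rfl⟩ := hb
      refine ⟨y * y', mul_mem hy hy', k + k', ?_⟩
      rw [zpow_add, ← mul_assoc, mul_assoc y, ← (commute_zpow D (hH hy') k).eq]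
      group
    | inv a _ ha =>
      obtain ⟨y, hy, k, rfl⟩ := ha
      refine ⟨y⁻¹, inv_mem hy, -k, ?_⟩
      rw [mul_inv_rev, zpow_neg, ← (commute_zpow D (hH hy) k).inv_inv.eq]
  · rintro ⟨y, hy, k, rfl⟩
    exact mul_mem (mem_sup_left hy) (mem_sup_right (zpow_mem (mem_zpowers _) k))

theorem eq_one_of_mem {k : ℤ} (h : F.s ^ k ∈ F.O) : F.s ^ k = 1 :=
  mem_bot.1 (F.O_inf_S ▸ (⟨h, zpow_mem F.s_mem_S k⟩ : F.s ^ k ∈ F.O ⊓ F.S))

theorem card_sup_s {H : Subgroup G} (hH : H ≤ F.O) :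
    Nat.card ↥(H ⊔ zpowers F.s) = Nat.card H * 2 ^ (F.n - 1) := by
  rw [Cfsg.Lib.Coprime.card_sup_of_inf_eq_bot ?_ ?_, Nat.card_zpowers, F.s_order]
  · refine (zpowers_le.2 ?_).trans (centralizer_le_normalizer _)
    exact mem_centralizer_iff.2 fun y hy => (D.s_cent y (hH hy)).symm
  · refine le_bot_iff.1 ?_
    rw [← F.O_inf_S]
    exact inf_le_inf hH (zpowers_le.2 F.s_mem_S)

/-- Conjugation by `r`. -/
theorem r_conj (y : G) (k : ℤ) : F.r * (y * F.s ^ k) * F.r⁻¹ = F.r * y * F.r⁻¹ * F.s ^ (-k) := by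
  rw [← _root_.conj_mul, ← conj_zpow, F.rel, inv_zpow']

theorem cover {c : G} (hc : c ∈ F.C) : c ∈ F.O ⊔ zpowers F.s ∨ c * F.r ∈ F.O ⊔ zpowers F.s := by
  obtain ⟨l, hl, v, hv, rfl⟩ := F.C_structure c hc
  rcases F.S_cases hv with h | h
  · exact Or.inl (mul_mem (mem_sup_left hl) (mem_sup_right h))
  · refine Or.inr ?_
    rw [mul_assoc]
    exact mul_mem (mem_sup_left hl) (mem_sup_right h)

theorem sup_le_C {H : Subgroup G} (hH : H ≤ F.O) : H ⊔ zpowers F.s ≤ F.C :=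
  sup_le (hH.trans F.O_le) (zpowers_le.2 (F.S_le_C F.s_mem_S))

theorem C_le_normalizer_sup : F.C ≤ normalizer ((F.O ⊔ zpowers F.s : Subgroup G) : Set G) := by
  intro c hc
  have hr : F.r ∈ normalizer ((F.O ⊔ zpowers F.s : Subgroup G) : Set G) :=
    Cfsg.Lib.GW.mem_normalizer_finite fun x hx => by
      obtain ⟨y, hy, k, rfl⟩ := (mem_sup_s D le_rfl).1 hx
      rw [r_conj D]
      exact mul_mem (mem_sup_left (conj_mem_O F (r_mem_C F) hy)) (mem_sup_right (zpow_mem (mem_zpowers _) _))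
  rcases cover D hc with h | h
  · exact le_normalizer h
  · have := mul_mem (le_normalizer h : c * F.r ∈ normalizer ((F.O ⊔ zpowers F.s : Subgroup G) : Set G)) (inv_mem hr)
    rwa [mul_inv_cancel_right] at this

theorem index_sup : ((F.O ⊔ zpowers F.s).subgroupOf F.C).index = 2 := by
  have h := ((F.O ⊔ zpowers F.s).subgroupOf F.C).card_mul_index
  rw [Nat.card_congr (subgroupOfEquivOfLe (sup_le_C D le_rfl)).toEquiv, card_sup_s D le_rfl, F.card_C, Frame.m] at h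
  obtain ⟨j, hj⟩ : ∃ j, F.n = j + 2 := ⟨F.n - 2, by have := F.three_le; omega⟩
  rw [hj, show j + 2 - 1 = j + 1 by omega, show j + 2 - 2 = j by omega] at h
  refine Nat.eq_of_mul_eq_mul_left (show 0 < Nat.card F.O * 2 ^ (j + 1) by
    exact Nat.mul_pos Nat.card_pos (Nat.two_pow_pos _)) ?_
  rw [h]; ring

theorem r_not_mem_sup : F.r ∉ F.O ⊔ zpowers F.s := fun h => by
  obtain ⟨y, hy, k, e⟩ := (mem_sup_s D le_rfl).1 h
  have h1 : y ∈ F.S := by
    rw [eq_mul_inv_of_mul_eq e.symm]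
    exact mul_mem F.r_mem_S (inv_mem (zpow_mem F.s_mem_S k))
  have h2 : y = 1 := mem_bot.1 (F.O_inf_S ▸ (⟨hy, h1⟩ : y ∈ F.O ⊓ F.S))
  rw [h2, one_mul] at e
  exact F.r_not_mem_zpowers (e ▸ zpow_mem (mem_zpowers F.s) k)

/-- The sign character of `C` trivial on `O` and `r`. -/
theorem exists_sign : ∃ ε : F.C →* ℂˣ, (∀ c : F.C, (c : G) ∈ F.O → ε c = 1) ∧
    (∀ c : F.C, (ε c : ℂ) = 1 ∨ (ε c : ℂ) = -1) ∧ ε ⟨F.s, s_mem_C F⟩ = -1 := by
  classical
  set N₁ := F.O ⊔ zpowers (F.s ^ 2) with hN₁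
  have hs2 : zpowers (F.s ^ 2) ≤ normalizer (F.O : Set G) :=
    (zpowers_le.2 (pow_mem (s_mem_C F) 2)).trans F.C_le_normalizer_O
  have hN₁mem : ∀ x ∈ N₁, ∃ y ∈ F.O, ∃ k : ℤ, x = y * (F.s ^ 2) ^ k := fun x hx => by
    rw [← SetLike.mem_coe, hN₁, Subgroup.coe_mul_of_right_le_normalizer_left _ _ hs2] at hx
    obtain ⟨y, hy, _, ⟨k, rfl⟩, rfl⟩ := hx
    exact ⟨y, hy, k, rfl⟩
  have hN₁le : N₁ ≤ F.O ⊔ zpowers F.s :=
    sup_le le_sup_left ((zpowers_le.2 (pow_mem (mem_zpowers _) 2)).trans le_sup_right)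
  have hrn : zpowers F.r ≤ normalizer (N₁ : Set G) := zpowers_le.2 <| Cfsg.Lib.GW.mem_normalizer_finite fun x hx => by
    obtain ⟨y, hy, k, rfl⟩ := hN₁mem x hx
    rw [← _root_.conj_mul, ← conj_zpow, ← conj_pow, F.rel]
    exact mul_mem (mem_sup_left (conj_mem_O F (r_mem_C F) hy))
      (mem_sup_right (zpow_mem (by rw [inv_pow]; exact inv_mem (mem_zpowers _)) k))
  set M₀ := N₁ ⊔ zpowers F.r with hM₀
  have hsM : F.s ∉ M₀ := fun h => by
    rw [← SetLike.mem_coe, hM₀, Subgroup.coe_mul_of_right_le_normalizer_left _ _ hrn] at h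
    obtain ⟨n, hn, _, ⟨i, rfl⟩, e⟩ := h
    change n * F.r ^ i = F.s at e
    have h1 : F.r ^ i ∈ F.O ⊔ zpowers F.s := by
      rw [eq_inv_mul_of_mul_eq e]
      exact mul_mem (inv_mem (hN₁le hn)) (mem_sup_right (mem_zpowers _))
    rcases Int.even_or_odd i with ⟨j, hj⟩ | ⟨j, hj⟩
    · have hr1 : F.r ^ i = 1 := by
        rw [hj, ← two_mul, zpow_mul, zpow_two, Cfsg.Lib.GenDihedral.mul_self_of_two F.r_order, one_zpow]
      rw [hr1, mul_one] at e
      obtain ⟨y, hy, k, e'⟩ := hN₁mem n hn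
      rw [e, ← zpow_natCast, ← zpow_mul] at e'
      have h2 : F.s ^ (1 - (2 : ℕ) * k) ∈ F.O := by
        rw [zpow_sub, zpow_one, show F.s * (F.s ^ ((2 : ℕ) * k : ℤ))⁻¹ = y from mul_inv_eq_of_eq_mul e']
        exact hy
      have h3 : ((2 : ℕ) : ℤ) ^ (F.n - 1) ∣ 1 - (2 : ℕ) * k := by
        have := orderOf_dvd_iff_zpow_eq_one.2 (eq_one_of_mem D h2)
        rwa [F.s_order, Nat.cast_pow] at this
      have h4 := (dvd_pow_self ((2 : ℕ) : ℤ) (show F.n - 1 ≠ 0 by have := F.three_le; omega)).trans h3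
      omega
    · refine r_not_mem_sup D ?_
      rwa [hj, zpow_add, zpow_one, zpow_mul, zpow_two, Cfsg.Lib.GenDihedral.mul_self_of_two F.r_order, one_zpow,
        one_mul] at h1
  set M := M₀.subgroupOf F.C with hM
  set sC : F.C := ⟨F.s, s_mem_C F⟩
  have hrM : F.r ∈ M₀ := mem_sup_right (mem_zpowers _)
  have hOM : F.O ≤ M₀ := le_sup_left.trans le_sup_left
  have hkey : ∀ k : ℤ, F.s ^ k ∈ M₀ ∨ F.s ^ (k + 1) ∈ M₀ := fun k => by
    have hev : ∀ j : ℤ, F.s ^ (2 * j) ∈ M₀ := fun j => by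
      rw [zpow_mul]
      refine zpow_mem (mem_sup_left (mem_sup_right ?_)) j
      rw [zpow_two, ← pow_two]; exact mem_zpowers _
    rcases Int.even_or_odd k with ⟨j, rfl⟩ | ⟨j, rfl⟩
    · exact Or.inl (by rw [← two_mul]; exact hev j)
    · exact Or.inr (by rw [show 2 * j + 1 + 1 = 2 * (j + 1) by ring]; exact hev _)
  have hidx : M.index = 2 := by
    refine Subgroup.index_eq_two_iff'.2 ⟨sC, fun b => ?_⟩
    have hone : b ∈ M ∨ sC * b ∈ M := by
      obtain ⟨l, hl, v, hv, e⟩ := F.C_structure b b.2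
      have hvk : ∀ k : ℤ, ∀ w ∈ M₀, v = F.s ^ k * w → b ∈ M ∨ sC * b ∈ M := fun k w hw hk => by
        rcases hkey k with h | h
        · refine Or.inl (mem_subgroupOf.2 ?_)
          rw [e, hk]; exact mul_mem (hOM hl) (mul_mem h hw)
        · refine Or.inr (mem_subgroupOf.2 ?_)
          show F.s * (b : G) ∈ M₀
          rw [e, hk, show F.s * (l * (F.s ^ k * w)) = F.s * l * F.s⁻¹ * (F.s ^ (k + 1) * w) by
            rw [zpow_add_one]; group]
          exact mul_mem (hOM (conj_mem_O F (s_mem_C F) hl)) (mul_mem h hw)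
      rcases F.S_cases hv with h | h <;> obtain ⟨k, hk⟩ := mem_zpowers_iff.1 h
      · exact hvk k 1 (one_mem _) (by rw [hk, mul_one])
      · exact hvk k F.r⁻¹ (inv_mem hrM) (by rw [hk, mul_inv_cancel_right])
    rcases hone with h | h
    · exact Or.inr ⟨h, fun h' => hsM (mem_subgroupOf.1 (by simpa using mul_mem h' (inv_mem h) : sC ∈ M))⟩
    · exact Or.inl ⟨h, fun h' => hsM (mem_subgroupOf.1 (by simpa using mul_mem h (inv_mem h') : sC ∈ M))⟩
  refine ⟨{ toFun := fun c => if c ∈ M then 1 else -1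
            map_one' := if_pos (one_mem _)
            map_mul' := fun a b => by
              have h := Subgroup.mul_mem_iff_of_index_two hidx (a := a) (b := b)
              by_cases ha : a ∈ M <;> by_cases hb : b ∈ M <;> simp [ha, hb, h] },
    fun c hc => if_pos (mem_subgroupOf.2 (hOM hc)), fun c => ?_,
    if_neg fun h => hsM (mem_subgroupOf.1 h)⟩
  show ((if c ∈ M then (1 : ℂˣ) else -1 : ℂˣ) : ℂ) = 1 ∨ ((if c ∈ M then (1 : ℂˣ) else -1 : ℂˣ) : ℂ) = -1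
  by_cases h : c ∈ M
  · exact Or.inl (by rw [if_pos h]; simp)
  · exact Or.inr (by rw [if_neg h]; simp)

theorem eq_one_of_sq_O {o : G} (ho : o ∈ F.O) (h : o * o = 1) : o = 1 :=
  Cfsg.Lib.GenDihedral.eq_one_of_sq_of_odd h (Cfsg.Lib.GW.Frame.odd_orderOf F.odd_card_O ho)

theorem comm_mem {a b : G} (ha : a ∈ F.O) (hb : b ∈ F.O) : a * b * a⁻¹ * b⁻¹ ∈ K := by
  obtain ⟨g, hg, hg'⟩ := D.cyc
  obtain ⟨i, hi⟩ := hg' a ha
  obtain ⟨j, hj⟩ := hg' b hb
  set k := (g ^ i)⁻¹ * a with hk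
  set l := (g ^ j)⁻¹ * b with hl
  have ea : a = g ^ i * k := by rw [hk, mul_inv_cancel_left]
  have eb : b = g ^ j * l := by rw [hl, mul_inv_cancel_left]
  have hn : ∀ (x : G), x ∈ F.O → ∀ y ∈ K, x⁻¹ * y * x ∈ K := fun x hx y hy => by
    simpa using D.knorm _ (inv_mem hx) y hy
  rw [ea, eb, show g ^ i * k * (g ^ j * l) * (g ^ i * k)⁻¹ * (g ^ j * l)⁻¹ =
    (g ^ i * g ^ j) * (((g ^ j)⁻¹ * k * g ^ j) * l * k⁻¹ * ((g ^ i)⁻¹ * l⁻¹ * g ^ i)) *
      ((g ^ i)⁻¹ * (g ^ j)⁻¹) by group]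
  have hpow : (g ^ i)⁻¹ * (g ^ j)⁻¹ = (g ^ i * g ^ j)⁻¹ := by
    rw [← mul_inv_rev, ← pow_add, ← pow_add, add_comm]
  rw [hpow]
  refine D.knorm _ (mul_mem (pow_mem hg _) (pow_mem hg _)) _ ?_
  exact mul_mem (mul_mem (mul_mem (hn _ (pow_mem hg _) _ hi) hj) (inv_mem hi))
    (hn _ (pow_mem hg _) _ (inv_mem hj))

/-- An involution of `C` commuting with a special element of `O` is `t`. -/
theorem eq_t {y : G} (hy : y ∈ F.O) (hsp : y ∉ K ∨ (y ∈ A ∧ y ≠ 1)) {v : G} (hv : v ∈ F.C) (hv2 : orderOf v = 2)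
    (hvy : v * y = y * v) : v = F.t := by
  obtain ⟨l, hl, u, hu, rfl⟩ := F.C_structure v hv
  rcases F.S_cases hu with h | h
  · obtain ⟨k, rfl⟩ := mem_zpowers_iff.1 h
    have h2 : l * l * (F.s ^ k * F.s ^ k) = 1 := by
      rw [← Cfsg.Lib.GenDihedral.mul_self_of_two hv2]
      calc l * l * (F.s ^ k * F.s ^ k) = l * (l * F.s ^ k) * F.s ^ k := by group
        _ = l * (F.s ^ k * l) * F.s ^ k := by rw [(commute_zpow D hl k).eq]
        _ = _ := by group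
    have hll : l * l ∈ F.O ⊓ F.S := Subgroup.mem_inf.2 ⟨mul_mem hl hl, by
      rw [eq_inv_of_mul_eq_one_left h2]
      exact inv_mem (mul_mem (zpow_mem F.s_mem_S k) (zpow_mem F.s_mem_S k))⟩
    rw [F.O_inf_S, mem_bot] at hll
    obtain rfl := eq_one_of_sq_O D hl hll
    rw [one_mul] at hv2 ⊢
    rcases F.data.sq_zpowers (zpow_mem (mem_zpowers _) k) (Cfsg.Lib.GenDihedral.mul_self_of_two hv2) with e | e
    · rw [e, orderOf_one] at hv2; omega
    · rw [e, F.t_eq]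
  · exfalso
    obtain ⟨k, hk⟩ := mem_zpowers_iff.1 h
    have hu' : u = F.s ^ k * F.r⁻¹ := by rw [hk, mul_inv_cancel_right]
    have hry : F.r * y * F.r⁻¹ ∈ F.O := conj_mem_O F (r_mem_C F) hy
    have h' : l * (F.r * y * F.r⁻¹) * l⁻¹ = y := by
      have e : l * u * y * (l * u)⁻¹ = y := by rw [hvy, mul_inv_cancel_right]
      rw [hu', show l * (F.s ^ k * F.r⁻¹) * y * (l * (F.s ^ k * F.r⁻¹))⁻¹ =
        l * (F.s ^ k * (F.r⁻¹ * y * F.r) * (F.s ^ k)⁻¹) * l⁻¹ by group,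
        Cfsg.Lib.GenDihedral.inv_of_two F.r_order] at e
      rw [Cfsg.Lib.GenDihedral.inv_of_two F.r_order] at hry ⊢
      rwa [← (commute_zpow D hry k).eq, mul_inv_cancel_right] at e
    rcases hsp with hK | ⟨hA, hy1⟩
    · refine hK ?_
      have h1 : y * y ∈ K := by
        have h2 : l * (F.r * y * F.r⁻¹ * y) * l⁻¹ ∈ K := D.knorm l hl _ (D.kinv y hy)
        rw [show l * (F.r * y * F.r⁻¹ * y) * l⁻¹ = l * (F.r * y * F.r⁻¹) * l⁻¹ * (l * y * l⁻¹) by group,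
          h'] at h2
        have h3 := mul_mem (inv_mem (D.knorm y hy _ (comm_mem D hl hy))) h2
        rwa [show (y * (l * y * l⁻¹ * y⁻¹) * y⁻¹)⁻¹ * (y * (l * y * l⁻¹)) = y ^ 2 by group, pow_two] at h3
      exact Cfsg.Lib.GenDihedral.mem_of_sq (Cfsg.Lib.GW.Frame.odd_orderOf F.odd_card_O hy) h1
    · refine hy1 (eq_one_of_sq_O D hy ?_)
      rw [D.ainv y hA, show l * y⁻¹ * l⁻¹ = y⁻¹ from ?_] at h'
      · nth_rewrite 1 [← h']
        exact inv_mul_cancel y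
      · rw [← D.acent _ (inv_mem hA) l hl, mul_inv_cancel_right]

omit D

/-- The special set. -/
def Sp (F : Frame G) (K A : Subgroup G) : Set G :=
  {x | (x ∈ F.O ∧ (x ∉ K ∨ (x ∈ A ∧ x ≠ 1))) ∨ ∃ y ∈ F.O, ∃ k : ℤ, F.s ^ k ≠ 1 ∧ x = y * F.s ^ k}

include D

/-- The special set is a trivial intersection set with normaliser `C`. -/
theorem ti {g x : G} (hg : g ∉ F.C) (hx : x ∈ Sp F K A) : g * x * g⁻¹ ∉ Sp F K A := by
  intro hy
  set m := Nat.card F.O with hm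
  have hpow : ∀ y ∈ F.O, ∀ k : ℤ, (y * F.s ^ k) ^ m = F.s ^ (k * m) := fun y hy k => by
    rw [(commute_zpow D hy k).mul_pow, hm,
      orderOf_dvd_iff_pow_eq_one.1 (Subgroup.orderOf_dvd_natCard F.O hy), one_mul, ← zpow_natCast, ← zpow_mul]
  have hne : ∀ k : ℤ, F.s ^ k ≠ 1 → F.s ^ (k * m) ≠ 1 := fun k hk h => hk (by
    rw [← orderOf_eq_one_iff]
    obtain ⟨j, hj⟩ := order_two_pow F (zpow_mem (mem_zpowers F.s) k)
    have hd : orderOf (F.s ^ k) ∣ m := orderOf_dvd_of_pow_eq_one (by rw [← zpow_natCast, ← zpow_mul]; exact h)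
    exact Nat.eq_one_of_dvd_coprimes (((Nat.coprime_two_left.2 F.odd_card_O).pow_left j)) hj.dvd hd)
  -- the 2-parts
  have h2 : ∀ w ∈ Sp F K A, ∃ k : ℤ, w ^ m = F.s ^ k ∧ (F.s ^ k = 1 → w ∈ F.O ∧ (w ∉ K ∨ (w ∈ A ∧ w ≠ 1))) := by
    rintro w (hw | ⟨y, hy, k, hk, rfl⟩)
    · exact ⟨0, by rw [zpow_zero]; simpa using hpow w hw.1 0, fun _ => hw⟩
    · exact ⟨k * m, hpow y hy k, fun h => absurd h (hne k hk)⟩
  obtain ⟨i, hi, hxO⟩ := h2 x hx
  obtain ⟨j, hj, hyO⟩ := h2 _ hy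
  rw [conj_pow, hi] at hj
  have htt := Cfsg.Lib.GenDihedral.mul_self_of_two F.t_order
  have hmap : ∀ v, v * v = 1 → orderOf (g * v * g⁻¹) = orderOf v := fun v _ => MulEquiv.orderOf_eq (MulAut.conj g) v
  by_cases h1 : F.s ^ i = 1
  · rw [h1, mul_one, mul_inv_cancel] at hj
    obtain ⟨hxm, -⟩ := hxO h1
    obtain ⟨hym, hys⟩ := hyO hj.symm
    have hc : Commute (g * F.t * g⁻¹) (g * x * g⁻¹) :=
      (commute_t F hxm).map (MulAut.conj g).toMonoidHom
    have hv : g * F.t * g⁻¹ ∈ F.C := F.mem_C.2 (D.cent _ hym hys _ hc.eq)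
    have h := eq_t D hym hys hv ((hmap _ htt).trans F.t_order) hc.eq
    exact hg (F.mem_C.2 (mul_inv_eq_iff_eq_mul.1 h))
  · obtain ⟨e, he⟩ := mem_zpowers_iff.1 (t_mem_zpowers F (zpow_mem (mem_zpowers F.s) i) h1)
    have h : g * F.t * g⁻¹ = F.s ^ (j * e) := by
      rw [← he, ← conj_zpow, hj, ← zpow_mul]
    refine hg (F.mem_C.2 (mul_inv_eq_iff_eq_mul.1 ?_))
    rcases F.data.sq_zpowers (h ▸ zpow_mem (mem_zpowers F.s) _ : g * F.t * g⁻¹ ∈ zpowers F.s)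
      (by rw [_root_.conj_mul, htt]; group) with e' | e'
    · exact absurd (conj_eq_one_iff.1 e') fun e => by have := F.t_order; rw [e, orderOf_one] at this; omega
    · rw [e', F.t_eq]

end Cfsg.Lib.GWD.Chr
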