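import Cfsg.Agent.GWDihedral.Chars.Basic
import Cfsg.Agent.GWDihedral.CharSpec
import Cfsg.Agent.Chars.Galois
import Cfsg.Agent.Chars.Extraspecial

/-!
# Abelian ending and inverted kind: degree bounds

If a power `z` of `s` centralises `M` and the values of `χ` on the cosets `z ^ j M ≠ M` are orthogonal to a
constituent of `χ` on `M`, the order of `z` divides its multiplicity.
-/

set_option autoImplicit false
set_option linter.unusedSectionVars false
set_option linter.style.haveILetI false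

namespace Cfsg.Lib.GWD.Chr

open scoped ComplexConjugate commutatorElement
open Cfsg Cfsg.Lib.Chars

universe u

variable {G : Type u} [Group G] [Fintype G]

attribute [local instance] _root_.Classical.propDecidable

theorem dvd_mult (M : Subgroup G) (z : G) (hz : ∀ m : M, Commute z m) {χ : G → ℂ} (hχ : IsCharacter G χ)
    (φ : IrrCharacter M)
    (h0 : ∀ a ∈ Subgroup.zpowers z, a ≠ 1 → ∑ m : M, χ (a * m) * conj ((φ : M → ℂ) m) = 0) {μ : ℕ}
    (hμ : classInner (fun m : M => χ m) (φ : M → ℂ) = μ) : orderOf z ∣ μ := by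
  set Z := Subgroup.zpowers z with hZ
  set ρ := MonoidHom.noncommCoprod Z.subtype M.subtype (fun a m => by
    obtain ⟨i, hi⟩ := Subgroup.mem_zpowers_iff.1 a.2
    show Commute (a : G) m
    rw [← hi]
    exact (hz m).zpow_left i) with hρ
  obtain ⟨μ', hμ'⟩ := IsCharacter.exists_mult (IsCharacter.comp_hom hχ ρ)
    (IsIrrCharacter.comp_surjective φ.2 (MonoidHom.snd Z M) fun m => ⟨(1, m), rfl⟩)
  rw [classInner_def, Fintype.sum_prod_type, Finset.sum_eq_single (1 : Z)] at hμ'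
  · refine ⟨μ', ?_⟩
    apply Nat.cast_injective (R := ℂ)
    push_cast
    rw [← hμ', ← hμ, classInner_def, Nat.card_prod, show Nat.card Z = orderOf z from Nat.card_zpowers z]
    push_cast
    have : (orderOf z : ℂ) ≠ 0 := by exact_mod_cast (orderOf_pos z).ne'
    field_simp
    exact Finset.sum_congr rfl fun m _ => by simp [hρ]
  · intro a _ ha
    rw [← h0 a a.2 fun e => ha (Subtype.ext e)]
    exact Finset.sum_congr rfl fun m _ => by simp [hρ]
  · exact fun h => absurd (Finset.mem_univ _) h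

/-- Constituents bound the degree. -/
theorem sum_mult_le_deg (M : Subgroup G) (χ : IrrCharacter G) (T : Finset (IrrCharacter M)) (μ d : ℕ)
    (hμ : ∀ φ ∈ T, classInner (fun m : M => (χ : G → ℂ) m) (φ : M → ℂ) = μ)
    (hd : ∀ φ ∈ T, d ≤ deg (φ : M → ℂ)) : T.card * (μ * d) ≤ deg (χ : G → ℂ) := by
  obtain ⟨m, hm⟩ := IsCharacter.exists_decomp (IsCharacter.restrict (isCharacter_of_irr χ.2) M)
  have hi : ∀ φ ∈ T, m φ = μ := fun φ hφ => by
    have h := hμ φ hφ
    simp only [show (fun x : M => (χ : G → ℂ) x) = ∑ ψ, (m ψ : ℂ) • (ψ : M → ℂ) by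
      rw [hm]; simp [← Nat.cast_smul_eq_nsmul ℂ]] at h
    rw [classInner_irrSum] at h
    exact_mod_cast h
  have h : deg (χ : G → ℂ) = ∑ φ, m φ * deg (φ : M → ℂ) := by
    apply Nat.cast_injective (R := ℂ)
    rw [← irr_apply_one_eq_deg, show (χ : G → ℂ) 1 = (fun x : M => (χ : G → ℂ) x) 1 from rfl, hm]
    simp [Finset.sum_apply, irr_apply_one_eq_deg]
  rw [h, ← smul_eq_mul, ← Finset.sum_const]
  refine (Finset.sum_le_sum fun φ hφ => ?_).trans (Finset.sum_le_univ_sum_of_nonneg fun _ => Nat.zero_le _)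
  rw [← hi φ hφ]
  exact Nat.mul_le_mul_left _ (hd φ hφ)

/-- An element moved by `χ` is moved by a constituent. -/
theorem exists_moved (M : Subgroup G) (χ : IrrCharacter G) (x : M) (hx : (χ : G → ℂ) x ≠ (χ : G → ℂ) 1) :
    ∃ (φ : IrrCharacter M) (μ : ℕ), μ ≠ 0 ∧ classInner (fun m : M => (χ : G → ℂ) m) (φ : M → ℂ) = μ ∧
      (φ : M → ℂ) x ≠ (φ : M → ℂ) 1 := by
  obtain ⟨m, hm⟩ := IsCharacter.exists_decomp (IsCharacter.restrict (isCharacter_of_irr χ.2) M)
  by_contra h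
  push Not at h
  refine hx ?_
  have e := congrFun hm x
  have e1 := congrFun hm 1
  simp only [Finset.sum_apply, Pi.smul_apply] at e e1
  rw [e, show (χ : G → ℂ) 1 = (χ : G → ℂ) ((1 : M) : G) from rfl, e1]
  refine Finset.sum_congr rfl fun φ _ => ?_
  by_cases h0 : m φ = 0
  · simp [h0]
  · rw [h φ (m φ) h0 (by rw [hm]; simp only [← Nat.cast_smul_eq_nsmul ℂ]; exact classInner_irrSum _ φ)]

/-- An automorphism fixing `χ` preserves the multiplicities. -/
theorem mult_comp (M : Subgroup G) (χ : G → ℂ) (α : MulAut M) (hα : ∀ m : M, χ ((α m : M) : G) = χ m)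
    (φ : M → ℂ) : classInner (fun m : M => χ m) (fun m => φ (α m)) = classInner (fun m : M => χ m) φ := by
  rw [classInner_def, classInner_def]
  congr 1
  exact Fintype.sum_equiv α.toEquiv _ _ fun m => by simp [hα]

theorem exists_conjAut (M : Subgroup G) (g : G) (h : ∀ m ∈ M, g * m * g⁻¹ ∈ M)
    (h' : ∀ m ∈ M, g⁻¹ * m * g ∈ M) :
    ∃ α : MulAut M, ∀ m : M, ((α m : M) : G) = g * m * g⁻¹ :=
  ⟨{ toFun := fun m => ⟨g * m * g⁻¹, h m m.2⟩
     invFun := fun m => ⟨g⁻¹ * m * g, h' m m.2⟩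
     left_inv := fun m => Subtype.ext (by simp [mul_assoc])
     right_inv := fun m => Subtype.ext (by simp [mul_assoc])
     map_mul' := fun a b => Subtype.ext (by simp [mul_assoc]) }, fun _ => rfl⟩

/-- A central element of prime order in the derived subgroup forces its prime into the degree. -/
theorem prime_dvd_deg {Y : Type u} [Group Y] [Fintype Y] (φ : IrrCharacter Y) {z : Y} {p : ℕ} (hp : p.Prime)
    (hz : z ∈ Subgroup.center Y) (hz' : z ∈ commutator Y) (hzp : z ^ p = 1)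
    (hmoved : (φ : Y → ℂ) z ≠ (φ : Y → ℂ) 1) : p ∣ deg (φ : Y → ℂ) := by
  obtain ⟨φ, n, ρ, hρ, e⟩ := φ
  subst e
  show p ∣ deg ρ.character
  haveI := hρ
  obtain ⟨c, hc⟩ := schur_scalar ρ (ρ z) fun g v => by
    rw [← Module.End.mul_apply, ← Module.End.mul_apply, ← map_mul, ← map_mul,
      Subgroup.mem_center_iff.mp hz g]
  set δ : Y →* ℂˣ := (Units.map (LinearMap.det (A := ℂ) (M := Fin n → ℂ))).comp
    (MonoidHom.toHomUnits ρ) with hδ
  have hδz : δ z = 1 := by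
    rw [← MonoidHom.mem_ker]
    exact Abelianization.commutator_subset_ker δ hz'
  have hcn : c ^ n = 1 := by
    have h : LinearMap.det (ρ z) = 1 := congrArg (fun u : ℂˣ => (u : ℂ)) hδz
    rw [hc, LinearMap.det_smul, LinearMap.det_id, mul_one, Module.finrank_fin_fun] at h
    exact h
  have hd : deg (ρ.character) = n := by
    rw [deg_character, Module.finrank_fin_fun]
  rw [hd]
  have hn : n ≠ 0 := fun h0 => by
    have := finrank_pos_of_irreducible ρ
    rw [Module.finrank_fin_fun] at this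
    omega
  have hcp : c ^ p = 1 := by
    have h : (ρ z) ^ p = 1 := by rw [← map_pow, hzp, map_one]
    have h' := congrArg (fun T : Module.End ℂ (Fin n → ℂ) => T (Pi.single ⟨0, Nat.pos_of_ne_zero hn⟩ 1)
      ⟨0, Nat.pos_of_ne_zero hn⟩) h
    rw [hc, smul_pow] at h'
    simpa [show (LinearMap.id : (Fin n → ℂ) →ₗ[ℂ] _) = 1 from rfl] using h'
  have hc1 : c ≠ 1 := fun h1 => hmoved (by
    rw [h1, one_smul] at hc
    show LinearMap.trace ℂ _ (ρ z) = LinearMap.trace ℂ _ (ρ 1)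
    rw [hc, map_one]
    rfl)
  haveI : Fact p.Prime := ⟨hp⟩
  exact (orderOf_eq_prime hcp hc1) ▸ orderOf_dvd_of_pow_eq_one hcn

theorem eq_one_of_sq_odd {H : Type*} [Monoid H] {x : H} {n : ℕ} (hx : x * x = 1) (hn : Odd n) (h : x ^ n = 1) :
    x = 1 := by
  obtain ⟨c, rfl⟩ := hn
  rwa [pow_succ, pow_mul, pow_two, hx, one_pow, one_mul] at h

variable (F : Frame G)

theorem mem_T₁ {x : G} (hx : x ∈ F.four₁.T) : x ∈ F.O :=
  (Subgroup.closure_le _).2 (fun _ h => h.1) hx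

theorem r_inv_T₁ (hT : IsMulCommutative F.four₁.T) {x : G} (hx : x ∈ F.four₁.T) :
    F.r * x * F.r⁻¹ = x⁻¹ := by
  induction hx using Subgroup.closure_induction with
  | mem a ha => exact ha.2
  | one => simp
  | mul a b ha hb iha ihb =>
    have hab : a⁻¹ * b⁻¹ = b⁻¹ * a⁻¹ := congrArg Subtype.val
      (hT.is_comm.comm (⟨a, ha⟩ : F.four₁.T)⁻¹ (⟨b, hb⟩ : F.four₁.T)⁻¹)
    rw [← conj_mul, iha, ihb, hab, mul_inv_rev]
  | inv a _ iha => rw [← conj_inv, iha]

theorem conj_T₁ {w : G} (hw : w ∈ F.four₁.W) {x : G} (hx : x ∈ F.four₁.T) : w * x * w⁻¹ ∈ F.four₁.T := by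
  obtain ⟨hwO, hwr⟩ := hw
  have hwr' : F.r * w = w * F.r := (Subgroup.mem_centralizer_singleton_iff.1 hwr).symm
  induction hx using Subgroup.closure_induction with
  | mem a ha =>
    refine Subgroup.subset_closure ⟨mul_mem (mul_mem hwO ha.1) (inv_mem hwO), ?_⟩
    show F.r * (w * a * w⁻¹) * F.r⁻¹ = (w * a * w⁻¹)⁻¹
    calc F.r * (w * a * w⁻¹) * F.r⁻¹ = (F.r * w) * a * (F.r * w)⁻¹ := by group
      _ = w * (F.r * a * F.r⁻¹) * w⁻¹ := by rw [hwr']; group
      _ = _ := by rw [ha.2, conj_inv]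
  | one => simp
  | mul a b _ _ iha ihb => rw [← conj_mul]; exact mul_mem iha ihb
  | inv a _ iha => rw [← conj_inv]; exact inv_mem iha

/-- Abelian ending: the degree bound. -/
theorem linear_degree (χ : IrrCharacter G) (hs2 : ∀ y ∈ F.O, Commute (F.s ^ 2) y)
    (hT : IsMulCommutative F.four₁.T) (hK : ⁅F.four₁.T, F.four₁.W⁆ ≠ ⊥)
    (hker : ∀ g : G, (χ : G → ℂ) g = (χ : G → ℂ) 1 → g = 1)
    (hinv : ∀ j : ℕ, F.s ^ (2 * j) ≠ 1 → ∀ k ∈ ⁅F.four₁.T, F.four₁.W⁆, ∀ y ∈ F.O,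
      (χ : G → ℂ) (F.s ^ (2 * j) * (k * y)) = (χ : G → ℂ) (F.s ^ (2 * j) * y)) :
    6 * 2 ^ (F.n - 2) ≤ deg (χ : G → ℂ) := by
  set T := F.four₁.T with hTd
  set W := F.four₁.W with hWd
  have hKT : ⁅T, W⁆ ≤ T := Subgroup.commutator_le.2 fun t ht w hw => by
    rw [commutatorElement_def, show t * w * t⁻¹ * w⁻¹ = t * (w * t⁻¹ * w⁻¹) by group]
    exact mul_mem ht (conj_T₁ F hw (inv_mem ht))
  obtain ⟨⟨k, hk⟩, hk'⟩ := Subgroup.ne_bot_iff_exists_ne_one.1 hK
  have hk1 : k ≠ 1 := fun e => hk' (Subtype.ext e)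
  obtain ⟨φ, μ, hμ0, hμ, hmoved⟩ := exists_moved T χ ⟨k, hKT hk⟩ fun e => hk1 (hker _ e)
  have hcomm : ∀ a b : T, a * b = b * a := hT.is_comm.comm
  obtain ⟨l, hl⟩ := exists_hom_of_deg_one (isCharacter_of_irr φ.2) (irr_deg_one_of_comm hcomm φ.2)
  have hlk : l ⟨k, hKT hk⟩ ≠ 1 := fun e => hmoved (by rw [hl]; simp [e])
  -- the multiplicity
  have hdvd : 2 ^ (F.n - 2) ∣ μ := by
    have hord : orderOf (F.s ^ 2) = 2 ^ (F.n - 2) := by
      have h3 := F.three_le
      rw [orderOf_pow_of_dvd two_ne_zero (F.s_order ▸ dvd_pow_self 2 (by omega)), F.s_order,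
        show F.n - 1 = F.n - 2 + 1 by omega, pow_succ, Nat.mul_div_cancel _ two_pos]
    rw [← hord]
    refine dvd_mult T (F.s ^ 2) (fun m => hs2 m (mem_T₁ F m.2)) (isCharacter_of_irr χ.2) φ (fun a ha ha1 => ?_) hμ
    obtain ⟨j, rfl⟩ := mem_powers_iff_mem_zpowers.2 ha
    simp only [← pow_mul] at ha1 ⊢
    set S := ∑ m : T, (χ : G → ℂ) (F.s ^ (2 * j) * m) * conj ((φ : T → ℂ) m) with hS
    have h : S = conj (l ⟨k, hKT hk⟩ : ℂ) * S := by
      rw [hS, Finset.mul_sum, ← Equiv.sum_comp (Equiv.mulLeft (⟨k, hKT hk⟩ : T))]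
      refine Finset.sum_congr rfl fun m _ => ?_
      simp only [Equiv.coe_mulLeft, hl, map_mul, Units.val_mul, Subgroup.coe_mul,
        hinv j ha1 k hk (m : G) (mem_T₁ F m.2)]
      ring
    have h2 : (1 - conj (l ⟨k, hKT hk⟩ : ℂ)) * S = 0 := by linear_combination h
    rcases mul_eq_zero.1 h2 with h3 | h3
    · refine absurd (Units.ext ?_) hlk
      have := congrArg conj (sub_eq_zero.1 h3)
      simpa using this.symm
    · exact h3
  -- the automorphisms fixing `l`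
  let H : Subgroup (MulAut T) :=
    { carrier := {β | ∀ x, l (β x) = l x}
      one_mem' := fun x => rfl
      mul_mem' := fun {a b} ha hb x => by rw [MulAut.mul_apply, ha, hb]
      inv_mem' := fun {a} ha x => by
        have h := ha (a⁻¹ x)
        rw [MulAut.apply_inv_self] at h
        exact h.symm }
  have hWT : ∀ w ∈ W, (∀ m ∈ T, w * m * w⁻¹ ∈ T) ∧ ∀ m ∈ T, w⁻¹ * m * w ∈ T := fun w hw =>
    ⟨fun m hm => conj_T₁ F hw hm, fun m hm => by simpa using conj_T₁ F (inv_mem hw) hm⟩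
  obtain ⟨w, hw, α, hα, hαH⟩ : ∃ w ∈ W, ∃ α : MulAut T,
      (∀ m : T, ((α m : T) : G) = w * m * w⁻¹) ∧ α ∉ H := by
    by_contra h
    push Not at h
    have hle : ⁅T, W⁆ ≤ l.ker.map T.subtype := Subgroup.commutator_le.2 fun t ht w hw => by
      obtain ⟨α, hα⟩ := exists_conjAut T w (hWT w hw).1 (hWT w hw).2
      have hl1 : l (α ⟨t, ht⟩⁻¹) = l (⟨t, ht⟩ : T)⁻¹ := h w hw α hα _
      refine ⟨⟨t, ht⟩ * α ⟨t, ht⟩⁻¹, ?_, ?_⟩
      · show l _ = 1
        rw [map_mul, hl1, ← map_mul, mul_inv_cancel, map_one]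
      · rw [Subgroup.coe_subtype, Subgroup.coe_mul, hα, commutatorElement_def]
        simp [mul_assoc]
    obtain ⟨x, hx, hxk⟩ := hle hk
    exact hlk (by rw [show (⟨k, hKT hk⟩ : T) = x from Subtype.ext hxk.symm]; exact hx)
  obtain ⟨γ, hγ⟩ : ∃ γ : MulAut T, ∀ m : T, γ m = m⁻¹ :=
    ⟨{ toFun := fun m => m⁻¹, invFun := fun m => m⁻¹, left_inv := inv_inv, right_inv := inv_inv,
       map_mul' := fun a b => by rw [mul_inv_rev, hcomm] }, fun _ => rfl⟩
  have hγH : γ ∉ H := fun h => hlk (by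
    refine Cfsg.Lib.GWD.Chr.eq_one_of_sq_odd ?_ (Cfsg.Lib.GW.Frame.odd_orderOf F.odd_card_O (mem_T₁ F (hKT hk))) ?_
    · have h1 := h ⟨k, hKT hk⟩
      rw [hγ, map_inv] at h1
      nth_rw 1 [← h1]
      exact inv_mul_cancel _
    · rw [← map_pow, show (⟨k, hKT hk⟩ : T) ^ orderOf k = 1 from Subtype.ext (by simp [pow_orderOf_eq_one]),
        map_one])
  have hαn : α ^ orderOf w = 1 := by
    have h : ∀ (i : ℕ) (m : T), (((α ^ i) m : T) : G) = w ^ i * m * (w ^ i)⁻¹ := fun i => by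
      induction i with
      | zero => intro m; simp
      | succ i ih => intro m; rw [pow_succ', MulAut.mul_apply, hα, ih, pow_succ']; group
    refine MulEquiv.ext fun m => Subtype.ext ?_
    rw [h, pow_orderOf_eq_one]
    simp
  have hodd : ∀ d : ℤ, (α ^ d) * α ^ d ∈ H → α ^ d ∈ H := fun d hd => by
    obtain ⟨c, hc⟩ := Cfsg.Lib.GW.Frame.odd_orderOf F.odd_card_O hw.1
    have h1 : (α ^ d) ^ orderOf w = 1 := by
      rw [← zpow_natCast, ← zpow_mul, mul_comm, zpow_mul, zpow_natCast, hαn, one_zpow]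
    have h2 : α ^ d = ((α ^ d * α ^ d) ^ c)⁻¹ := by
      rw [eq_inv_iff_mul_eq_one, ← pow_two, ← pow_mul, ← pow_succ', ← hc, h1]
    rw [h2]
    exact inv_mem (pow_mem hd c)
  have hγα : Commute γ α := MulEquiv.ext fun m => by
    rw [MulAut.mul_apply, MulAut.mul_apply, hγ, hγ, map_inv]
  have hd0 : ∀ d : ℤ, -2 ≤ d → d ≤ 2 → α ^ d ∈ H → d = 0 := fun d h1 h2 hd => by
    by_contra hne
    refine hαH ?_
    have h22 : α ^ (2 : ℤ) ∈ H → α ∈ H := fun h => by
      have := hodd 1 (by rwa [zpow_one, ← pow_two, ← zpow_natCast, Nat.cast_ofNat])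
      rwa [zpow_one] at this
    interval_cases d
    · exact h22 (by simpa using inv_mem hd)
    · simpa using inv_mem hd
    · exact absurd rfl hne
    · simpa using hd
    · exact h22 hd
  -- the six characters
  let e : Fin 3 × Bool → MulAut T := fun q => (if q.2 then γ else 1) * α ^ (((q.1 : ℕ) : ℤ) - 1)
  let Φ : Fin 3 × Bool → IrrCharacter T := fun q =>
    ⟨fun m => (φ : T → ℂ) (e q m), IsIrrCharacter.comp_mulEquiv φ.2 (e q)⟩
  have hinj : Function.Injective Φ := by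
    rintro ⟨a, ba⟩ ⟨b, bb⟩ h
    have hH : e (a, ba) * (e (b, bb))⁻¹ ∈ H := fun x => by
      have h' := congrFun (congrArg Subtype.val h) ((e (b, bb))⁻¹ x)
      simp only [Φ, hl, MulAut.apply_inv_self] at h'
      exact Units.ext h'
    set d : ℤ := ((a : ℕ) : ℤ) - ((b : ℕ) : ℤ) with hd
    have hbound : -2 ≤ d ∧ d ≤ 2 := by have := a.2; have := b.2; omega
    have hγ2 : γ * γ = 1 := MulEquiv.ext fun m => by rw [MulAut.mul_apply, hγ, hγ, inv_inv]; rfl
    have hγi : γ⁻¹ = γ := inv_eq_of_mul_eq_one_right hγ2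
    have hval : e (a, ba) * (e (b, bb))⁻¹ = (if ba = bb then 1 else γ) * α ^ d := by
      have hc : ∀ i : ℤ, α ^ i * γ = γ * α ^ i := fun i => ((hγα.zpow_right i).symm).eq
      have hz : ∀ i j : ℤ, α ^ i * (α ^ j)⁻¹ = α ^ (i - j) := fun i j => (zpow_sub α i j).symm
      have hd' : (((a : ℕ) : ℤ) - 1) - (((b : ℕ) : ℤ) - 1) = d := by omega
      cases ba <;> cases bb <;> simp only [e, if_true, if_false, Bool.false_eq_true, one_mul, mul_inv_rev, hγi] <;>
        simp only [reduceIte, ← mul_assoc, hz, hd', mul_one, one_mul, inv_one, Bool.true_eq_false,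
          Bool.false_eq_true]
      · rw [hc]
      · rw [mul_assoc γ, hz, hd']
      · rw [mul_assoc γ, hz, hd', mul_assoc, hc, ← mul_assoc, hγ2, one_mul]
    rw [hval] at hH
    by_cases hb : ba = bb
    · rw [if_pos hb, one_mul] at hH
      have h0 := hd0 d hbound.1 hbound.2 hH
      exact Prod.ext (Fin.ext (show (a : ℕ) = (b : ℕ) by omega)) hb
    · rw [if_neg hb] at hH
      have h2 : α ^ d * α ^ d ∈ H := by
        have h3 := mul_mem hH hH
        rwa [show γ * α ^ d * (γ * α ^ d) = α ^ d * α ^ d by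
          rw [← mul_assoc, mul_assoc γ, ← (hγα.zpow_right d).eq, ← mul_assoc, hγ2, one_mul]] at h3
      exact absurd (by simpa using mul_mem hH (inv_mem (hodd d h2))) hγH
  have hmult : ∀ q, classInner (fun m : T => (χ : G → ℂ) m) (Φ q : T → ℂ) = μ := by
    intro q
    rw [← hμ]
    refine mult_comp T (χ : G → ℂ) (e q) (fun m => ?_) (φ : T → ℂ)
    have hpow : ∀ (d : ℤ) (m : T), (χ : G → ℂ) (((α ^ d) m : T) : G) = (χ : G → ℂ) m := by
      intro d
      induction d using Int.induction_on with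
      | zero => intro m; simp
      | succ i ih =>
        intro m
        rw [zpow_add_one, MulAut.mul_apply, ih, hα, isClassFunction_irr χ]
      | pred i ih =>
        intro m
        rw [zpow_sub_one, MulAut.mul_apply, ih]
        have h := hα (α⁻¹ m)
        rw [MulAut.apply_inv_self] at h
        rw [h, isClassFunction_irr χ]
    obtain ⟨a, b⟩ := q
    cases b <;> simp only [e, if_true, if_false, Bool.false_eq_true, MulAut.mul_apply, MulAut.one_apply]
    · exact hpow _ m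
    · rw [hγ, Subgroup.coe_inv, ← r_inv_T₁ F hT (((α ^ _) m).2), isClassFunction_irr χ]
      exact hpow _ m
  have hle := sum_mult_le_deg T χ (Finset.univ.image Φ) μ 1 (fun ψ hψ => by
    obtain ⟨q, -, rfl⟩ := Finset.mem_image.1 hψ
    exact hmult q) fun ψ _ => deg_irr_pos ψ
  rw [Finset.card_image_of_injective _ hinj, Finset.card_univ, mul_one,
    show Fintype.card (Fin 3 × Bool) = 6 from rfl] at hle
  exact (Nat.mul_le_mul_left 6 (Nat.le_of_dvd (Nat.pos_of_ne_zero hμ0) hdvd)).trans hle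

/-- Inverted kind: the degree bound. -/
theorem linear_fixed_degree (χ : IrrCharacter G) (hs : ∀ y ∈ F.O, Commute F.s y) {p : ℕ} {z : G} (hp : p.Prime)
    (hz : z ∈ ⁅F.O ⊓ Subgroup.centralizer {z}, F.O ⊓ Subgroup.centralizer {z}⁆) (hzp : z ^ p = 1) (hz1 : z ≠ 1)
    (hr : F.r * z * F.r⁻¹ = z⁻¹) (hker : ∀ g : G, (χ : G → ℂ) g = (χ : G → ℂ) 1 → g = 1)
    (hinv : ∀ k : ℕ, F.s ^ k ≠ 1 → ∀ y ∈ F.O ⊓ Subgroup.centralizer {z},
      (χ : G → ℂ) (F.s ^ k * (z * y)) = (χ : G → ℂ) (F.s ^ k * y)) :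
    2 ^ F.n * p ≤ deg (χ : G → ℂ) := by
  set Y := F.O ⊓ Subgroup.centralizer {z} with hY
  have hzY : z ∈ Y := Subgroup.commutator_le.2 (fun a ha b hb => by
    rw [commutatorElement_def]; exact mul_mem (mul_mem (mul_mem ha hb) (inv_mem ha)) (inv_mem hb)) hz
  set zY : Y := ⟨z, hzY⟩ with hzYd
  have hzc : zY ∈ Subgroup.center Y := Subgroup.mem_center_iff.2 fun y =>
    Subtype.ext (Subgroup.mem_centralizer_singleton_iff.1 y.2.2)
  have hzd : zY ∈ commutator Y := by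
    have h : (commutator Y).map Y.subtype = ⁅Y, Y⁆ := by
      rw [_root_.commutator_def, Subgroup.map_commutator, ← MonoidHom.range_eq_map, Subgroup.range_subtype]
    obtain ⟨a, ha, e⟩ := h.symm ▸ hz
    rwa [show zY = a from Subtype.ext e.symm]
  obtain ⟨φ, μ, hμ0, hμ, hmoved⟩ := exists_moved Y χ zY fun e => hz1 (hker _ e)
  have hpd : p ∣ deg (φ : Y → ℂ) := prime_dvd_deg φ hp hzc hzd (Subtype.ext hzp) hmoved
  have hdvd : 2 ^ (F.n - 1) ∣ μ := by
    rw [← F.s_order]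
    refine dvd_mult Y F.s (fun m => hs m m.2.1) (isCharacter_of_irr χ.2) φ (fun a ha ha1 => ?_) hμ
    obtain ⟨j, rfl⟩ := mem_powers_iff_mem_zpowers.2 ha
    set S := ∑ m : Y, (χ : G → ℂ) (F.s ^ j * m) * conj ((φ : Y → ℂ) m) with hS
    have h1 : ∀ m : Y, (φ : Y → ℂ) (zY * m) * (φ : Y → ℂ) 1 = (φ : Y → ℂ) zY * (φ : Y → ℂ) m :=
      center_mul_of_irr φ.2 hzc
    have h : S * conj ((φ : Y → ℂ) 1) = conj ((φ : Y → ℂ) zY) * S := by
      conv_lhs => rw [hS, ← Equiv.sum_comp (Equiv.mulLeft zY)]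
      rw [hS, Finset.sum_mul, Finset.mul_sum]
      refine Finset.sum_congr rfl fun m _ => ?_
      simp only [Equiv.coe_mulLeft, Subgroup.coe_mul, hzYd, hinv j ha1 m m.2]
      rw [mul_assoc, ← map_mul, h1, map_mul]
      ring
    have h2 : (conj ((φ : Y → ℂ) 1) - conj ((φ : Y → ℂ) zY)) * S = 0 := by linear_combination h
    rcases mul_eq_zero.1 h2 with h3 | h3
    · exact absurd ((starRingEnd ℂ).injective (sub_eq_zero.1 h3)).symm hmoved
    · exact h3
  have hrC : F.r ∈ F.C := F.S_le_C F.r_mem_S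
  have hri : F.r⁻¹ = F.r := Cfsg.Lib.GenDihedral.inv_of_two F.r_order
  have hrY : ∀ m ∈ Y, F.r * m * F.r⁻¹ ∈ Y := fun m hm => by
    refine ⟨conj_mem_O F hrC hm.1, Subgroup.mem_centralizer_singleton_iff.2 ?_⟩
    have hc : Commute m z := Subgroup.mem_centralizer_singleton_iff.1 hm.2
    have h := (hc.inv_right).map (MulAut.conj F.r).toMonoidHom
    simp only [MulEquiv.coe_toMonoidHom, MulAut.conj_apply] at h
    rw [show F.r * z⁻¹ * F.r⁻¹ = z by rw [← conj_inv, hr, inv_inv]] at h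
    exact h.eq
  obtain ⟨α, hα⟩ := exists_conjAut Y F.r hrY fun m hm => by
    have := hrY m hm
    rwa [hri] at this ⊢
  set φ' : IrrCharacter Y := ⟨fun m => (φ : Y → ℂ) (α m), IsIrrCharacter.comp_mulEquiv φ.2 α⟩ with hφ'
  have hz2 : (φ : Y → ℂ) zY⁻¹ ≠ (φ : Y → ℂ) zY := by
    intro h
    refine hmoved ?_
    have h2 := center_mul_of_irr φ.2 hzc zY
    have h3 := center_mul_of_irr φ.2 hzc zY⁻¹
    rw [mul_inv_cancel, h] at h3
    rw [← h3] at h2
    have h4 : (φ : Y → ℂ) (zY * zY) = (φ : Y → ℂ) 1 :=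
      mul_right_cancel₀ (IsIrrCharacter.apply_one_ne_zero φ.2) h2
    obtain ⟨c, hc⟩ := Cfsg.Lib.GW.Frame.odd_orderOf F.odd_card_O hzY.1
    have hp2 : orderOf z = p := by haveI := Fact.mk hp; exact orderOf_eq_prime hzp hz1
    have h5 : (zY * zY) ^ (c + 1) ∈ kerSubgroup (φ : Y → ℂ) (isCharacter_of_irr φ.2) :=
      pow_mem ((mem_kerSubgroup _ _).2 h4) _
    rw [mem_kerSubgroup, ← pow_two, ← pow_mul, show 2 * (c + 1) = orderOf z + 1 by omega, pow_succ,
      show zY ^ orderOf z = 1 from Subtype.ext (pow_orderOf_eq_one z), one_mul] at h5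
    exact h5
  have hne : φ' ≠ φ := fun e => hz2 (by
    have h := congrFun (congrArg Subtype.val e) zY
    simp only [hφ'] at h
    rwa [show α zY = zY⁻¹ from Subtype.ext (by rw [hα]; exact hr)] at h)
  have hμ' : classInner (fun m : Y => (χ : G → ℂ) m) (φ' : Y → ℂ) = μ := by
    rw [← hμ]
    exact mult_comp Y (χ : G → ℂ) α (fun m => by rw [hα, isClassFunction_irr χ]) (φ : Y → ℂ)
  have hd' : deg (φ' : Y → ℂ) = deg (φ : Y → ℂ) := by
    show deg (fun m => (φ : Y → ℂ) (α m)) = _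
    rw [deg, map_one]; rfl
  have hle := sum_mult_le_deg Y χ {φ', φ} μ p (by simp [hμ, hμ']) (fun ψ hψ => by
    rcases Finset.mem_insert.1 hψ with rfl | hψ
    · exact hd' ▸ Nat.le_of_dvd (deg_irr_pos φ) hpd
    · exact Finset.mem_singleton.1 hψ ▸ Nat.le_of_dvd (deg_irr_pos φ) hpd)
  rw [Finset.card_pair hne] at hle
  have h3 := F.three_le
  calc 2 ^ F.n * p = 2 * (2 ^ (F.n - 1) * p) := by
        rw [← mul_assoc, ← pow_succ', show F.n - 1 + 1 = F.n by omega]
    _ ≤ _ := (Nat.mul_le_mul_left 2 (Nat.mul_le_mul_right p (Nat.le_of_dvd (Nat.pos_of_ne_zero hμ0) hdvd))).trans hle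

end Cfsg.Lib.GWD.Chr
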