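import Cfsg.Agent.GWDihedral.Chars.Members
import Cfsg.Agent.GWDihedral.Chars.LinearDegree

/-!
# Linear characters: the statement for the inverted kind, and `n ≠ 3` of the abelian ending

The identity against the degree bounds and the bounds for the order of `G`.
-/

set_option autoImplicit false
set_option linter.unusedSectionVars false
set_option linter.style.haveILetI false

namespace Cfsg.Lib.GWD.Chr

open Cfsg Cfsg.Lib.Chars Cfsg.Lib.Blocks
open scoped ComplexConjugate commutatorElement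

universe u

variable {G : Type u} [Group G] [Finite G] {F : Frame G}

/-- The irreducible character of a linear character. -/
noncomputable def lin [Fintype F.O] (f : ↥F.O →* ℂˣ) : IrrCharacter F.O :=
  ⟨fun a => (f a : ℂ), isIrrCharacter_linear f⟩

theorem lin_apply [Fintype F.O] (f : ↥F.O →* ℂˣ) (a : F.O) : (lin f : F.O → ℂ) a = (f a : ℂ) := rfl

theorem deg_lin [Fintype F.O] (f : ↥F.O →* ℂˣ) : deg (lin f : F.O → ℂ) = 1 := by
  apply Nat.cast_injective (R := ℂ)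
  rw [← irr_apply_one_eq_deg, lin_apply, map_one, Units.val_one, Nat.cast_one]

theorem lin_injective [Fintype F.O] {f g : ↥F.O →* ℂˣ} (h : lin f = lin g) : f = g :=
  MonoidHom.ext fun a => Units.ext (congrFun (congrArg Subtype.val h) a)

theorem lin_ne_principal [Fintype F.O] {f : ↥F.O →* ℂˣ} {a : F.O} (ha : f a ≠ 1) : lin f ≠ principal F.O :=
  fun e => ha (Units.ext (congrFun (congrArg Subtype.val e) a))

theorem hom_comm {H : Subgroup G} (f : ↥H →* ℂˣ) {A B : Subgroup G} (hA : A ≤ H) (hB : B ≤ H) {x : G}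
    (hx : x ∈ ⁅A, B⁆) (hxH : x ∈ H) : f ⟨x, hxH⟩ = 1 := by
  have hle : ⁅A, B⁆ ≤ f.ker.map H.subtype := Subgroup.commutator_le.2 fun a ha b hb =>
    ⟨⁅(⟨a, hA ha⟩ : H), ⟨b, hB hb⟩⁆, by
      rw [SetLike.mem_coe, MonoidHom.mem_ker, map_commutatorElement]
      exact commutatorElement_eq_one_iff_mul_comm.2 (mul_comm _ _), rfl⟩
  obtain ⟨y, hy, e⟩ := hle hx
  rwa [show (⟨x, hxH⟩ : H) = y from Subtype.ext e.symm]

theorem four_T_le : F.four₁.T ≤ F.O := (Subgroup.closure_le _).2 fun _ h => h.1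

theorem four_W_le : F.four₁.W ≤ F.O := inf_le_left

theorem K_le_O : ⁅F.four₁.T, F.four₁.W⁆ ≤ F.O := Subgroup.commutator_le.2 fun a ha b hb => by
  rw [commutatorElement_def]
  exact mul_mem (mul_mem (mul_mem (four_T_le ha) (four_W_le hb)) (inv_mem (four_T_le ha))) (inv_mem (four_W_le hb))

theorem false_of_order_le [Fintype G] [Fintype F.O] [Fintype F.C] {M : Ideal AlgInt} (hm : Minimal G)
    (hM : IsPModular 2 M) (hs2 : ∀ y ∈ F.O, Commute (F.s ^ 2) y) (hU : F.n ≠ 3 ∨ ∀ y ∈ F.O, Commute F.s y)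
    {f : ↥F.O →* ℂˣ} (hθ : InvD F F.S (lin f : F.O → ℂ)) (E : Ext F (lin f)) {x0 : ℚ}
    (hx0 : 45 * (2 : ℚ) ^ F.n < 32 * x0)
    (hx : ∀ χ : IrrCharacter G, E.c false χ ≠ 0 → x0 ≤ (deg (χ : G → ℂ) : ℚ)) : False := by
  have h0 : (0 : ℚ) < x0 := by
    have : (0 : ℚ) < (2 : ℚ) ^ F.n := by positivity
    linarith
  have h1 := E.order_le hM hs2 hθ hU (fun x hx => hm.one_class F.t_order hx) h0 hx
  have h2 := (F.bounds hm).upper
  rw [deg_lin, Nat.cast_one, one_pow, one_mul] at h1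
  have hw : (0 : ℚ) < (F.w₁ : ℚ) * F.w₂ := by
    have := F.w₁_pos; have := F.w₂_pos
    positivity
  have hR : (0 : ℚ) < (F.m : ℚ) ^ 3 * (F.w₁ + F.w₂) ^ 2 := by
    have := F.m_pos; have := F.w₁_pos
    positivity
  have h3 : 8 * (F.m : ℚ) ^ 3 * ((F.w₁ : ℚ) + F.w₂) ^ 2 * x0 ≤
      (2 : ℚ) ^ F.n * Nat.card G * ((F.w₁ : ℚ) * F.w₂) ^ 2 := by
    have e : 1 / (F.w₁ : ℚ) + 1 / (F.w₂ : ℚ) = ((F.w₁ : ℚ) + F.w₂) / ((F.w₁ : ℚ) * F.w₂) := by
      field_simp [(left_ne_zero_of_mul hw.ne'), (right_ne_zero_of_mul hw.ne')]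
      ring
    rw [e, div_pow, mul_div, div_mul_eq_mul_div, div_le_iff₀ (by positivity)] at h1
    linarith
  have h4 := mul_le_mul_of_nonneg_left h2 (show (0 : ℚ) ≤ (2 : ℚ) ^ F.n by positivity)
  have h5 := mul_lt_mul_of_pos_right hx0 hR
  nlinarith

/-- `LinearFixedSpec`. -/
theorem linearFixedSpec (F : Frame G) (hm : Minimal G) : F.LinearFixedSpec := by
  intro hs p z hp hz hzp hz1 hrz f hf a
  classical
  letI := Fintype.ofFinite G
  letI := Fintype.ofFinite F.O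
  letI := Fintype.ofFinite F.C
  haveI := hm.simple
  obtain ⟨M, hM⟩ := Cfsg.Lib.Blocks.exists_isPModular (p := 2) Nat.prime_two
  have hs' : ∀ y ∈ F.O, Commute F.s y := hs
  have hs2 : ∀ y ∈ F.O, Commute (F.s ^ 2) y := fun y hy => (hs' y hy).pow_left 2
  by_contra ha
  have hinvf : ∀ u ∈ F.S, ∀ a b : F.O, (b : G) = u * a * u⁻¹ → f b = f a := fixed_of_gen F (fun a b e => by
    rw [show b = a from Subtype.ext (by rw [e, (hs' a a.2).eq, mul_inv_cancel_right])]) fun a b e => hf a b e.symm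
  have hθ : InvD F F.S (lin f : F.O → ℂ) := fun u hu a b e => by
    rw [lin_apply, lin_apply, hinvf u hu a b e]
  obtain ⟨E, -⟩ := exists_ext_linear F f hinvf
  refine false_of_order_le hm hM hs2 (Or.inr hs') hθ E (x0 := (((2 : ℕ) ^ F.n * p : ℕ) : ℚ)) ?_ fun χ hc => ?_
  · push_cast
    have : (2 : ℚ) ≤ p := by exact_mod_cast hp.two_le
    have : (0 : ℚ) < (2 : ℚ) ^ F.n := by positivity
    nlinarith
  refine Nat.cast_le.2 (linear_fixed_degree F χ hs' hp hz hzp hz1 hrz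
    (fun g hg => faithful (E.ne_principal hM hs2 hθ (lin_ne_principal ha) (Or.inl hc)) hg) fun k hk y hy => ?_)
  have hzY : z ∈ F.O := Subgroup.commutator_le.2 (fun a ha b hb => by
    rw [commutatorElement_def]
    exact mul_mem (mul_mem (mul_mem ha.1 hb.1) (inv_mem ha.1)) (inv_mem hb.1)) hz
  obtain ⟨c, hc'⟩ := E.section_scalar hM hs2 hθ (Or.inl hc) (Or.inr hs')
    (Subgroup.pow_mem _ (Subgroup.mem_zpowers F.s) k) hk fun w hw => (hs' w hw).pow_left k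
  have h1 := hc' ⟨z * y, mul_mem hzY hy.1⟩
  rw [show (⟨z * y, mul_mem hzY hy.1⟩ : F.O) = ⟨z, hzY⟩ * ⟨y, hy.1⟩ from rfl] at h1
  refine (h1.trans ?_).trans (hc' ⟨y, hy.1⟩).symm
  show c * ((f (⟨z, hzY⟩ * ⟨y, hy.1⟩) : ℂˣ) : ℂ) = c * ((f ⟨y, hy.1⟩ : ℂˣ) : ℂ)
  rw [map_mul, hom_comm f inf_le_left inf_le_left hz hzY, one_mul]

/-- `LinearSpec` off `n = 3`. -/
theorem linear_of_ne_three (hm : Minimal G) (hn : F.n ≠ 3) (hs2 : ∀ y ∈ F.O, Commute (F.s ^ 2) y)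
    (hT : IsMulCommutative F.four₁.T) (hK : ⁅F.four₁.T, F.four₁.W⁆ ≠ ⊥) (f : ↥F.O →* ℂˣ)
    (hinvf : ∀ u ∈ F.S, ∀ a b : F.O, (b : G) = u * a * u⁻¹ → f b = f a) (a : F.O) : f a = 1 := by
  classical
  letI := Fintype.ofFinite G
  letI := Fintype.ofFinite F.O
  letI := Fintype.ofFinite F.C
  haveI := hm.simple
  obtain ⟨M, hM⟩ := Cfsg.Lib.Blocks.exists_isPModular (p := 2) Nat.prime_two
  by_contra ha
  have hθ : InvD F F.S (lin f : F.O → ℂ) := fun u hu a b e => by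
    rw [lin_apply, lin_apply, hinvf u hu a b e]
  obtain ⟨E, -⟩ := exists_ext_linear F f hinvf
  refine false_of_order_le hm hM hs2 (Or.inl hn) hθ E (x0 := ((6 * 2 ^ (F.n - 2) : ℕ) : ℚ)) ?_ fun χ hc => ?_
  · have h3 := F.three_le
    have : (2 : ℚ) ^ F.n = 2 ^ (F.n - 2) * 4 := by
      rw [show (4 : ℚ) = 2 ^ 2 by norm_num, ← pow_add]; congr 1; omega
    have : (0 : ℚ) < (2 : ℚ) ^ (F.n - 2) := by positivity
    push_cast
    nlinarith
  refine Nat.cast_le.2 (linear_degree F χ hs2 hT hK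
    (fun g hg => faithful (E.ne_principal hM hs2 hθ (lin_ne_principal ha) (Or.inl hc)) hg) fun j hj k hk y hy => ?_)
  obtain ⟨c, hc'⟩ := E.section_scalar hM hs2 hθ (Or.inl hc) (Or.inl hn)
    (Subgroup.pow_mem _ (Subgroup.mem_zpowers F.s) (2 * j)) hj fun w hw => by
      rw [pow_mul]; exact (hs2 w hw).pow_left j
  refine ((hc' ⟨k * y, mul_mem (K_le_O hk) hy⟩).trans ?_).trans (hc' ⟨y, hy⟩).symm
  show c * ((f (⟨k, K_le_O hk⟩ * ⟨y, hy⟩) : ℂˣ) : ℂ) = c * ((f ⟨y, hy⟩ : ℂˣ) : ℂ)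
  rw [map_mul, hom_comm f four_T_le four_W_le hk (K_le_O hk), one_mul]

end Cfsg.Lib.GWD.Chr
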