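import Cfsg.Agent.GWDihedral.Chars.Section

/-!
# The characters sharing a central character with an invariant one

If a character of `G` has the residues of an `S`-invariant `θ` and of `ζ`, then `ζ = θ` unless the stabiliser of `ζ`
in `S` is a four-group and the correspondent of `ζ` is a rotation of that of an `S`-invariant character.
-/

set_option autoImplicit false
set_option linter.unusedSectionVars false
set_option linter.style.haveILetI false

namespace Cfsg.Lib.GWD.Chr

open Cfsg Cfsg.Lib.Chars Cfsg.Lib.Blocks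
open scoped ComplexConjugate

universe u

variable {G : Type u} [Group G] [Fintype G] (F : Frame G) [Fintype F.O] {M : Ideal AlgInt}

/-- The stabiliser of a character in the Sylow subgroup. -/
def stab (ζ : IrrCharacter F.O) : Subgroup G where
  carrier := {u | u ∈ F.S ∧ ∀ a b : F.O, (b : G) = u * a * u⁻¹ → (ζ : F.O → ℂ) b = (ζ : F.O → ℂ) a}
  one_mem' := ⟨one_mem _, fun a b e => by rw [show b = a from Subtype.ext (by simpa using e)]⟩
  mul_mem' := by
    rintro u v ⟨hu, hu'⟩ ⟨hv, hv'⟩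
    refine ⟨mul_mem hu hv, fun a b e => ?_⟩
    rw [hu' ⟨v * a * v⁻¹, conj_mem_O F (F.S_le_C hv) a.2⟩ b (by rw [e]; group), hv' a _ rfl]
  inv_mem' := by
    rintro u ⟨hu, hu'⟩
    exact ⟨inv_mem hu, fun a b e => (hu' b a (by rw [e]; group)).symm⟩

theorem stab_le (ζ : IrrCharacter F.O) : stab F ζ ≤ F.S := fun _ h => h.1

theorem mem_stab {ζ : IrrCharacter F.O} {u : G} (hu : u ∈ F.S) :
    u ∈ stab F ζ ↔ Glauberman.twist (conjO F (F.S_le_C hu)) ζ = ζ :=
  ⟨fun h => Subtype.ext (funext fun a => h.2 a _ (conjO_coe F (F.S_le_C hu) a)),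
    fun h => ⟨hu, fun a b e => by
      rw [show b = conjO F (F.S_le_C hu) a from Subtype.ext e]
      exact congrFun (congrArg Subtype.val h) a⟩⟩

theorem invD_stab (ζ : IrrCharacter F.O) : InvD F (stab F ζ) (ζ : F.O → ℂ) := fun _ hd => hd.2

theorem mem_stab_of_commute {ζ : IrrCharacter F.O} {u : G} (hu : u ∈ F.S) (h : ∀ y ∈ F.O, Commute u y) :
    u ∈ stab F ζ :=
  ⟨hu, fun a b e => by rw [show b = a from Subtype.ext (by rw [e, (h a a.2).eq, mul_inv_cancel_right])]⟩

theorem t_mem_stab (ζ : IrrCharacter F.O) : F.t ∈ stab F ζ :=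
  mem_stab_of_commute F F.t_mem_S fun _ hy => commute_t F hy

/-- A subgroup of `S` containing `s²` is normal. -/
theorem S_le_normalizer {D : Subgroup G} (hD : D ≤ F.S) (h2 : F.s ^ 2 ∈ D) :
    F.S ≤ Subgroup.normalizer (D : Set G) := by
  have hrel : ∀ k : ℤ, F.r * F.s ^ k * F.r = F.s ^ (-k) := fun k => by
    have := F.data.tau_zpow k
    rw [F.data.tau_inv] at this
    rw [this, zpow_neg]
  have hrr : F.r * F.r = 1 := F.data.sq
  have hcomm : ∀ u ∈ F.S, ∀ d ∈ F.S, ∃ k : ℤ, u * d * u⁻¹ * d⁻¹ = (F.s ^ 2) ^ k := by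
    have hform : ∀ u ∈ F.S, ∃ i : ℤ, u = F.s ^ i ∨ u = F.s ^ i * F.r := by
      intro u hu
      rcases F.S_cases hu with h | h
      · obtain ⟨i, hi⟩ := Subgroup.mem_zpowers_iff.1 h
        exact ⟨i, Or.inl hi.symm⟩
      · obtain ⟨i, hi⟩ := Subgroup.mem_zpowers_iff.1 h
        exact ⟨i, Or.inr (by rw [hi, mul_assoc, hrr, mul_one])⟩
    intro u hu d hd
    obtain ⟨i, hi⟩ := hform u hu
    obtain ⟨j, hj⟩ := hform d hd
    have hsq : ∀ k : ℤ, (F.s ^ 2) ^ k = F.s ^ (2 * k) := fun k => by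
      rw [← zpow_natCast, ← zpow_mul]; rfl
    rcases hi with rfl | rfl <;> rcases hj with rfl | rfl
    · exact ⟨0, by rw [zpow_zero]; group⟩
    · refine ⟨i, ?_⟩
      rw [hsq, mul_inv_rev, F.data.tau_inv, ← zpow_neg, ← zpow_neg]
      calc F.s ^ i * (F.s ^ j * F.r) * F.s ^ (-i) * (F.r * F.s ^ (-j))
          = F.s ^ i * F.s ^ j * (F.r * F.s ^ (-i) * F.r) * F.s ^ (-j) := by simp only [mul_assoc]
        _ = F.s ^ (2 * i) := by rw [hrel, ← zpow_add, ← zpow_add, ← zpow_add]; congr 1; ring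
    · refine ⟨-j, ?_⟩
      rw [hsq, mul_inv_rev, F.data.tau_inv, ← zpow_neg, ← zpow_neg]
      calc F.s ^ i * F.r * F.s ^ j * (F.r * F.s ^ (-i)) * F.s ^ (-j)
          = F.s ^ i * (F.r * F.s ^ j * F.r) * F.s ^ (-i) * F.s ^ (-j) := by simp only [mul_assoc]
        _ = F.s ^ (2 * -j) := by rw [hrel, ← zpow_add, ← zpow_add, ← zpow_add]; congr 1; ring
    · refine ⟨i - j, ?_⟩
      rw [hsq, mul_inv_rev, mul_inv_rev, F.data.tau_inv, ← zpow_neg, ← zpow_neg]
      calc F.s ^ i * F.r * (F.s ^ j * F.r) * (F.r * F.s ^ (-i)) * (F.r * F.s ^ (-j))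
          = F.s ^ i * (F.r * F.s ^ j * (F.r * F.r) * F.s ^ (-i) * F.r) * F.s ^ (-j) := by simp only [mul_assoc]
        _ = F.s ^ i * (F.r * F.s ^ (j + -i) * F.r) * F.s ^ (-j) := by
          rw [hrr, mul_one, zpow_add, ← mul_assoc F.r (F.s ^ j)]
        _ = F.s ^ (2 * (i - j)) := by rw [hrel, ← zpow_add, ← zpow_add]; congr 1; ring
  intro u hu
  have hfwd : ∀ u ∈ F.S, ∀ d ∈ D, u * d * u⁻¹ ∈ D := by
    intro u hu d hd
    obtain ⟨k, hk⟩ := hcomm u hu d (hD hd)
    have := mul_mem (Subgroup.zpow_mem D h2 k) hd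
    rwa [← hk, inv_mul_cancel_right] at this
  refine Subgroup.mem_normalizer_iff.2 fun d => ⟨hfwd u hu d, fun h => ?_⟩
  have := hfwd u⁻¹ (inv_mem hu) _ h
  rwa [show u⁻¹ * (u * d * u⁻¹) * u⁻¹⁻¹ = d by group] at this

/-- Without a square root of `t` in it and outside `⟨s⟩`, `D` may be rotated; otherwise its normaliser is in `C`. -/
theorem normalizer_le_C {D : Subgroup G} (hD : D ≤ F.S) (ht : F.t ∈ D)
    (h : (∃ d ∈ D, d * d = F.t) ∨ D ≤ Subgroup.zpowers F.s) : Subgroup.normalizer (D : Set G) ≤ F.C := by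
  intro g hg
  have hmem : ∀ d ∈ D, g * d * g⁻¹ ∈ D := fun d hd => (Subgroup.mem_normalizer_iff.1 hg d).1 hd
  have h2 : g * F.t * g⁻¹ * (g * F.t * g⁻¹) = 1 := by
    rw [show g * F.t * g⁻¹ * (g * F.t * g⁻¹) = g * (F.t * F.t) * g⁻¹ by group, t_mul_t]; group
  have hin : g * F.t * g⁻¹ ∈ Subgroup.zpowers F.s := by
    rcases h with ⟨d, hd, hdd⟩ | h
    · rw [← hdd, show g * (d * d) * g⁻¹ = g * d * g⁻¹ * (g * d * g⁻¹) by group]
      by_cases hs : g * d * g⁻¹ ∈ Subgroup.zpowers F.s
      · exact mul_mem hs hs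
      · rw [(F.data.reflection (by rw [F.coe_sylow]; exact hD (hmem d hd)) hs).1]
        exact one_mem _
    · exact h (hmem _ ht)
  rcases F.data.sq_zpowers hin h2 with e | e
  · exfalso
    have h3 : F.t = 1 := by
      calc F.t = g⁻¹ * (g * F.t * g⁻¹) * g := by group
        _ = 1 := by rw [e]; group
    have := F.t_order
    rw [h3, orderOf_one] at this
    omega
  · rw [F.t_eq] at e
    exact F.mem_C.2 (mul_inv_eq_iff_eq_mul.1 e)

/-- `WD D` and `D` meet trivially. -/
theorem eq_of_mul_eq {D : Subgroup G} (hD : D ≤ F.S) {w w' d d' : G} (hw : w ∈ WD F D) (hw' : w' ∈ WD F D)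
    (hd : d ∈ D) (hd' : d' ∈ D) (h : w * d = w' * d') : w = w' ∧ d = d' := by
  have e := Subgroup.mul_injective_of_disjoint (disjoint_iff.2 F.O_inf_S)
    (a₁ := ((⟨w, WD_le F D hw⟩, ⟨d, hD hd⟩) : F.O × F.S))
    (a₂ := (⟨w', WD_le F D hw'⟩, ⟨d', hD hd'⟩)) h
  exact ⟨congrArg (fun z : F.O × F.S => (z.1 : G)) e, congrArg (fun z : F.O × F.S => (z.2 : G)) e⟩

theorem WD_le_normalizer {D : Subgroup G} : WD F D ≤ Subgroup.normalizer (D : Set G) :=
  fun _ h => Subgroup.centralizer_le_normalizer _ h.2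

/-- The normal subgroup `WD D × D` of the normaliser. -/
def base (D : Subgroup G) : Subgroup ↥(Subgroup.normalizer (D : Set G)) :=
  (WD F D ⊔ D).subgroupOf (Subgroup.normalizer (D : Set G))

theorem mem_sup_iff {D : Subgroup G} {x : G} : x ∈ WD F D ⊔ D ↔ ∃ w ∈ WD F D, ∃ d ∈ D, x = w * d := by
  refine ⟨fun h => ?_, fun ⟨w, hw, d, hd, e⟩ => e ▸ Subgroup.mul_mem_sup hw hd⟩
  rw [← SetLike.mem_coe, Subgroup.coe_mul_of_left_le_normalizer_right _ _ (WD_le_normalizer F)] at h
  obtain ⟨w, hw, d, hd, e⟩ := h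
  exact ⟨w, hw, d, hd, e.symm⟩

/-- Representatives of the normaliser modulo `WD D × D`. -/
noncomputable def reps {D : Subgroup G} (hD : D ≤ F.S) (ht : F.t ∈ D) :
    Reps F D (↥(Subgroup.normalizer (D : Set G)) ⧸ base F D) where
  R q := ((Quotient.out q : ↥(Subgroup.normalizer (D : Set G))) : G)
  mem q := (Quotient.out q).2
  form g hg := by
    set q : ↥(Subgroup.normalizer (D : Set G)) ⧸ base F D := QuotientGroup.mk ⟨g, hg⟩ with hq
    have h : (Quotient.out q)⁻¹ * ⟨g, hg⟩ ∈ base F D := QuotientGroup.eq.1 (by rw [QuotientGroup.out_eq'])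
    obtain ⟨w, hw, d, hd, e⟩ := (mem_sup_iff F).1 (Subgroup.mem_subgroupOf.1 h)
    refine ⟨_, conj_mem_WD F ht (Quotient.out q).2 hw, q, d, hd, ?_⟩
    push_cast at e
    calc g = (Quotient.out q : ↥(Subgroup.normalizer (D : Set G))) * (w * d) := by rw [← e, mul_inv_cancel_left]
      _ = _ := by group
  inj w hw w' hw' q q' d hd d' hd' e := by
    set R : G := ((Quotient.out q : ↥(Subgroup.normalizer (D : Set G))) : G) with hR
    set R' : G := ((Quotient.out q' : ↥(Subgroup.normalizer (D : Set G))) : G) with hR'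
    have hconj : ∀ (q : ↥(Subgroup.normalizer (D : Set G)) ⧸ base F D) (x : G), x ∈ WD F D →
        ((Quotient.out q : ↥(Subgroup.normalizer (D : Set G))) : G)⁻¹ * x *
          ((Quotient.out q : ↥(Subgroup.normalizer (D : Set G))) : G) ∈ WD F D := fun q x hx => by
      have := conj_mem_WD F ht (inv_mem (Quotient.out q).2) hx
      rwa [inv_inv] at this
    have h1 : R * (R⁻¹ * w * R * d) = R' * (R'⁻¹ * w' * R' * d') := by
      calc _ = w * R * d := by group
        _ = w' * R' * d' := e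
        _ = _ := by group
    have hqq : q = q' := by
      rw [← QuotientGroup.out_eq' q, ← QuotientGroup.out_eq' q', QuotientGroup.eq]
      refine Subgroup.mem_subgroupOf.2 ?_
      push_cast
      rw [← hR, ← hR', show R⁻¹ * R' = R⁻¹ * w * R * d * (R'⁻¹ * w' * R' * d')⁻¹ by
        rw [eq_mul_inv_iff_mul_eq, mul_assoc, ← h1, inv_mul_cancel_left]]
      exact mul_mem (Subgroup.mul_mem_sup (hconj q w hw) hd)
        (inv_mem (Subgroup.mul_mem_sup (hconj q' w' hw') hd'))
    subst hqq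
    obtain ⟨e1, e2⟩ := eq_of_mul_eq F hD (hconj q w hw) (hconj q w' hw') hd hd' (mul_left_cancel h1)
    exact ⟨mul_left_cancel (mul_right_cancel e1), rfl, e2⟩

open _root_.Classical in
/-- A function on `WD D` extended by zero. -/
noncomputable def ext0 {D : Subgroup G} (b : IrrCharacter (WD F D)) (x : G) : ℂ :=
  if h : x ∈ WD F D then (b : WD F D → ℂ) ⟨x, h⟩ else 0

theorem ext0_coe {D : Subgroup G} (b : IrrCharacter (WD F D)) (v : WD F D) :
    ext0 F b v = (b : WD F D → ℂ) v := dif_pos v.2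

/-- `g` carries `b` to `c`. -/
def Carry {D : Subgroup G} (b c : IrrCharacter (WD F D)) (g : G) : Prop :=
  g ∈ Subgroup.normalizer (D : Set G) ∧ ∀ v : WD F D, ext0 F b (g * v * g⁻¹) = (c : WD F D → ℂ) v

theorem carry_iff {D : Subgroup G} [Fintype (WD F D)] (ht : F.t ∈ D) {b c : IrrCharacter (WD F D)} {g : G}
    (hg : g ∈ Subgroup.normalizer (D : Set G)) :
    Carry F b c g ↔ Glauberman.twist (conjWD F ht hg) b = c := by
  refine ⟨fun h => Subtype.ext (funext fun v => ?_), fun h => ⟨hg, fun v => ?_⟩⟩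
  · rw [← h.2 v, Glauberman.twist_apply, ← ext0_coe F b, conjWD_coe]
  · rw [← conjWD_coe F ht hg, ext0_coe, ← h]; rfl

theorem Carry.comp {D : Subgroup G} (ht : F.t ∈ D) {b c d : IrrCharacter (WD F D)} {g h : G}
    (hg : Carry F b c g) (hh : Carry F c d h) : Carry F b d (g * h) := by
  refine ⟨mul_mem hg.1 hh.1, fun v => ?_⟩
  rw [← hh.2 v, show g * h * (v : G) * (g * h)⁻¹ = g * ((conjWD F ht hh.1 v : WD F D) : G) * g⁻¹ by
    rw [conjWD_coe]; group, hg.2, ← conjWD_coe F ht hh.1, ext0_coe]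

theorem Carry.symm {D : Subgroup G} (ht : F.t ∈ D) {b c : IrrCharacter (WD F D)} {g : G}
    (hg : Carry F b c g) : Carry F c b g⁻¹ := by
  refine ⟨inv_mem hg.1, fun v => ?_⟩
  rw [← conjWD_coe F ht (inv_mem hg.1), ext0_coe, ← hg.2 (conjWD F ht (inv_mem hg.1) v), conjWD_coe,
    show g * (g⁻¹ * (v : G) * g⁻¹⁻¹) * g⁻¹ = (v : G) by group, ext0_coe]

/-- The elements fixing `b`. -/
def fixer {D : Subgroup G} (ht : F.t ∈ D) (b : IrrCharacter (WD F D)) : Subgroup G where
  carrier := {g | Carry F b b g}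
  one_mem' := ⟨one_mem _, fun v => by rw [one_mul, inv_one, mul_one, ext0_coe]⟩
  mul_mem' h h' := h.comp F ht h'
  inv_mem' h := h.symm F ht

/-- The number of elements carrying `b` to `c`. -/
theorem card_carry {D : Subgroup G} [Fintype (WD F D)] {ι : Type*} [Fintype ι] (ht : F.t ∈ D) (T : Reps F D ι)
    (b c : IrrCharacter (WD F D)) [DecidableEq (IrrCharacter (WD F D))] :
    Nat.card {g : G // Carry F b c g} = Nat.card (WD F D) *
      (Finset.univ.filter fun i => Glauberman.twist (act F ht T i) b = c).card * Nat.card D := by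
  rw [← Fintype.card_subtype, ← Nat.card_eq_fintype_card, ← Nat.card_prod, ← Nat.card_prod]
  have hform : ∀ (w : WD F D) (i : ι) (d : G), d ∈ D →
      (Carry F b c ((w : G) * T.R i * d) ↔ Glauberman.twist (act F ht T i) b = c) := by
    intro w i d hd
    have hmem : (w : G) * T.R i * d ∈ Subgroup.normalizer (D : Set G) :=
      mul_mem (mul_mem (WD_le_normalizer F w.2) (T.mem i)) (Subgroup.le_normalizer hd)
    have h : ∀ v : WD F D, ext0 F b ((w : G) * T.R i * d * v * ((w : G) * T.R i * d)⁻¹) =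
        (b : WD F D → ℂ) (act F ht T i v) := by
      intro v
      rw [show (w : G) * T.R i * d * v * ((w : G) * T.R i * d)⁻¹ = ((w * act F ht T i v * w⁻¹ : WD F D) : G) by
        calc _ = (w : G) * T.R i * (d * v * d⁻¹) * ((w : G) * T.R i)⁻¹ := by group
          _ = _ := by
            rw [(((mem_WD F ht).1 v.2).1 d hd).eq, mul_inv_cancel_right]
            push_cast [act, conjWD_coe]; group, ext0_coe, isClassFunction_irr b]
    exact ⟨fun hC => Subtype.ext (funext fun v => (h v).symm.trans (hC.2 v)),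
      fun e => ⟨hmem, fun v => (h v).trans (congrFun (congrArg Subtype.val e) v)⟩⟩
  refine (Nat.card_congr (Equiv.ofBijective
    (fun x : (↥(WD F D) × {i // Glauberman.twist (act F ht T i) b = c}) × ↥D =>
      (⟨(x.1.1 : G) * T.R x.1.2 * x.2, (hform _ _ _ x.2.2).2 x.1.2.2⟩ : {g : G // Carry F b c g})) ⟨?_, ?_⟩)).symm
  · intro x y h
    obtain ⟨e1, e2, e3⟩ := T.inj _ x.1.1.2 _ y.1.1.2 _ _ _ x.2.2 _ y.2.2 (congrArg Subtype.val h)
    exact Prod.ext (Prod.ext (Subtype.ext e1) (Subtype.ext e2)) (Subtype.ext e3)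
  · rintro ⟨g, hg⟩
    obtain ⟨w, hw, i, d, hd, rfl⟩ := T.form g hg.1
    exact ⟨((⟨w, hw⟩, ⟨i, (hform ⟨w, hw⟩ i d hd).1 hg⟩), ⟨d, hd⟩), rfl⟩

theorem rc_twist {D : Subgroup G} [Fintype (WD F D)] (ht : F.t ∈ D) {ζ : IrrCharacter F.O}
    {β : IrrCharacter (WD F D)} (h : RC M (ιD F D) ζ β) {u : G} (hu : u ∈ F.C)
    (hun : u ∈ Subgroup.normalizer (D : Set G)) :
    RC M (ιD F D) (Glauberman.twist (conjO F hu) ζ) (Glauberman.twist (conjWD F ht hun) β) := fun v => by
  rw [Glauberman.twist_apply, Glauberman.twist_apply, ← h]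
  rfl

theorem invD_twist {D : Subgroup G} {ζ : IrrCharacter F.O} (h : InvD F D (ζ : F.O → ℂ)) {u : G} (hu : u ∈ F.C)
    (hun : u ∈ Subgroup.normalizer (D : Set G)) :
    InvD F D (Glauberman.twist (conjO F hu) ζ : F.O → ℂ) := by
  intro d hd a b e
  refine h _ ((Subgroup.mem_normalizer_iff.1 hun d).1 hd) _ _ ?_
  rw [conjO_coe, conjO_coe, e]; group

/-- Separation: a second constituent with the residues of an invariant `θ` is `θ`, or has a four-group stabiliser
and a correspondent rotated from that of an invariant character. -/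
theorem eq_or_rotated (hM : IsPModular 2 M) (hs2 : ∀ y ∈ F.O, Commute (F.s ^ 2) y) {χ : IrrCharacter G}
    {θ ζ : IrrCharacter F.O} (hθ : InvD F F.S (θ : F.O → ℂ)) (hθχ : Resid F M χ θ) (hζχ : Resid F M χ ζ)
    {D : Subgroup G} (hDdef : D = stab F ζ) [Fintype (WD F D)] {β : IrrCharacter (WD F D)}
    (hβ : RC M (ιD F D) ζ β) :
    ζ = θ ∨ (F.n = 3 ∧ (D = F.four₁.U ∨ D = F.four₂.U) ∧
      ∃ (ζ' : IrrCharacter F.O) (β' : IrrCharacter (WD F D)) (g : G),
        InvD F F.S (ζ' : F.O → ℂ) ∧ RC M (ιD F D) ζ' β' ∧ g ∉ F.C ∧ Carry F β' β g) := by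
  classical
  haveI : Fact (Nat.Prime 2) := ⟨Nat.prime_two⟩
  haveI := charP_res hM
  have hD : D ≤ F.S := hDdef ▸ stab_le F ζ
  have ht : F.t ∈ D := hDdef ▸ t_mem_stab F ζ
  have hs2D : F.s ^ 2 ∈ D := hDdef ▸ mem_stab_of_commute F (pow_mem F.s_mem_S _) hs2
  have hζD : InvD F D (ζ : F.O → ℂ) := hDdef ▸ invD_stab F ζ
  have hSN : F.S ≤ Subgroup.normalizer (D : Set G) := S_le_normalizer F hD hs2D
  have hθD : InvD F D (θ : F.O → ℂ) := hθ.mono F hD
  obtain ⟨β₀, hβ₀⟩ := exists_rcD F hM hD hθD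
  -- the invariance of `β₀`
  have hfix₀ : ∀ u ∈ F.S, Carry F β₀ β₀ u := by
    intro u hu
    refine (carry_iff F ht (hSN hu)).2 ?_
    have h1 := rc_twist F ht hβ₀ (F.S_le_C hu) (hSN hu)
    rw [show Glauberman.twist (conjO F (F.S_le_C hu)) θ = θ from
      Subtype.ext (funext fun a => hθ u hu a _ (conjO_coe F (F.S_le_C hu) a))] at h1
    exact eq_of_res_eq hM (not_dvd_card_WD F D) fun v => (h1 v).symm.trans (hβ₀ v)
  letI : Fintype (↥(Subgroup.normalizer (D : Set G)) ⧸ base F D) := Fintype.ofFinite _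
  set T := reps F hD ht
  set cnt : IrrCharacter (WD F D) → ℕ := fun b =>
    (Finset.univ.filter fun i => Glauberman.twist (act F ht T i) b = β).card with hcnt
  have hcount : ((cnt β : ℕ) : Res M) = (cnt β₀ : ℕ) :=
    twist_count_eq F ht T hM hD hζD hθD hβ hβ₀ hζχ hθχ β
  have hcardβ : Nat.card (fixer F ht β) = Nat.card (WD F D) * cnt β * Nat.card D := card_carry F ht T β β
  obtain ⟨a, ha⟩ := IsPGroup.iff_card.1 (isPGroup_of_le_S F hD)
  have hDn : D ≤ fixer F ht β := by
    intro d hd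
    refine ⟨Subgroup.le_normalizer hd, fun v => ?_⟩
    rw [(((mem_WD F ht).1 v.2).1 d hd).eq, mul_inv_cancel_right, ext0_coe]
  by_cases hodd : 2 ∣ cnt β
  · -- a two-element outside `D` fixes `β`
    obtain ⟨P, hP⟩ := ((isPGroup_of_le_S F hD).comap_of_injective (fixer F ht β).subtype Subtype.val_injective :
      IsPGroup 2 (D.comap (fixer F ht β).subtype)).exists_le_sylow
    set Q : Subgroup G := (P : Subgroup (fixer F ht β)).map (fixer F ht β).subtype with hQ
    have hQN : Q ≤ Subgroup.normalizer (D : Set G) := fun x hx =>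
      (Subgroup.map_subtype_le _ hx : x ∈ fixer F ht β).1
    have hQcard : Nat.card D < Nat.card Q := by
      have h1 : 2 ^ (a + 1) ∣ Nat.card (fixer F ht β) := by
        obtain ⟨k, hk⟩ := hodd
        rw [hcardβ, ha, hk, pow_succ]
        exact ⟨Nat.card (WD F D) * k, by ring⟩
      obtain ⟨P₁, hP₁⟩ := Sylow.exists_subgroup_card_pow_prime 2 h1
      obtain ⟨P₂, hP₂⟩ := (IsPGroup.of_card (n := a + 1) hP₁).exists_le_sylow
      rw [hQ, Subgroup.card_map_of_injective Subtype.val_injective]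
      calc Nat.card D < 2 ^ (a + 1) := by rw [ha]; exact Nat.pow_lt_pow_right one_lt_two (Nat.lt_succ_self a)
        _ = Nat.card P₁ := hP₁.symm
        _ ≤ Nat.card P₂ := Subgroup.card_le_of_le hP₂
        _ = Nat.card P := Nat.card_congr (P₂.equiv P).toEquiv
    -- into `S`
    set N := Subgroup.normalizer (D : Set G)
    have hSsyl : (F.sylow : Subgroup G) ≤ N := by rw [F.coe_sylow]; exact hSN
    obtain ⟨P₃, hP₃⟩ := ((P.2.map (fixer F ht β).subtype).comap_of_injective N.subtype Subtype.val_injective :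
      IsPGroup 2 (Q.comap N.subtype)).exists_le_sylow
    obtain ⟨k, hk⟩ := MulAction.exists_smul_eq N P₃ (F.sylow.subtype hSsyl)
    have hkS : ∀ q ∈ Q, (k : G) * q * (k : G)⁻¹ ∈ F.S := by
      intro q hq
      have h1 : k * ⟨q, hQN hq⟩ * k⁻¹ ∈ ((k • P₃ : Sylow 2 N) : Subgroup N) := by
        rw [Sylow.coe_subgroup_smul]
        exact Subgroup.mem_map.2 ⟨⟨q, hQN hq⟩, hP₃ hq, rfl⟩
      rw [hk, Sylow.coe_subtype, Subgroup.mem_subgroupOf, F.coe_sylow] at h1
      exact h1
    obtain ⟨q, hq, hqD⟩ : ∃ q ∈ Q, q ∉ D := by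
      by_contra h
      push Not at h
      exact absurd (Subgroup.card_le_of_le h) (not_le.2 hQcard)
    set u := (k : G) * q * (k : G)⁻¹ with hu
    have huS : u ∈ F.S := hkS q hq
    have huD : u ∉ D := fun h => hqD ((Subgroup.mem_normalizer_iff.1 k.2 q).2 h)
    set γ : IrrCharacter (WD F D) := Glauberman.twist (conjWD F ht (inv_mem k.2)) β with hγ
    have hγβ : Carry F β γ (k : G)⁻¹ := (carry_iff F ht (inv_mem k.2)).2 rfl
    have hγu : Carry F γ γ u := by
      have h1 : Carry F β β q := Subgroup.map_subtype_le _ hq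
      have := ((hγβ.symm F ht).comp F ht h1).comp F ht hγβ
      rwa [inv_inv] at this
    by_cases hkC : (k : G) ∈ F.C
    · exfalso
      have hki : (k : G)⁻¹ ∈ F.C := inv_mem hkC
      set ζk := Glauberman.twist (conjO F hki) ζ with hζk
      have h1 : RC M (ιD F D) ζk γ := rc_twist F ht hβ hki (inv_mem k.2)
      have h2 : InvD F D (ζk : F.O → ℂ) := invD_twist F hζD hki (inv_mem k.2)
      have h3 : Glauberman.twist (conjO F (F.S_le_C huS)) ζk = ζk := by
        refine rcD_injective F hM hD (invD_twist F h2 _ (hSN huS)) h2 ?_ h1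
        have h4 := rc_twist F ht h1 (F.S_le_C huS) (hSN huS)
        rwa [(carry_iff F ht (hSN huS)).1 hγu] at h4
      -- `q` lies in `C` up to the stabiliser
      obtain ⟨l, hl, w, hw, e⟩ := F.C_structure q (by
        have hqq : q = (k : G)⁻¹ * u * (k : G) := by rw [hu]; group
        rw [hqq]; exact mul_mem (mul_mem hki (F.S_le_C huS)) hkC)
      have hw' : w ∈ D := hDdef ▸ (mem_stab F hw).2 <| Subtype.ext <| funext fun y => by
        have e' := congrFun (congrArg Subtype.val h3) (conjO F hkC y)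
        simp only [hζk, Glauberman.twist_apply] at e'
        rw [Glauberman.twist_apply, ← isClassFunction_irr ζ _ ⟨l, hl⟩]
        refine (congrArg (ζ : F.O → ℂ) (Subtype.ext ?_)).trans (e'.trans (congrArg (ζ : F.O → ℂ) (Subtype.ext ?_)))
        · simp only [conjO_coe, hu, Subgroup.coe_mul, Subgroup.coe_inv, e]; group
        · simp only [conjO_coe]; group
      have hlN : l ∈ N := by
        have : l = q * w⁻¹ := by rw [e, mul_inv_cancel_right]
        rw [this]; exact mul_mem (hQN hq) (inv_mem (hSN (hD hw')))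
      -- `l` centralises `D`, so `q` has order `|w|`
      have hlW : l ∈ WD F D := by
        refine Subgroup.mem_inf.2 ⟨hl, Subgroup.mem_centralizer_iff.2 fun d hd => ?_⟩
        have h5 : l * d * l⁻¹ * d⁻¹ ∈ F.O ⊓ F.S := by
          refine Subgroup.mem_inf.2 ⟨?_, mul_mem (hD ((Subgroup.mem_normalizer_iff.1 hlN d).1 hd)) (inv_mem (hD hd))⟩
          rw [show l * d * l⁻¹ * d⁻¹ = l * (d * l⁻¹ * d⁻¹) by group]
          exact mul_mem hl (conj_mem_O F (F.S_le_C (hD hd)) (inv_mem hl))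
        rw [F.O_inf_S, Subgroup.mem_bot, mul_inv_eq_one, mul_inv_eq_iff_eq_mul] at h5
        exact h5.symm
      refine hqD ?_
      have hl1 : l = 1 := by
        obtain ⟨c, hc⟩ := (P.2.map (fixer F ht β).subtype) ⟨q, hq⟩
        have hq2 : q ^ 2 ^ c = 1 := congrArg Subtype.val hc
        have hcomm : Commute l w := ((((mem_WD F ht).1 hlW).1 w hw')).symm
        rw [e, hcomm.mul_pow] at hq2
        obtain ⟨e1, -⟩ := eq_of_mul_eq F hD (pow_mem hlW _) (one_mem _) (pow_mem hw' _) (one_mem _)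
          (hq2.trans (one_mul 1).symm)
        have hdvd := orderOf_dvd_of_pow_eq_one e1
        obtain ⟨j, -, hj⟩ := (Nat.dvd_prime_pow Nat.prime_two).1 hdvd
        rcases Nat.eq_zero_or_pos j with h0 | h0
        · exact orderOf_eq_one_iff.1 (by rw [hj, h0, pow_zero])
        · exact absurd (hj ▸ dvd_pow_self 2 h0.ne') (odd_O F hl)
      rw [e, hl1, one_mul]; exact hw'
    · -- a four-group
      right
      have hn3 : F.n = 3 := by
        by_contra hne
        refine hkC (normalizer_le_C F hD ht (Or.inl ⟨(F.s ^ 2) ^ 2 ^ (F.n - 4), pow_mem hs2D _, ?_⟩) k.2)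
        have := F.three_le
        rw [← pow_mul, ← pow_add, Frame.t]
        congr 1
        rw [show F.n - 2 = F.n - 4 + 2 by omega, pow_add]; ring
      have hns : F.s ∉ D := fun hsD => hkC (normalizer_le_C F hD ht (Or.inl ⟨F.s, hsD, by
        rw [Frame.t, hn3]; exact (pow_two F.s).symm⟩) k.2)
      obtain ⟨v, hvD, hvs⟩ : ∃ v ∈ D, v ∉ Subgroup.zpowers F.s := by
        by_contra h
        push Not at h
        exact hkC (normalizer_le_C F hD ht (Or.inr h) k.2)
      have hcase : F.r ∈ D ∨ F.r * F.s ∈ D := by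
        obtain ⟨i, hi⟩ := Subgroup.mem_zpowers_iff.1 ((F.S_cases (hD hvD)).resolve_left hvs)
        have hv : v = F.s ^ i * F.r := by rw [hi, mul_assoc, F.data.sq, mul_one]
        rcases Int.even_or_odd' i with ⟨m, rfl | rfl⟩
        · left
          have h := mul_mem (inv_mem (Subgroup.zpow_mem D hs2D m)) hvD
          rwa [hv, ← mul_assoc, ← zpow_natCast, ← zpow_mul, show ((2 : ℕ) : ℤ) * m = 2 * m from rfl,
            inv_mul_cancel, one_mul] at h
        · right
          have h := mul_mem (inv_mem (Subgroup.zpow_mem D hs2D (m + 1))) hvD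
          rw [hv, ← mul_assoc, ← zpow_natCast, ← zpow_mul, ← zpow_neg, ← zpow_add,
            show -(((2 : ℕ) : ℤ) * (m + 1)) + (2 * m + 1) = -1 by push_cast; ring, zpow_neg_one] at h
          have e : F.s⁻¹ * F.r = F.r * F.s := by
            have := mul_inv_eq_iff_eq_mul.1 F.rel
            exact this.symm
          rwa [e] at h
      have hS8 : Nat.card F.S = 8 := by rw [F.card_S, hn3]; norm_num
      have hD4 : Nat.card D ≤ 4 := by
        by_contra hgt
        push Not at hgt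
        have h1 := Subgroup.card_dvd_of_le hD
        rw [hS8] at h1
        have : Nat.card D = 8 := by
          have := Nat.le_of_dvd (by norm_num) h1
          interval_cases h : Nat.card D <;> omega
        exact hns (Subgroup.eq_of_le_of_card_ge hD (by omega) ▸ F.s_mem_S)
      have hU : D = F.four₁.U ∨ D = F.four₂.U := by
        rcases hcase with h | h
        · left
          exact (Subgroup.eq_of_le_of_card_ge ((F.four₁.U_le_iff).2 ⟨ht, h⟩) (by rw [F.four₁.card_U]; exact hD4)).symm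
        · right
          exact (Subgroup.eq_of_le_of_card_ge ((F.four₂.U_le_iff).2 ⟨ht, h⟩) (by rw [F.four₂.card_U]; exact hD4)).symm
      refine ⟨hn3, hU, ?_⟩
      obtain ⟨ζ', hζ', hζ'γ⟩ := exists_rcD_lift F hM hD γ
      refine ⟨ζ', γ, (k : G), fun d hd a b e => ?_, hζ'γ, hkC, by
        have := hγβ.symm F ht; rwa [inv_inv] at this⟩
      have hle : F.S ≤ stab F ζ' := by
        have huS' : u ∈ stab F ζ' := (mem_stab F huS).2 <| by
          refine rcD_injective F hM hD (invD_twist F hζ' _ (hSN huS)) hζ' ?_ hζ'γ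
          have h4 := rc_twist F ht hζ'γ (F.S_le_C huS) (hSN huS)
          rwa [(carry_iff F ht (hSN huS)).1 hγu] at h4
        have hD' : D ≤ stab F ζ' := fun x hx => ⟨hD hx, hζ' x hx⟩
        have hlt : Nat.card D < Nat.card (stab F ζ') :=
          lt_of_le_of_ne (Subgroup.card_le_of_le hD') fun e =>
            huD (Subgroup.eq_of_le_of_card_ge hD' e.ge ▸ huS')
        have h4 : Nat.card D = 4 := by
          rcases hU with h | h <;> rw [h]
          · exact F.four₁.card_U
          · exact F.four₂.card_U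
        have h1 := Subgroup.card_dvd_of_le (stab_le F ζ')
        rw [hS8] at h1
        have h8 : Nat.card (stab F ζ') = 8 := by
          have := Nat.le_of_dvd (by norm_num) h1
          interval_cases h : Nat.card (stab F ζ') <;> omega
        exact (Subgroup.eq_of_le_of_card_ge (stab_le F ζ') (by omega)).ge
      exact (hle hd).2 a b e
  · -- the correspondents agree
    left
    have hne : ¬ 2 ∣ cnt β₀ := by
      intro h2
      apply hodd
      rw [← res_natCast_eq_zero_iff hM, hcount, res_natCast_eq_zero_iff hM]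
      exact h2
    obtain ⟨i, hi⟩ : ∃ i, Glauberman.twist (act F ht T i) β₀ = β := by
      by_contra h
      push Not at h
      refine hne ?_
      rw [hcnt]
      simp only [Finset.filter_false_of_mem fun i _ => h i, Finset.card_empty, dvd_zero]
    have hcar : Carry F β₀ β (T.R i) := (carry_iff F ht (T.mem i)).2 hi
    have hfixcard : Nat.card {g : G // Carry F β₀ β g} = Nat.card (fixer F ht β₀) := by
      refine Nat.card_congr
        { toFun := fun g => ⟨g.1 * (T.R i)⁻¹, g.2.comp F ht (hcar.symm F ht)⟩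
          invFun := fun g => ⟨g.1 * T.R i, Carry.comp F ht g.2 hcar⟩
          left_inv := fun g => Subtype.ext (inv_mul_cancel_right _ _)
          right_inv := fun g => Subtype.ext (mul_inv_cancel_right _ _) }
    have hS' : F.S ≤ fixer F ht β₀ := hfix₀
    have h1 : 2 ^ F.n ∣ Nat.card (WD F D) * cnt β₀ * 2 ^ a := by
      rw [← F.card_S, ← ha, ← card_carry F ht T β₀ β, hfixcard]
      exact Subgroup.card_dvd_of_le hS'
    have hco : (2 ^ F.n).Coprime (Nat.card (WD F D) * cnt β₀) :=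
      ((Nat.prime_two.coprime_iff_not_dvd).2 (fun h =>
        (Nat.prime_two.dvd_mul.1 h).elim (not_dvd_card_WD F D) hne)).pow_left _
    have hDS : D = F.S := by
      refine Subgroup.eq_of_le_of_card_ge hD ?_
      rw [F.card_S, ha]
      exact Nat.le_of_dvd (Nat.two_pow_pos a) (hco.dvd_of_dvd_mul_left h1)
    have hRC : (T.R i) ∈ F.C := normalizer_le_C F hD ht (Or.inl ⟨F.s ^ 2 ^ (F.n - 3), hDS ▸ pow_mem F.s_mem_S _, by
      have := F.three_le
      rw [← pow_add, Frame.t, ← two_mul, ← pow_succ', show F.n - 3 + 1 = F.n - 2 by omega]⟩) (T.mem i)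
    obtain ⟨l, hl, w, hw, e⟩ := F.C_structure _ hRC
    have hwD : w ∈ D := hDS ▸ hw
    have hlW : l ∈ WD F D := by
      refine Subgroup.mem_inf.2 ⟨hl, Subgroup.mem_centralizer_iff.2 fun d hd => ?_⟩
      have hlN : l ∈ Subgroup.normalizer (D : Set G) := by
        have : l = T.R i * w⁻¹ := by rw [e, mul_inv_cancel_right]
        rw [this]; exact mul_mem (T.mem i) (inv_mem (hSN hw))
      have h5 : l * d * l⁻¹ * d⁻¹ ∈ F.O ⊓ F.S := by
        refine Subgroup.mem_inf.2 ⟨?_, mul_mem (hD ((Subgroup.mem_normalizer_iff.1 hlN d).1 hd)) (inv_mem (hD hd))⟩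
        rw [show l * d * l⁻¹ * d⁻¹ = l * (d * l⁻¹ * d⁻¹) by group]
        exact mul_mem hl (conj_mem_O F (F.S_le_C (hD hd)) (inv_mem hl))
      rw [F.O_inf_S, Subgroup.mem_bot, mul_inv_eq_one, mul_inv_eq_iff_eq_mul] at h5
      exact h5.symm
    have hββ : β = β₀ := Subtype.ext <| funext fun v => by
      rw [← hcar.2 v, e, show l * w * (v : G) * (l * w)⁻¹ =
        ((⟨l, hlW⟩ * v * ⟨l, hlW⟩⁻¹ : WD F D) : G) by
          push_cast
          calc _ = l * (w * v * w⁻¹) * l⁻¹ := by group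
            _ = _ := by rw [(((mem_WD F ht).1 v.2).1 w hwD).eq, mul_inv_cancel_right],
        ext0_coe, isClassFunction_irr β₀]
    exact rcD_injective F hM hD hζD hθD (by rw [← hββ]; exact hβ) hβ₀

end Cfsg.Lib.GWD.Chr
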