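import Cfsg.Agent.GWDihedral.Chars.Identity
import Cfsg.Agent.GWDihedral.Chars.Stab
import Cfsg.Agent.GWDihedral.Chars.Ext

/-!
# The members of the two virtual characters

Their residues, their values on the sections, and the bound the identity gives from a lower bound for their degrees.
-/

set_option autoImplicit false
set_option linter.unusedSectionVars false
set_option linter.style.haveILetI false

namespace Cfsg.Lib.GWD.Chr

open Cfsg Cfsg.Lib.Chars Cfsg.Lib.Blocks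
open scoped ComplexConjugate

universe u

variable {G : Type u} [Group G] [Fintype G] (F : Frame G) [Fintype F.O] {M : Ideal AlgInt}

theorem s_not_mem_U : F.s ∉ F.four₁.U ∧ F.s ∉ F.four₂.U := by
  have h4 : ∀ V : Cfsg.Lib.GW.Frame G, F.s ∈ V.U → False := by
    intro V h
    have h2 : F.s ^ 2 = 1 := by
      rw [pow_two]
      rcases V.mem_U.1 h with e | e | e | e <;> rw [e]
      · rw [one_mul]
      · exact Cfsg.Lib.GenDihedral.mul_self_of_two V.t_order
      · exact V.u_sq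
      · exact V.v_sq
    have := Nat.le_of_dvd two_pos (orderOf_dvd_of_pow_eq_one h2)
    rw [F.s_order] at this
    have := F.three_le
    have := Nat.pow_le_pow_right two_pos (show 2 ≤ F.n - 1 by omega)
    omega
  exact ⟨h4 _, h4 _⟩

/-- Two characters with the residues of one `χ` agree if the first is invariant and `s` fixes the second, or
`n ≠ 3`. -/
theorem eq_of_resid (hM : IsPModular 2 M) (hs2 : ∀ y ∈ F.O, Commute (F.s ^ 2) y) {χ : IrrCharacter G}
    {θ ζ : IrrCharacter F.O} (hθ : InvD F F.S (θ : F.O → ℂ)) (hθχ : Resid F M χ θ) (hζχ : Resid F M χ ζ)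
    (h : F.n ≠ 3 ∨ F.s ∈ stab F ζ) : ζ = θ := by
  letI : Fintype (WD F (stab F ζ)) := Fintype.ofFinite _
  obtain ⟨β, hβ⟩ := exists_rcD F hM (stab_le F ζ) (invD_stab F ζ)
  rcases eq_or_rotated F hM hs2 hθ hθχ hζχ rfl hβ with e | ⟨hn, hU, -⟩
  · exact e
  · rcases h with h | h
    · exact absurd hn h
    · rcases hU with hU | hU <;> rw [hU] at h
      · exact absurd h (s_not_mem_U F).1
      · exact absurd h (s_not_mem_U F).2

theorem principal_val (g : G) : ((principal G : IrrCharacter G) : G → ℂ) g = 1 := rfl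

theorem classInner_one_left (ζ : IrrCharacter F.O) :
    classInner (fun _ : F.O => (1 : ℂ)) (ζ : F.O → ℂ) =
      if ((principal F.O : IrrCharacter F.O) : F.O → ℂ) = (ζ : F.O → ℂ) then 1 else 0 := by
  classical
  have := classInner_irrCharacter (principal F.O) ζ
  rw [show (fun _ : F.O => (1 : ℂ)) = ((principal F.O : IrrCharacter F.O) : F.O → ℂ) from rfl, this]
  by_cases h : principal F.O = ζ
  · rw [if_pos h, if_pos (congrArg Subtype.val h)]
  · rw [if_neg h, if_neg fun e => h (Subtype.ext e)]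

theorem invD_principal (D : Subgroup G) : InvD F D ((principal F.O : IrrCharacter F.O) : F.O → ℂ) :=
  fun _ _ _ _ _ => rfl

theorem mu_principal (ζ : IrrCharacter F.O) [Decidable (principal F.O = ζ)] :
    mu F (principal G) ζ = if principal F.O = ζ then 1 else 0 := by
  apply Int.cast_injective (α := ℂ)
  rw [← mu_spec]
  refine (classInner_one_left F ζ).trans ?_
  by_cases h : principal F.O = ζ
  · rw [if_pos h, if_pos (congrArg Subtype.val h), Int.cast_one]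
  · rw [if_neg h, if_neg fun e => h (Subtype.ext e), Int.cast_zero]

/-- `χ(t) = Σ μ(χ, ζ) ζ(1)`. -/
theorem apply_t (χ : IrrCharacter G) :
    (χ : G → ℂ) F.t = ∑ ζ : IrrCharacter F.O, (mu F χ ζ : ℂ) * (deg (ζ : F.O → ℂ) : ℂ) := by
  have h := apply_t_mul F χ 1
  rw [Subgroup.coe_one, mul_one] at h
  rw [h]
  exact Finset.sum_congr rfl fun ζ _ => by rw [irr_apply_one_eq_deg]

/-- The sum of the squares over an invariant character. -/
theorem sum_mu_sq {θ : IrrCharacter F.O} (hθ : InvD F F.S (θ : F.O → ℂ)) :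
    ∑ χ : IrrCharacter G, mu F χ θ * mu F χ θ = ((2 ^ F.n : ℕ) : ℤ) := by
  classical
  letI : Fintype F.S := Fintype.ofFinite _
  rw [mu_orth F θ θ, Finset.filter_true_of_mem fun u _ => ?_, Finset.card_univ, ← Nat.card_eq_fintype_card, F.card_S]
  exact Subtype.ext (funext fun a => hθ u u.2 a _ (conjO_coe F (F.S_le_C u.2) a))

theorem faithful [IsSimpleGroup G] {χ : IrrCharacter G} (hχ : χ ≠ principal G) {g : G}
    (hg : (χ : G → ℂ) g = (χ : G → ℂ) 1) : g = 1 := by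
  have hc := isCharacter_of_irr χ.2
  rcases IsSimpleGroup.eq_bot_or_eq_top_of_normal _ (kerSubgroup_normal hc) with h | h
  · exact Subgroup.mem_bot.1 (h ▸ ((mem_kerSubgroup hc g).2 hg))
  · exfalso
    refine hχ ?_
    by_contra hne
    have h1 := classInner_irr_ne hne
    have hall : ∀ x, (χ : G → ℂ) x = (χ : G → ℂ) 1 := fun x => (mem_kerSubgroup hc x).1 (h ▸ Subgroup.mem_top x)
    rw [classInner_def] at h1
    simp only [hall, principal_val, map_one, mul_one, Finset.sum_const, nsmul_eq_mul, Finset.card_univ,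
      ← Nat.card_eq_fintype_card] at h1
    rw [inv_mul_cancel_left₀ (Nat.cast_ne_zero.2 Nat.card_pos.ne')] at h1
    exact IsIrrCharacter.apply_one_ne_zero χ.2 h1

variable {F} {θ : IrrCharacter F.O} (E : Ext F θ) [Fintype F.C]

/-- A member is not principal, unless `θ` is. -/
theorem Ext.ne_principal (hM : IsPModular 2 M) (hs2 : ∀ y ∈ F.O, Commute (F.s ^ 2) y)
    (hθ : InvD F F.S (θ : F.O → ℂ)) (hne : θ ≠ principal F.O) {χ : IrrCharacter G}
    (h : E.c false χ ≠ 0 ∨ E.c true χ ≠ 0) : χ ≠ principal G := by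
  classical
  rintro rfl
  refine hne (eq_of_resid F hM hs2 (invD_principal F F.S) (resid_of_mu F hM ?_) (E.resid hM hs2 h)
    (Or.inr ⟨F.s_mem_S, fun a b e => hθ F.s F.s_mem_S a b e⟩))
  rw [mu_principal, if_pos rfl]
  exact one_ne_zero

/-- On a section centralising `O` a member is a multiple of `θ`, if no other character has its residues. -/
theorem Ext.section_scalar (hM : IsPModular 2 M) (hs2 : ∀ y ∈ F.O, Commute (F.s ^ 2) y)
    (hθ : InvD F F.S (θ : F.O → ℂ)) {χ : IrrCharacter G} (h : E.c false χ ≠ 0 ∨ E.c true χ ≠ 0)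
    (hU : F.n ≠ 3 ∨ ∀ y ∈ F.O, Commute F.s y)
    {z : G} (hz : z ∈ Subgroup.zpowers F.s) (hz1 : z ≠ 1) (hzO : ∀ y ∈ F.O, Commute z y) :
    ∃ a : ℂ, ∀ y : F.O, (χ : G → ℂ) (z * y) = a * (θ : F.O → ℂ) y := by
  classical
  refine ⟨classInner (fun y : F.O => (χ : G → ℂ) (z * y)) (θ : F.O → ℂ), fun y => ?_⟩
  rw [classFunction_expand_apply (isClassFunction_translate χ z fun c hc => hzO c hc) y,
    Finset.sum_eq_single θ (fun ζ _ hne => ?_) (fun h => absurd (Finset.mem_univ _) h)]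
  by_contra hne'
  refine hne (eq_of_resid F hM hs2 hθ (E.resid hM hs2 h)
    (resid_of_section F hM hz hz1 hzO (left_ne_zero_of_mul hne')) ?_)
  exact hU.imp id fun hs => mem_stab_of_commute F F.s_mem_S hs

theorem Ext.mu_eq_zero (hM : IsPModular 2 M) (hs2 : ∀ y ∈ F.O, Commute (F.s ^ 2) y)
    (hθ : InvD F F.S (θ : F.O → ℂ)) {χ : IrrCharacter G} (h : E.c false χ ≠ 0 ∨ E.c true χ ≠ 0)
    (hU : F.n ≠ 3 ∨ ∀ y ∈ F.O, Commute F.s y) {ζ : IrrCharacter F.O} (hne : ζ ≠ θ) : mu F χ ζ = 0 := by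
  by_contra h0
  exact hne (eq_of_resid F hM hs2 hθ (E.resid hM hs2 h) (resid_of_mu F hM h0)
    (hU.imp id fun hs => mem_stab_of_commute F F.s_mem_S hs))

theorem Ext.apply_t_eq (hM : IsPModular 2 M) (hs2 : ∀ y ∈ F.O, Commute (F.s ^ 2) y)
    (hθ : InvD F F.S (θ : F.O → ℂ)) {χ : IrrCharacter G} (h : E.c false χ ≠ 0 ∨ E.c true χ ≠ 0)
    (hU : F.n ≠ 3 ∨ ∀ y ∈ F.O, Commute F.s y) :
    (χ : G → ℂ) F.t = (mu F χ θ : ℂ) * (deg (θ : F.O → ℂ) : ℂ) := by
  rw [apply_t, Finset.sum_eq_single θ (fun ζ _ hne => by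
    rw [E.mu_eq_zero hM hs2 hθ h hU hne, Int.cast_zero, zero_mul]) (fun h => absurd (Finset.mem_univ _) h)]

/-- The left side of the identity of `alpha i`, for a given assignment of the values at `t`. -/
noncomputable def Ext.lhs (i : Bool) (v : IrrCharacter G → ℤ) : ℚ :=
  ∑ χ : IrrCharacter G, (E.c i χ : ℚ) * (v χ : ℚ) ^ 2 / (deg (χ : G → ℂ) : ℚ)

/-- The identity in the rational numbers. -/
theorem Ext.identity_rat (hall : ∀ x : G, orderOf x = 2 → IsConj F.t x) (i : Bool) {v : IrrCharacter G → ℤ}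
    (hv : ∀ χ : IrrCharacter G, E.c i χ ≠ 0 → (χ : G → ℂ) F.t = (v χ : ℂ)) :
    E.lhs i v * ((deg (θ : F.O → ℂ) : ℚ) * (Nat.card G : ℚ)) =
      8 * (E.val : ℚ) ^ 2 * (F.m : ℚ) ^ 3 * (1 / (F.w₁ : ℚ) + (sgn i : ℚ) / (F.w₂ : ℚ)) ^ 2 := by
  apply Rat.cast_injective (α := ℂ)
  have h := E.identity hall i
  rw [Ext.lhs]
  push_cast
  rw [← h]
  congr 1
  refine Finset.sum_congr rfl fun χ _ => ?_
  rw [irr_apply_one_eq_deg]
  by_cases hc : E.c i χ = 0
  · simp [hc]
  · rw [hv χ hc]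

/-- An upper bound from a lower bound for the degrees. -/
theorem Ext.lhs_le {x0 : ℚ} (hx0 : 0 < x0) (v : IrrCharacter G → ℤ) (i : Bool)
    (hx : ∀ χ : IrrCharacter G, E.c i χ ≠ 0 → x0 ≤ (deg (χ : G → ℂ) : ℚ)) :
    E.lhs i v ≤ (∑ χ : IrrCharacter G, (v χ : ℚ) ^ 2) / x0 := by
  rw [Ext.lhs, Finset.sum_div]
  refine Finset.sum_le_sum fun χ _ => ?_
  have hd : (0 : ℚ) < deg (χ : G → ℂ) := by exact_mod_cast deg_irr_pos χ
  rcases E.c_sq_le i χ with e | e | e
  · rw [e]; simp only [Int.cast_zero, zero_mul, zero_div]; positivity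
  · rw [e, Int.cast_one, one_mul]
    gcongr
    exact hx χ (by rw [e]; norm_num)
  · rw [e, Int.cast_neg, Int.cast_one, neg_one_mul, neg_div]
    have : (0 : ℚ) ≤ (v χ : ℚ) ^ 2 / deg (χ : G → ℂ) := by positivity
    have : (0 : ℚ) ≤ (v χ : ℚ) ^ 2 / x0 := by positivity
    linarith

/-- One member bound gives a bound for the order of `G`. -/
theorem Ext.order_le (hM : IsPModular 2 M) (hs2 : ∀ y ∈ F.O, Commute (F.s ^ 2) y)
    (hθ : InvD F F.S (θ : F.O → ℂ)) (hU : F.n ≠ 3 ∨ ∀ y ∈ F.O, Commute F.s y)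
    (hall : ∀ x : G, orderOf x = 2 → IsConj F.t x) {x0 : ℚ} (hx0 : 0 < x0)
    (hx : ∀ χ : IrrCharacter G, E.c false χ ≠ 0 → x0 ≤ (deg (χ : G → ℂ) : ℚ)) :
    8 * (F.m : ℚ) ^ 3 * (1 / (F.w₁ : ℚ) + 1 / (F.w₂ : ℚ)) ^ 2 * x0 ≤
      (deg (θ : F.O → ℂ) : ℚ) ^ 3 * (2 : ℚ) ^ F.n * (Nat.card G : ℚ) := by
  set h : ℕ := deg (θ : F.O → ℂ) with hh
  have hid := E.identity_rat hall false (v := fun χ => mu F χ θ * (h : ℤ)) fun χ hc => by
    rw [E.apply_t_eq hM hs2 hθ (Or.inl hc) hU]; push_cast; rfl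
  have hle := E.lhs_le hx0 (fun χ => mu F χ θ * (h : ℤ)) false hx
  have hsum : ∑ χ : IrrCharacter G, (((mu F χ θ * (h : ℤ) : ℤ) : ℚ)) ^ 2 = (2 : ℚ) ^ F.n * (h : ℚ) ^ 2 := by
    have := congrArg (fun z : ℤ => (z : ℚ)) (sum_mu_sq F hθ)
    push_cast at this ⊢
    rw [← this, Finset.sum_mul]
    exact Finset.sum_congr rfl fun χ _ => by ring
  rw [hsum, le_div_iff₀ hx0] at hle
  have hval : (1 : ℚ) ≤ (E.val : ℚ) ^ 2 := by
    have : (1 : ℤ) ≤ E.val ^ 2 := by
      have := E.val_ne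
      nlinarith [mul_self_pos.2 this]
    exact_mod_cast this
  have hQ : (0 : ℚ) ≤ 8 * (F.m : ℚ) ^ 3 * (1 / (F.w₁ : ℚ) + 1 / (F.w₂ : ℚ)) ^ 2 * x0 := by positivity
  rw [show (sgn false : ℚ) = 1 by simp [sgn]] at hid
  calc _ ≤ 8 * (F.m : ℚ) ^ 3 * (1 / (F.w₁ : ℚ) + 1 / (F.w₂ : ℚ)) ^ 2 * x0 * (E.val : ℚ) ^ 2 :=
        le_mul_of_one_le_right hQ hval
    _ = E.lhs false (fun χ => mu F χ θ * (h : ℤ)) * x0 * ((h : ℚ) * (Nat.card G : ℚ)) := by
        rw [mul_right_comm (E.lhs _ _) x0, hid]; ring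
    _ ≤ (2 : ℚ) ^ F.n * (h : ℚ) ^ 2 * ((h : ℚ) * (Nat.card G : ℚ)) :=
        mul_le_mul_of_nonneg_right hle (by positivity)
    _ = _ := by ring

theorem Ext.c_principal {E₀ : Ext F (principal F.O)} (i : Bool) :
    E₀.c i (principal G) = if i then 0 else 1 := by
  apply Int.cast_injective (α := ℂ)
  rw [← E₀.c_restrict, ← classInner_conj_symm, classInner_def, sum_supp F _ fun c hc => ?_]
  swap
  · obtain ⟨l, hl, k, hk, -⟩ := E₀.alpha_support (i := i) (left_ne_zero_of_mul hc)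
    exact ⟨l, hl, k, hk⟩
  have h1 : ∀ k : ℕ, ∑ l : F.O,
      E₀.alpha i ⟨(l : G) * F.s ^ (k : ℤ), mul_mem (F.O_le l.2) (F.S_le_C (zpow_mem_S F k))⟩ *
        conj (((principal G : IrrCharacter G) : G → ℂ) ((l : G) * F.s ^ (k : ℤ))) =
      (Nat.card F.O : ℂ) * ((fD i (.r ((k : ℤ) : ZMod 4)) : ℤ) : ℂ) := by
    intro k
    rw [Nat.card_eq_fintype_card, ← Finset.card_univ, ← nsmul_eq_mul, ← Finset.sum_const]
    refine Finset.sum_congr rfl fun l _ => ?_
    rw [E₀.alpha_rot, principal_val (G := G), map_one, mul_one,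
      show ((principal F.O : IrrCharacter F.O) : F.O → ℂ) l = 1 from rfl, one_mul]
  rw [Finset.sum_congr rfl fun k _ => h1 k, ← Finset.mul_sum,
    sum_period F (fun z : ZMod 4 => ((fD i (.r z) : ℤ) : ℂ)), F.card_C, Frame.m]
  have hn : (2 : ℂ) ^ (F.n - 2) = 2 * 2 ^ (F.n - 3) := by
    have := F.three_le
    rw [← pow_succ']; congr 1; omega
  have hv : fD i (.r 0) + fD i (.r 1) + fD i (.r 2) + fD i (.r 3) = if i then 0 else 8 := by
    cases i <;> decide
  have hv' := congrArg (fun z : ℤ => (z : ℂ)) hv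
  push_cast at hv' ⊢
  rw [hv', hn, map_mul, map_inv₀]
  have h0 : (Nat.card F.O : ℂ) ≠ 0 := Nat.cast_ne_zero.2 Nat.card_pos.ne'
  cases i <;> simp [map_pow, map_ofNat] <;> field_simp <;> ring

end Cfsg.Lib.GWD.Chr
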