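import Cfsg.Agent.GWDihedral.Chars.Separate
import Cfsg.Agent.FourGroupGW.Chars.Section

/-!
# The coefficients of a character on `t O`

`mu χ ζ` is the multiplicity of `ζ` in `y ↦ χ (t y)` on `O`.  The products over the characters of `G` count the
elements of `S` carrying one character to the other; the products with the degrees sum to zero.
-/

set_option autoImplicit false
set_option linter.unusedSectionVars false
set_option linter.style.haveILetI false

namespace Cfsg.Lib.GWD.Chr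

open Cfsg Cfsg.Lib.Chars Cfsg.Lib.Blocks
open scoped ComplexConjugate

universe u

variable {G : Type u} [Group G] [Fintype G] (F : Frame G) [Fintype F.O] {M : Ideal AlgInt}

theorem t_mul_t : F.t * F.t = 1 := by rw [← pow_two, ← F.t_order, pow_orderOf_eq_one]

theorem exists_int_mu (χ : IrrCharacter G) (ζ : IrrCharacter F.O) :
    ∃ n : ℤ, classInner (fun y : F.O => (χ : G → ℂ) (F.t * y)) (ζ : F.O → ℂ) = n := by
  letI := Fintype.ofFinite F.C
  exact Cfsg.Lib.GW.Chr.exists_int_inner F.C (F.mem_C.2 rfl) (t_mul_t F)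
    (fun w hw => (F.mem_C.1 hw).symm) (isCharacter_of_irr χ.2) F.O F.O_le ζ

/-- The multiplicity of `ζ` in `y ↦ χ (t y)`. -/
noncomputable def mu (χ : IrrCharacter G) (ζ : IrrCharacter F.O) : ℤ := Classical.choose (exists_int_mu F χ ζ)

theorem mu_spec (χ : IrrCharacter G) (ζ : IrrCharacter F.O) :
    classInner (fun y : F.O => (χ : G → ℂ) (F.t * y)) (ζ : F.O → ℂ) = (mu F χ ζ : ℂ) :=
  Classical.choose_spec (exists_int_mu F χ ζ)

theorem apply_t_mul (χ : IrrCharacter G) (y : F.O) :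
    (χ : G → ℂ) (F.t * y) = ∑ ζ : IrrCharacter F.O, (mu F χ ζ : ℂ) * (ζ : F.O → ℂ) y := by
  refine (classFunction_expand_apply
    (isClassFunction_translate χ F.t fun c hc => commute_t F hc) y).trans (Finset.sum_congr rfl fun ζ _ => ?_)
  rw [mu_spec]

theorem mu_twist (χ : IrrCharacter G) (ζ : IrrCharacter F.O) {c : G} (hc : c ∈ F.C) :
    mu F χ (Glauberman.twist (conjO F hc) ζ) = mu F χ ζ := by
  apply Int.cast_injective (α := ℂ)
  rw [← mu_spec, ← mu_spec]
  refine Eq.trans ?_ (classInner_comp_equiv (conjO F hc).toEquiv (fun y : F.O => (χ : G → ℂ) (F.t * y))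
    (ζ : F.O → ℂ))
  congr 1
  funext y
  show _ = (χ : G → ℂ) (F.t * (c * (y : G) * c⁻¹))
  rw [show F.t * (c * (y : G) * c⁻¹) = c * (F.t * y) * c⁻¹ by
    rw [← mul_assoc, ← mul_assoc, ← mul_assoc, (F.mem_C.1 hc).symm]]
  exact (isClassFunction_irr χ _ _).symm

/-- A coefficient gives the residues. -/
theorem resid_of_mu (hM : IsPModular 2 M) {χ : IrrCharacter G} {ζ : IrrCharacter F.O} (h : mu F χ ζ ≠ 0) :
    Resid F M χ ζ := by
  refine resid_of_section F hM (z := F.t) (pow_mem (Subgroup.mem_zpowers _) _) (fun e => ?_)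
    (fun y hy => commute_t F hy) (by rw [mu_spec]; exact_mod_cast h)
  have := F.t_order
  rw [e, orderOf_one] at this
  omega

/-- Elements of `t O` are conjugate only by elements of `C`. -/
theorem commute_of_conj {x : G} {y y' : F.O} (h : x * (F.t * y) * x⁻¹ = F.t * y') :
    x ∈ F.C ∧ x * y * x⁻¹ = (y' : G) := by
  have h1 : IsPPart 2 (F.t * (y' : G)) (x * F.t * x⁻¹) := by
    refine ⟨x * (y : G) * x⁻¹, ?_, ?_, ⟨1, ?_⟩, ?_⟩
    · rw [← h]; group
    · exact (commute_t F y.2).map (MulAut.conj x).toMonoidHom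
    · rw [show x * F.t * x⁻¹ = MulAut.conj x F.t from rfl, MulEquiv.orderOf_eq, F.t_order, pow_one]
    · rw [show x * (y : G) * x⁻¹ = MulAut.conj x (y : G) from rfl, MulEquiv.orderOf_eq]
      exact odd_O F y.2
  have h2 : IsPPart 2 (F.t * (y' : G)) F.t :=
    ⟨(y' : G), rfl, commute_t F y'.2, ⟨1, by rw [F.t_order, pow_one]⟩, odd_O F y'.2⟩
  have h3 := IsPPart.eq Nat.prime_two h1 h2
  have hc : Commute F.t x := (mul_inv_eq_iff_eq_mul.1 h3).symm
  refine ⟨F.mem_C.2 hc.symm, mul_left_cancel (a := F.t) ?_⟩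
  rw [← h, ← mul_assoc, ← mul_assoc, hc.eq, mul_assoc x F.t]

theorem sum_columns (y y' : F.O) [DecidablePred fun c : G => c ∈ F.C ∧ c * y * c⁻¹ = (y' : G)] :
    ∑ χ : IrrCharacter G, (χ : G → ℂ) (F.t * y) * conj ((χ : G → ℂ) (F.t * y')) =
      ((Finset.univ.filter fun c : G => c ∈ F.C ∧ c * y * c⁻¹ = (y' : G)).card : ℂ) := by
  classical
  have hiff : ∀ c : G, (c ∈ F.C ∧ c * y * c⁻¹ = (y' : G)) ↔ c * (F.t * y) * c⁻¹ = F.t * y' := by
    intro c
    constructor
    · rintro ⟨hc, h⟩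
      rw [← mul_assoc, F.mem_C.1 hc, mul_assoc F.t, mul_assoc F.t, h]
    · exact fun h => commute_of_conj F h
  rw [second_orthogonality]
  split_ifs with hconj
  · obtain ⟨g, hg⟩ := isConj_iff.1 hconj
    congr 1
    rw [← Fintype.card_subtype, ← Nat.card_eq_fintype_card]
    refine Nat.card_congr
      { toFun := fun z => ⟨g * z.1, (hiff _).2 ?_⟩
        invFun := fun c => ⟨g⁻¹ * c.1, Subgroup.mem_centralizer_singleton_iff.2 ?_⟩
        left_inv := fun z => Subtype.ext (inv_mul_cancel_left _ _)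
        right_inv := fun c => Subtype.ext (mul_inv_cancel_left _ _) }
    · have hz := Subgroup.mem_centralizer_singleton_iff.1 z.2
      calc g * z.1 * (F.t * y) * (g * z.1)⁻¹ = g * (z.1 * (F.t * y) * z.1⁻¹) * g⁻¹ := by group
        _ = F.t * y' := by rw [hz, mul_inv_cancel_right, hg]
    · have hc := (hiff c.1).1 c.2
      apply mul_inv_eq_iff_eq_mul.1
      calc g⁻¹ * c.1 * (F.t * y) * (g⁻¹ * c.1)⁻¹ = g⁻¹ * (c.1 * (F.t * y) * c.1⁻¹) * g := by group
        _ = F.t * y := by rw [hc, ← hg]; group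
  · rw [Finset.filter_false_of_mem, Finset.card_empty, Nat.cast_zero]
    exact fun c _ hc => hconj (isConj_iff.2 ⟨c, (hiff c).1 hc⟩)

/-- A sum over `C` is a sum over `O` and `S`. -/
theorem sum_C [Fintype F.S] {R : Type*} [AddCommMonoid R] [DecidablePred (· ∈ F.C)] (f : G → R) :
    ∑ c ∈ Finset.univ.filter (· ∈ F.C), f c = ∑ l : F.O, ∑ u : F.S, f ((l : G) * u) := by
  classical
  rw [← Fintype.sum_prod_type']
  symm
  refine Finset.sum_bij (fun x _ => (x.1 : G) * x.2)
    (fun x _ => Finset.mem_filter.2 ⟨Finset.mem_univ _, mul_mem (F.O_le x.1.2) (F.S_le_C x.2.2)⟩)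
    (fun a _ b _ h => Subgroup.mul_injective_of_disjoint (disjoint_iff.2 F.O_inf_S) h) (fun c hc => ?_)
    fun _ _ => rfl
  obtain ⟨l, hl, u, hu, rfl⟩ := F.C_structure c (Finset.mem_filter.1 hc).2
  exact ⟨(⟨l, hl⟩, ⟨u, hu⟩), Finset.mem_univ _, rfl⟩

/-- Orthogonality of the coefficients. -/
theorem mu_orth [Fintype F.S] (ζ ζ' : IrrCharacter F.O) [DecidableEq (IrrCharacter F.O)] :
    ∑ χ : IrrCharacter G, mu F χ ζ * mu F χ ζ' =
      ((Finset.univ.filter fun u : F.S => Glauberman.twist (conjO F (F.S_le_C u.2)) ζ' = ζ).card : ℤ) := by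
  classical
  apply Int.cast_injective (α := ℂ)
  push_cast
  simp only [← mu_spec]
  set N : ℂ := (Nat.card F.O : ℂ) with hN
  have hN0 : N ≠ 0 := Nat.cast_ne_zero.2 Nat.card_pos.ne'
  have hreal : ∀ χ : IrrCharacter G, classInner (fun y : F.O => (χ : G → ℂ) (F.t * y)) (ζ' : F.O → ℂ) =
      conj (classInner (fun y : F.O => (χ : G → ℂ) (F.t * y)) (ζ' : F.O → ℂ)) := fun χ => by
    rw [mu_spec, map_intCast]
  have key : ∑ χ : IrrCharacter G, classInner (fun y : F.O => (χ : G → ℂ) (F.t * y)) (ζ : F.O → ℂ) *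
      classInner (fun y : F.O => (χ : G → ℂ) (F.t * y)) (ζ' : F.O → ℂ) =
      N⁻¹ * (N⁻¹ * ∑ y : F.O, conj ((ζ : F.O → ℂ) y) * ∑ y' : F.O,
        (((Finset.univ.filter fun c : G => c ∈ F.C ∧ c * y * c⁻¹ = (y' : G)).card : ℂ) *
          (ζ' : F.O → ℂ) y')) := by
    rw [Finset.sum_congr rfl (g := fun y : F.O => conj ((ζ : F.O → ℂ) y) * ∑ y' : F.O,
      (∑ χ : IrrCharacter G, (χ : G → ℂ) (F.t * y) * conj ((χ : G → ℂ) (F.t * y'))) * (ζ' : F.O → ℂ) y')
      fun y _ => by simp only [sum_columns]]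
    simp only [Finset.mul_sum, Finset.sum_mul]
    rw [Finset.sum_congr rfl fun (y : F.O) _ => Finset.sum_comm]
    rw [Finset.sum_comm]
    refine Finset.sum_congr rfl fun χ _ => ?_
    rw [hreal χ]
    simp only [classInner_def, map_mul, map_sum, map_inv₀, Complex.conj_natCast, Complex.conj_conj,
      Finset.mul_sum, Finset.sum_mul, hN]
    rw [Finset.sum_comm]
    exact Finset.sum_congr rfl fun y _ => Finset.sum_congr rfl fun y' _ => by ring
  rw [key]
  have hinner : ∀ y : F.O, ∑ y' : F.O,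
      (((Finset.univ.filter fun c : G => c ∈ F.C ∧ c * y * c⁻¹ = (y' : G)).card : ℂ) * (ζ' : F.O → ℂ) y') =
        N * ∑ u : F.S, (Glauberman.twist (conjO F (F.S_le_C u.2)) ζ' : F.O → ℂ) y := by
    intro y
    let f : G → ℂ := fun g => if h : g ∈ F.O then (ζ' : F.O → ℂ) ⟨g, h⟩ else 0
    have h1 : ∑ y' : F.O,
        (((Finset.univ.filter fun c : G => c ∈ F.C ∧ c * y * c⁻¹ = (y' : G)).card : ℂ) * (ζ' : F.O → ℂ) y') =
          ∑ c ∈ Finset.univ.filter (· ∈ F.C), f (c * y * c⁻¹) := by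
      rw [← Finset.sum_fiberwise_of_maps_to (s := Finset.univ.filter (· ∈ F.C))
        (t := Finset.univ.map ⟨Subtype.val, Subtype.val_injective⟩) (g := fun c : G => c * y * c⁻¹)
        (fun c hc => Finset.mem_map.2 ⟨⟨_, conj_mem_O F (Finset.mem_filter.1 hc).2 y.2⟩, Finset.mem_univ _, rfl⟩)
        (fun c => f (c * y * c⁻¹)), Finset.sum_map]
      refine Finset.sum_congr rfl fun y' _ => ?_
      simp only [Function.Embedding.coeFn_mk, Finset.filter_filter]
      rw [Finset.sum_congr rfl (g := fun _ => (ζ' : F.O → ℂ) y') fun c hc => by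
          rw [(Finset.mem_filter.1 hc).2.2]; exact dif_pos y'.2, Finset.sum_const, nsmul_eq_mul]
    rw [h1, sum_C F, Finset.sum_comm, Finset.mul_sum]
    refine Finset.sum_congr rfl fun u _ => ?_
    rw [Finset.sum_congr rfl (g := fun _ => (Glauberman.twist (conjO F (F.S_le_C u.2)) ζ' : F.O → ℂ) y)
      fun l _ => ?_, Finset.sum_const, Finset.card_univ, nsmul_eq_mul, ← Nat.card_eq_fintype_card, hN]
    have e : (l : G) * u * y * ((l : G) * u)⁻¹ = ((l * conjO F (F.S_le_C u.2) y * l⁻¹ : F.O) : G) := by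
      push_cast [conjO_coe]; group
    show f _ = _
    rw [e, Glauberman.twist_apply]
    exact (dif_pos (l * conjO F (F.S_le_C u.2) y * l⁻¹).2).trans (isClassFunction_irr ζ' _ _)
  simp only [hinner, Finset.mul_sum]
  rw [Finset.sum_comm]
  rw [Finset.sum_congr rfl (g := fun u : F.S =>
    classInner ((Glauberman.twist (conjO F (F.S_le_C u.2)) ζ' : IrrCharacter F.O) : F.O → ℂ) (ζ : F.O → ℂ))
    fun u _ => ?_]
  · rw [Finset.sum_congr rfl fun u _ => classInner_irrCharacter _ ζ, Finset.sum_boole]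
  · rw [classInner_def, ← hN, Finset.mul_sum]
    exact Finset.sum_congr rfl fun y _ => by field_simp

/-- The coefficients are orthogonal to the degrees. -/
theorem sum_mu_deg (ζ : IrrCharacter F.O) :
    ∑ χ : IrrCharacter G, mu F χ ζ * (deg (χ : G → ℂ) : ℤ) = 0 := by
  classical
  apply Int.cast_injective (α := ℂ)
  push_cast
  simp only [← mu_spec, classInner_def, Finset.mul_sum, Finset.sum_mul]
  rw [Finset.sum_comm]
  refine Finset.sum_eq_zero fun y _ => ?_
  have h := second_orthogonality (F.t * (y : G)) 1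
  rw [if_neg ?_] at h
  · rw [Finset.sum_congr rfl (g := fun χ : IrrCharacter G => ((Nat.card F.O : ℂ)⁻¹ * conj ((ζ : F.O → ℂ) y)) *
      ((χ : G → ℂ) (F.t * y) * conj ((χ : G → ℂ) 1))) fun χ _ => by
        rw [irr_apply_one_eq_deg, Complex.conj_natCast]; ring, ← Finset.mul_sum, h, mul_zero]
  · intro hc
    obtain ⟨g, hg⟩ := isConj_iff.1 hc
    have hty : F.t * (y : G) = 1 := by
      have := congrArg (fun z => g⁻¹ * z * g) hg
      simpa [mul_assoc] using this
    refine odd_O F y.2 (dvd_of_eq ?_)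
    rw [eq_inv_of_mul_eq_one_right hty, orderOf_inv, F.t_order]

/-- Characters whose correspondents on `WD D` differ by a rotation have coefficients of one parity. -/
theorem res_mu_eq (hM : IsPModular 2 M) {D : Subgroup G} [Fintype (WD F D)] (hD : D ≤ F.S) (ht : F.t ∈ D)
    {ζ ζ' : IrrCharacter F.O} {β β' : IrrCharacter (WD F D)} (hζ : InvD F D (ζ : F.O → ℂ))
    (hζ' : InvD F D (ζ' : F.O → ℂ)) (hβ : RC M (ιD F D) ζ β) (hβ' : RC M (ιD F D) ζ' β') {g : G}
    (hg : g ∈ Subgroup.normalizer (D : Set G)) (h : Glauberman.twist (conjWD F ht hg) β' = β)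
    (χ : IrrCharacter G) : (mu F χ ζ : Res M) = (mu F χ ζ' : Res M) := by
  classical
  haveI := charP_res hM
  haveI : Fact (Nat.Prime 2) := ⟨Nat.prime_two⟩
  have hW := not_dvd_card_WD F D
  let act' : ↥D →* MulAut ↥F.O := Glauberman.opHom F.O D (norm_O F (hD.trans F.S_le_C))
  letI : MulAction ↥D (IrrCharacter F.O) :=
    { smul := fun a ξ => Glauberman.twist (act' a⁻¹) ξ
      one_smul := fun ξ => Subtype.ext (funext fun y => by
        show (ξ : F.O → ℂ) (act' (1 : ↥D)⁻¹ y) = _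
        rw [inv_one, map_one]; rfl)
      mul_smul := fun a b ξ => Subtype.ext (funext fun y => by
        show (ξ : F.O → ℂ) (act' (a * b)⁻¹ y) = (ξ : F.O → ℂ) (act' b⁻¹ (act' a⁻¹ y))
        rw [mul_inv_rev, map_mul]; rfl) }
  -- the coefficient of `b`
  have key : ∀ (ξ : IrrCharacter F.O) (b : IrrCharacter (WD F D)), InvD F D (ξ : F.O → ℂ) → RC M (ιD F D) ξ b →
      ∑ v : WD F D, res M (conj ((b : WD F D → ℂ) v)) * res M ((χ : G → ℂ) v) = (mu F χ ξ : Res M) := by
    intro ξ b hξ hb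
    have hexp : ∀ v : WD F D, res M ((χ : G → ℂ) v) =
        ∑ η : IrrCharacter F.O, (mu F χ η : Res M) * res M ((η : F.O → ℂ) (ιD F D v)) := by
      intro v
      rw [← res_translate hM (isCharacter_of_irr χ.2) (z := F.t) ⟨1, by rw [F.t_order, pow_one]⟩
          (commute_t F (WD_le F D v.2)) (odd_O F (WD_le F D v.2)),
        show (χ : G → ℂ) (F.t * v) = (χ : G → ℂ) (F.t * ((ιD F D v : F.O) : G)) from rfl, apply_t_mul,
        res_sum _ _ fun η _ => mul_mem (intCast_mem_place _) (apply_mem_place hM (isCharacter_of_irr η.2) _)]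
      exact Finset.sum_congr rfl fun η _ => by
        rw [res_mul (intCast_mem_place _) (apply_mem_place hM (isCharacter_of_irr η.2) _), res_intCast]
    simp only [hexp, Finset.mul_sum]
    rw [Finset.sum_comm]
    set f : IrrCharacter F.O → Res M := fun η => ∑ v : WD F D,
      res M (conj ((b : WD F D → ℂ) v)) * ((mu F χ η : Res M) * res M ((η : F.O → ℂ) (ιD F D v))) with hf
    have hfinv : ∀ (a : ↥D) (η : IrrCharacter F.O), f (a • η) = f η := by
      intro a η
      have e1 : mu F χ (a • η) = mu F χ η := mu_twist F χ η ((hD.trans F.S_le_C) (a⁻¹).2)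
      refine Finset.sum_congr rfl fun v _ => ?_
      rw [e1]
      congr 3
      show (η : F.O → ℂ) (act' a⁻¹ (ιD F D v)) = _
      rw [Glauberman.apply_iota (isFixed_WD F (hD.trans F.S_le_C))]
    show ∑ η, f η = _
    rw [sum_eq_sum_fixed (isPGroup_of_le_S F hD) (fun r => by rw [two_nsmul, CharTwo.add_self_eq_zero]) f hfinv,
      Finset.sum_eq_single ξ]
    · rw [hf]
      simp only [hb _]
      rw [Finset.sum_congr rfl (g := fun v => (mu F χ ξ : Res M) *
        (res M (conj ((b : WD F D → ℂ) v)) * res M ((b : WD F D → ℂ) v))) fun v _ => by ring,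
        ← Finset.mul_sum, res_pair hM hW b b, if_pos rfl, mul_one]
    · intro η hη hne
      have hηinv : InvD F D (η : F.O → ℂ) := by
        intro d hd a a' e
        have h1 := congrFun (congrArg Subtype.val ((Finset.mem_filter.1 hη).2 ⟨d⁻¹, inv_mem hd⟩)) a
        show (η : F.O → ℂ) a' = _
        rw [← h1]
        show (η : F.O → ℂ) a' = (η : F.O → ℂ) (act' (⟨d⁻¹, inv_mem hd⟩ : ↥D)⁻¹ a)
        refine congrArg (η : F.O → ℂ) (Subtype.ext ?_)
        show (a' : G) = d⁻¹⁻¹ * a * d⁻¹⁻¹⁻¹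
        rw [e, inv_inv]
      obtain ⟨b', hb'⟩ := exists_rcD F hM hD hηinv
      have hne' : b' ≠ b := fun e => hne (rcD_injective F hM hD hηinv hξ (e ▸ hb') hb)
      rw [hf]
      simp only [hb' _]
      rw [Finset.sum_congr rfl (g := fun v => (mu F χ η : Res M) *
        (res M (conj ((b : WD F D → ℂ) v)) * res M ((b' : WD F D → ℂ) v))) fun v _ => by ring,
        ← Finset.mul_sum, res_pair hM hW b' b, if_neg hne', mul_zero]
    · intro hξ'
      refine absurd (Finset.mem_filter.2 ⟨Finset.mem_univ _, fun a => Subtype.ext (funext fun y => ?_)⟩) hξ'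
      exact hξ _ (a⁻¹).2 y _ rfl
  rw [← key ζ β hζ hβ, ← key ζ' β' hζ' hβ', ← h]
  refine Fintype.sum_equiv (conjWD F ht hg).toEquiv _ _ fun v => ?_
  show res M (conj ((β' : WD F D → ℂ) (conjWD F ht hg v))) * res M ((χ : G → ℂ) v) =
    res M (conj ((β' : WD F D → ℂ) (conjWD F ht hg v))) * res M ((χ : G → ℂ) ((conjWD F ht hg v : WD F D) : G))
  rw [conjWD_coe, isClassFunction_irr χ]

end Cfsg.Lib.GWD.Chr
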