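import Cfsg.Agent.GWDihedral.Chars.Basic

/-!
# Separation

Let `D ≤ S` contain `t`, with representatives `R` of `N(D)` modulo `WD D` and `D`.  If a character of `G` has the
residues of two `D`-invariant characters of `O` with correspondents `β`, `β'` on `WD D`, then every character of
`WD D` is, modulo two, as often a translate of `β` as of `β'`.
-/

set_option autoImplicit false
set_option linter.unusedSectionVars false
set_option linter.style.haveILetI false

namespace Cfsg.Lib.GWD.Chr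

open Cfsg Cfsg.Lib.Chars Cfsg.Lib.Blocks
open scoped ComplexConjugate

universe u v

variable {G : Type u} [Group G] [Fintype G] (F : Frame G) {M : Ideal AlgInt}

open _root_.Classical in
/-- The residues of the central character of `χ` are those read off `ζ`. -/
def Resid [Fintype F.O] (M : Ideal AlgInt) (χ : IrrCharacter G) (ζ : IrrCharacter F.O) : Prop :=
  ∀ v : G, ¬ 2 ∣ orderOf v → res M (centralChar (χ : G → ℂ) v) =
    ∑ y : F.O, if IsConj v (y : G) then res M ((ζ : F.O → ℂ) y) else 0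

theorem resid_of_section [Fintype F.O] (hM : IsPModular 2 M) {z : G} (hz : z ∈ Subgroup.zpowers F.s)
    (hz1 : z ≠ 1) (hzO : ∀ y ∈ F.O, Commute z y) {χ : IrrCharacter G} {ζ : IrrCharacter F.O}
    (h : classInner (fun y : F.O => (χ : G → ℂ) (z * y)) (ζ : F.O → ℂ) ≠ 0) : Resid F M χ ζ := by
  classical
  intro v hv
  rw [res_centralChar_section hM (order_two_pow F hz) (mem_O_section F hz hz1 hzO) (not_dvd_card_O F) h hv,
    Finset.sum_filter]

/-- Representatives of `N(D)` modulo `WD D` and `D`. -/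
structure Reps (D : Subgroup G) (ι : Type v) where
  R : ι → G
  mem : ∀ i, R i ∈ Subgroup.normalizer (D : Set G)
  form : ∀ g ∈ Subgroup.normalizer (D : Set G), ∃ w ∈ WD F D, ∃ i, ∃ d ∈ D, g = w * R i * d
  inj : ∀ w ∈ WD F D, ∀ w' ∈ WD F D, ∀ (i i' : ι), ∀ d ∈ D, ∀ d' ∈ D,
    w * R i * d = w' * R i' * d' → w = w' ∧ i = i' ∧ d = d'

variable {D : Subgroup G} {ι : Type v} [Fintype ι] (ht : F.t ∈ D) (T : Reps F D ι)

/-- The action of a representative. -/
def act (i : ι) : MulAut ↥(WD F D) := conjWD F ht (T.mem i)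

variable [Fintype F.O] [Fintype (WD F D)]

theorem sum_act_eq (hM : IsPModular 2 M) (hD : D ≤ F.S) {χ : IrrCharacter G} {ζ : IrrCharacter F.O}
    {β : IrrCharacter (WD F D)} (hζ : InvD F D (ζ : F.O → ℂ)) (hβ : RC M (ιD F D) ζ β) (hχ : Resid F M χ ζ)
    (v : WD F D) :
    (∃ k : ℕ, 2 ∣ k ∧ ∀ f : WD F D → Res M, (∀ a c, f (c * a * c⁻¹) = f a) →
      ∃ y : Res M, ∑ i, f (act F ht T i v) = (k : Res M) * y) ∨
    ∑ i, res M ((β : WD F D → ℂ) (act F ht T i v)) = res M (centralChar (χ : G → ℂ) v) := by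
  classical
  haveI := charP_res hM
  haveI : Fact (Nat.Prime 2) := ⟨Nat.prime_two⟩
  set N : Subgroup G := Subgroup.normalizer (D : Set G) with hN
  have hcomm : ∀ (a : WD F D), ∀ d ∈ D, Commute d (a : G) := fun a => ((mem_WD F ht).1 a.2).1
  let Φ : ↥(WD F D) × ι → ↥(WD F D) := fun x => x.1 * act F ht T x.2 v * x.1⁻¹
  have hΦ : ∀ (x : ↥(WD F D) × ι) (d : G), d ∈ D →
      (x.1 : G) * T.R x.2 * d * v * ((x.1 : G) * T.R x.2 * d)⁻¹ = (Φ x : G) := by
    intro x d hd
    show _ = ((x.1 : G) * (T.R x.2 * v * (T.R x.2)⁻¹) * (x.1 : G)⁻¹)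
    calc _ = (x.1 : G) * T.R x.2 * (d * v * d⁻¹) * ((x.1 : G) * T.R x.2)⁻¹ := by group
      _ = _ := by rw [(hcomm v d hd).eq, mul_inv_cancel_right]; group
  have hWN : ∀ w ∈ WD F D, w ∈ N := fun w hw => Subgroup.centralizer_le_normalizer _
    (Subgroup.mem_centralizer_iff.2 fun d hd => (((mem_WD F ht).1 hw).1 d hd).eq)
  have hformN : ∀ (x : ↥(WD F D) × ι) (d : G), d ∈ D → (x.1 : G) * T.R x.2 * d ∈ N := fun x d hd =>
    mul_mem (mul_mem (hWN _ x.1.2) (T.mem _)) (Subgroup.le_normalizer hd)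
  -- the stabiliser
  set S : Subgroup G := N ⊓ Subgroup.centralizer {(v : G)} with hS
  set r := (Finset.univ.filter fun x => Φ x = v).card with hr
  have hDS : D ≤ S := fun d hd => ⟨Subgroup.le_normalizer hd,
    Subgroup.mem_centralizer_singleton_iff.2 (hcomm v d hd).eq⟩
  have hfib : ∀ y : WD F D, (∃ n ∈ N, n * (v : G) * n⁻¹ = (y : G)) →
      (Finset.univ.filter fun x => Φ x = y).card * Nat.card D = Nat.card S := by
    rintro y ⟨n₀, hn₀, hny⟩
    rw [← Fintype.card_subtype, ← Nat.card_eq_fintype_card, ← Nat.card_prod]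
    refine Nat.card_congr (Equiv.ofBijective (fun x => (⟨n₀⁻¹ * ((x.1.1.1 : G) * T.R x.1.1.2 * x.2), ?_⟩ : ↥S))
      ⟨?_, ?_⟩)
    · refine Subgroup.mem_inf.2 ⟨mul_mem (inv_mem hn₀) (hformN _ _ x.2.2), Subgroup.mem_centralizer_singleton_iff.2 ?_⟩
      apply mul_inv_eq_iff_eq_mul.1
      calc _ = n₀⁻¹ * ((x.1.1.1 : G) * T.R x.1.1.2 * x.2 * v * ((x.1.1.1 : G) * T.R x.1.1.2 * x.2)⁻¹) * n₀ := by
            group
        _ = (v : G) := by rw [hΦ x.1.1 _ x.2.2, x.1.2, ← hny]; group
    · intro a b h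
      have h1 := mul_left_cancel (congrArg (fun z : ↥S => (z : G)) h)
      obtain ⟨e1, e2, e3⟩ := T.inj _ a.1.1.1.2 _ b.1.1.1.2 _ _ _ a.2.2 _ b.2.2 h1
      exact Prod.ext (Subtype.ext (Prod.ext (Subtype.ext e1) e2)) (Subtype.ext e3)
    · intro g
      obtain ⟨w, hw, i, d, hd, e⟩ := T.form (n₀ * (g : G)) (mul_mem hn₀ g.2.1)
      refine ⟨(⟨(⟨w, hw⟩, i), Subtype.ext ?_⟩, ⟨d, hd⟩), Subtype.ext ?_⟩
      · rw [← hΦ (⟨w, hw⟩, i) d hd, ← e]
        have hs : (g : G) * (v : G) = (v : G) * (g : G) := Subgroup.mem_centralizer_singleton_iff.1 g.2.2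
        calc n₀ * (g : G) * v * (n₀ * (g : G))⁻¹ = n₀ * ((g : G) * v * (g : G)⁻¹) * n₀⁻¹ := by group
          _ = (y : G) := by rw [hs, mul_inv_cancel_right, hny]
      · show n₀⁻¹ * (w * T.R i * d) = _
        rw [← e, inv_mul_cancel_left]
  have hfibv : r * Nat.card D = Nat.card S := hfib v ⟨1, one_mem _, by simp⟩
  set orb : Finset ↥(WD F D) := Finset.univ.filter fun y => ∃ n ∈ N, n * (v : G) * n⁻¹ = (y : G) with horb
  have hmaps : ∀ x : ↥(WD F D) × ι, Φ x ∈ orb := fun x => Finset.mem_filter.2 ⟨Finset.mem_univ _,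
    _, hformN x 1 (one_mem _), hΦ x 1 (one_mem _)⟩
  have hkey : ∀ f : WD F D → Res M, (∀ a c, f (c * a * c⁻¹) = f a) →
      ∑ i, f (act F ht T i v) = (r : Res M) * ∑ y ∈ orb, f y := by
    intro f hf
    have h1 : ∑ x : ↥(WD F D) × ι, f (Φ x) = (r : Res M) * ∑ y ∈ orb, f y := by
      rw [← Finset.sum_fiberwise_of_maps_to (fun x _ => hmaps x), Finset.mul_sum]
      refine Finset.sum_congr rfl fun y hy => ?_
      have hy' := hfib y (Finset.mem_filter.1 hy).2
      rw [← hfibv] at hy'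
      rw [Finset.sum_congr rfl fun x hx => congrArg f (Finset.mem_filter.1 hx).2, Finset.sum_const,
        Nat.eq_of_mul_eq_mul_right Nat.card_pos hy', nsmul_eq_mul]
    rw [← h1, Fintype.sum_prod_type_right]
    refine Finset.sum_congr rfl fun i _ => ?_
    simp only [Φ, hf, Finset.sum_const, Finset.card_univ, nsmul_eq_mul, ← Nat.card_eq_fintype_card,
      res_natCast_odd hM (not_dvd_card_WD F D), one_mul]
  by_cases hr2 : 2 ∣ r
  · exact Or.inl ⟨r, hr2, fun f hf => ⟨_, hkey f hf⟩⟩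
  right
  obtain ⟨a, ha⟩ := IsPGroup.iff_card.1 (isPGroup_of_le_S F hD)
  -- `D` is a maximal 2-subgroup of `C(v)`
  set K := Subgroup.centralizer ({(v : G)} : Set G) with hK
  obtain ⟨P, hP⟩ := ((isPGroup_of_le_S F hD).comap_of_injective K.subtype Subtype.val_injective :
    IsPGroup 2 (D.comap K.subtype)).exists_le_sylow
  have hDK : D ≤ K := fun d hd => (hDS hd).2
  set P' : Subgroup G := (P : Subgroup K).map K.subtype with hP'
  have hP'2 : IsPGroup 2 P' := P.2.map _
  have hDP : D ≤ P' := fun d hd => ⟨⟨d, hDK hd⟩, hP hd, rfl⟩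
  have hDeq : P' = D := by
    by_contra hne
    haveI : Group.IsNilpotent P' := hP'2.isNilpotent
    have hlt : D.subgroupOf P' < ⊤ := lt_top_iff_ne_top.2 fun e =>
      hne (le_antisymm (Subgroup.subgroupOf_eq_top.1 e) hDP)
    obtain ⟨x, hxN, hxD⟩ := SetLike.exists_of_lt (Group.normalizerCondition_of_isNilpotent _ hlt)
    have hxD' : (x : G) ∉ D := fun h => hxD (Subgroup.mem_subgroupOf.2 h)
    have hxN' : (x : G) ∈ N := by
      refine Subgroup.mem_normalizer_iff.2 fun d => ⟨fun hd => ?_, fun hd => ?_⟩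
      · exact Subgroup.mem_subgroupOf.1 ((Subgroup.mem_normalizer_iff.1 hxN ⟨d, hDP hd⟩).1 hd)
      · have hdP : d ∈ P' := by
          have := mul_mem (mul_mem (inv_mem x.2) (hDP hd)) x.2
          simpa [mul_assoc] using this
        exact Subgroup.mem_subgroupOf.1 ((Subgroup.mem_normalizer_iff.1 hxN ⟨d, hdP⟩).2 hd)
    set E := P' ⊓ S with hE
    have hxE : (x : G) ∈ E := ⟨x.2, hxN', by
      obtain ⟨k, -, hk⟩ := x.2
      rw [← hk]; exact k.2⟩
    obtain ⟨b, hb⟩ := IsPGroup.iff_card.1 (hP'2.to_le (inf_le_left : E ≤ P'))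
    have hlt' : Nat.card D < Nat.card E :=
      lt_of_le_of_ne (Subgroup.card_le_of_le (le_inf hDP hDS)) fun e =>
        hxD' (Subgroup.eq_of_le_of_card_ge (le_inf hDP hDS) e.ge ▸ hxE)
    rw [ha, hb] at hlt'
    have hab : a < b := (Nat.pow_lt_pow_iff_right one_lt_two).1 hlt'
    have h2 : 2 ^ b ∣ r * 2 ^ a := by
      rw [← ha, hfibv, ← hb]
      exact Subgroup.card_dvd_of_le inf_le_right
    refine hr2 (Nat.dvd_of_mul_dvd_mul_right (Nat.two_pow_pos a) ?_)
    rw [← pow_succ']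
    exact (pow_dvd_pow 2 hab).trans h2
  -- conjugates in the fixed points are conjugate in `N(D)`
  have hconj : ∀ y : WD F D, IsConj (v : G) (y : G) → y ∈ orb := by
    intro y hy
    obtain ⟨g, hg⟩ := isConj_iff.1 hy
    set K' := Subgroup.centralizer ({(y : G)} : Set G) with hK'
    -- `D` and its conjugate are Sylow subgroups of `C(y)`
    have hcard : ∀ Q : Subgroup G, IsPGroup 2 Q → Q ≤ K → Nat.card Q ≤ Nat.card D := by
      intro Q hQ hQK
      obtain ⟨P₂, hP₂⟩ := (hQ.comap_of_injective K.subtype Subtype.val_injective :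
        IsPGroup 2 (Q.comap K.subtype)).exists_le_sylow
      calc Nat.card Q = Nat.card (Q.comap K.subtype) := (Nat.card_congr (Subgroup.subgroupOfEquivOfLe hQK).toEquiv).symm
        _ ≤ Nat.card P₂ := Subgroup.card_le_of_le hP₂
        _ = Nat.card P := Nat.card_congr (P₂.equiv P).toEquiv
        _ = Nat.card P' := (Subgroup.card_map_of_injective Subtype.val_injective).symm
        _ = Nat.card D := by rw [hDeq]
    have hDK' : D ≤ K' := fun d hd => Subgroup.mem_centralizer_singleton_iff.2 (hcomm y d hd).eq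
    set Dg : Subgroup G := D.map (MulAut.conj g).toMonoidHom with hDg
    have hDgK' : Dg ≤ K' := by
      rintro _ ⟨d, hd, rfl⟩
      refine Subgroup.mem_centralizer_singleton_iff.2 ?_
      rw [← hg]
      exact ((hcomm v d hd).map (MulAut.conj g).toMonoidHom).eq
    have hmax : ∀ Q : Subgroup G, IsPGroup 2 Q → Q ≤ K' → Nat.card Q ≤ Nat.card D := by
      intro Q hQ hQK
      rw [← Subgroup.card_map_of_injective (f := (MulAut.conj g⁻¹).toMonoidHom) (K := Q)
        (MulAut.conj g⁻¹).injective]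
      refine hcard _ (hQ.map _) ?_
      rintro _ ⟨q, hq, rfl⟩
      refine Subgroup.mem_centralizer_singleton_iff.2 ?_
      have h1 : Commute q (y : G) := (Subgroup.mem_centralizer_singleton_iff.1 (hQK hq) : _)
      have h2 := h1.map (MulAut.conj g⁻¹).toMonoidHom
      rwa [show (MulAut.conj g⁻¹).toMonoidHom (y : G) = v by simp [← hg, mul_assoc]] at h2
    have hsyl : ∀ Q : Subgroup G, IsPGroup 2 Q → Q ≤ K' → Nat.card Q = Nat.card D →
        ∃ R : Sylow 2 K', (R : Subgroup K') = Q.comap K'.subtype := by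
      intro Q hQ hQK hc
      obtain ⟨R, hR⟩ := (hQ.comap_of_injective K'.subtype Subtype.val_injective :
        IsPGroup 2 (Q.comap K'.subtype)).exists_le_sylow
      refine ⟨R, (Subgroup.eq_of_le_of_card_ge hR ?_).symm⟩
      rw [show Nat.card (Q.comap K'.subtype) = Nat.card Q from
        Nat.card_congr (Subgroup.subgroupOfEquivOfLe hQK).toEquiv, hc]
      calc Nat.card (R : Subgroup K') = Nat.card ((R : Subgroup K').map K'.subtype) :=
            (Subgroup.card_map_of_injective Subtype.val_injective).symm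
        _ ≤ Nat.card D := hmax _ (R.2.map _) (Subgroup.map_subtype_le _)
    obtain ⟨R₁, hR₁⟩ := hsyl D (isPGroup_of_le_S F hD) hDK' rfl
    obtain ⟨R₂, hR₂⟩ := hsyl Dg ((isPGroup_of_le_S F hD).map _) hDgK'
      (Subgroup.card_map_of_injective (MulAut.conj g).injective)
    obtain ⟨k, hk⟩ := MulAction.exists_smul_eq K' R₂ R₁
    have hk' := congrArg (fun R : Sylow 2 K' => (R : Subgroup K')) hk
    simp only [Sylow.coe_subgroup_smul, hR₁, hR₂] at hk'
    have hn : (k : G) * g ∈ N := by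
      refine Subgroup.mem_normalizer_iff.2 fun d => ?_
      have hfwd : ∀ x ∈ D, (k : G) * g * x * ((k : G) * g)⁻¹ ∈ D := by
        intro x hx
        have hxg : g * x * g⁻¹ ∈ Dg := ⟨x, hx, rfl⟩
        have : k * ⟨g * x * g⁻¹, hDgK' hxg⟩ * k⁻¹ ∈ D.comap K'.subtype := by
          rw [← hk']
          exact Subgroup.mem_map.2 ⟨⟨_, hDgK' hxg⟩, hxg, rfl⟩
        have e : (k : G) * g * x * ((k : G) * g)⁻¹ =
            ((k * ⟨g * x * g⁻¹, hDgK' hxg⟩ * k⁻¹ : K') : G) := by push_cast; group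
        exact e ▸ this
      refine ⟨hfwd d, fun h => ?_⟩
      have hsurj : Function.Surjective (fun x : D =>
          (⟨(k : G) * g * x * ((k : G) * g)⁻¹, hfwd x x.2⟩ : D)) :=
        Finite.injective_iff_surjective.1 fun a b e => Subtype.ext (by simpa using congrArg Subtype.val e)
      obtain ⟨x, hx⟩ := hsurj ⟨_, h⟩
      have : (x : G) = d := by simpa using congrArg Subtype.val hx
      exact this ▸ x.2
    refine Finset.mem_filter.2 ⟨Finset.mem_univ _, _, hn, ?_⟩
    calc (k : G) * g * v * ((k : G) * g)⁻¹ = (k : G) * (g * v * g⁻¹) * (k : G)⁻¹ := by group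
      _ = (y : G) := by rw [hg, Subgroup.mem_centralizer_singleton_iff.1 k.2, mul_inv_cancel_right]
  rw [hkey (fun w => res M ((β : WD F D → ℂ) w)) fun a c => by simp only [isClassFunction_irr β a c],
    res_natCast_odd hM hr2, one_mul,
    hχ v (odd_O F (WD_le F D v.2)), sum_O_eq_WD F hM hD fun d hd a b e => ?_]
  · rw [horb, Finset.sum_filter]
    refine Finset.sum_congr rfl fun y _ => ?_
    by_cases h : IsConj (v : G) (y : G)
    · rw [if_pos (Finset.mem_filter.1 (hconj y h)).2, if_pos (show IsConj (v : G) ((ιD F D y : F.O) : G) from h),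
        hβ y]
    · rw [if_neg (show ¬ IsConj (v : G) ((ιD F D y : F.O) : G) from h), if_neg]
      rintro ⟨n, -, hn⟩
      exact h (isConj_iff.2 ⟨n, hn⟩)
  · have hc : IsConj (a : G) (b : G) := isConj_iff.2 ⟨d, e.symm⟩
    by_cases h : IsConj (v : G) (a : G)
    · rw [if_pos h, if_pos (h.trans hc), hζ d hd a b e]
    · rw [if_neg h, if_neg fun h' => h (h'.trans hc.symm)]

/-- The separation. -/
theorem twist_count_eq (hM : IsPModular 2 M) (hD : D ≤ F.S) {χ : IrrCharacter G} {ζ ζ' : IrrCharacter F.O}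
    {β β' : IrrCharacter (WD F D)} (hζ : InvD F D (ζ : F.O → ℂ)) (hζ' : InvD F D (ζ' : F.O → ℂ))
    (hβ : RC M (ιD F D) ζ β) (hβ' : RC M (ιD F D) ζ' β') (hχ : Resid F M χ ζ) (hχ' : Resid F M χ ζ')
    (γ : IrrCharacter (WD F D)) [DecidableEq (IrrCharacter (WD F D))] :
    ((Finset.univ.filter fun i => Glauberman.twist (act F ht T i) β = γ).card : Res M) =
      (Finset.univ.filter fun i => Glauberman.twist (act F ht T i) β' = γ).card := by
  haveI := charP_res hM
  have hG : ∀ v, ∑ i, res M ((β : WD F D → ℂ) (act F ht T i v)) =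
      ∑ i, res M ((β' : WD F D → ℂ) (act F ht T i v)) := by
    intro v
    have hcl : ∀ (b : IrrCharacter (WD F D)) (a c : WD F D),
        res M ((b : WD F D → ℂ) (c * a * c⁻¹)) = res M ((b : WD F D → ℂ) a) := fun b a c => by
      rw [isClassFunction_irr b a c]
    rcases sum_act_eq F ht T hM hD hζ hβ hχ v with ⟨k, hk, hf⟩ | h1
    · obtain ⟨y, hy⟩ := hf (fun w => res M ((β : WD F D → ℂ) w)) (hcl β)
      obtain ⟨y', hy'⟩ := hf (fun w => res M ((β' : WD F D → ℂ) w)) (hcl β')
      rw [hy, hy', (res_natCast_eq_zero_iff hM k).2 hk, zero_mul, zero_mul]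
    · rcases sum_act_eq F ht T hM hD hζ' hβ' hχ' v with ⟨k, hk, hf⟩ | h2
      · obtain ⟨y, hy⟩ := hf (fun w => res M ((β : WD F D → ℂ) w)) (hcl β)
        obtain ⟨y', hy'⟩ := hf (fun w => res M ((β' : WD F D → ℂ) w)) (hcl β')
        rw [hy, hy', (res_natCast_eq_zero_iff hM k).2 hk, zero_mul, zero_mul]
      · exact h1.trans h2.symm
  have hpair : ∀ b : IrrCharacter (WD F D),
      ∑ v, res M (conj ((γ : WD F D → ℂ) v)) * ∑ i, res M ((b : WD F D → ℂ) (act F ht T i v)) =
        ((Finset.univ.filter fun i => Glauberman.twist (act F ht T i) b = γ).card : Res M) := by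
    intro b
    simp only [Finset.mul_sum]
    rw [Finset.sum_comm]
    refine (Finset.sum_congr rfl fun i _ => res_pair hM (not_dvd_card_WD F D)
      (Glauberman.twist (act F ht T i) b) γ).trans ?_
    rw [Finset.sum_boole]
  rw [← hpair β, ← hpair β']
  simp only [hG]

end Cfsg.Lib.GWD.Chr
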