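import Cfsg.Agent.GWDihedral.Chars.Section
import Cfsg.Agent.GWDihedral.Chars.Dih
import Cfsg.Agent.Chars.TI

/-!
# The two virtual characters over an invariant character

`alpha i` is an extension of `θ` times `fD i`.  Its induced character has norm three and degree zero; a character of
`G` in one of the two has non-zero sum of its two coefficients, and so the residues of `θ`.
-/

set_option autoImplicit false
set_option linter.unusedSectionVars false
set_option linter.style.haveILetI false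

namespace Cfsg.Lib.GWD.Chr

open Cfsg Cfsg.Lib.Chars Cfsg.Lib.Blocks
open scoped ComplexConjugate

universe u

variable {G : Type u} [Group G] [Fintype G] (F : Frame G) {M : Ideal AlgInt}

/-- An extension of `θ` to `C`, trivial on the powers of `s`, with one non-zero integer value at the reflections. -/
structure Ext (θ : IrrCharacter F.O) where
  ch : IrrCharacter F.C
  rot : ∀ (y : F.O) (k : ℤ), (ch : F.C → ℂ)
    ⟨(y : G) * F.s ^ k, mul_mem (F.O_le y.2) (F.S_le_C (zpow_mem_S F k))⟩ = (θ : F.O → ℂ) y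
  val : ℤ
  val_ne : val ≠ 0
  refl : (ch : F.C → ℂ) ⟨F.r, r_mem_C F⟩ = (val : ℂ)
  refl_eq : (ch : F.C → ℂ) ⟨F.r * F.s, mul_mem (r_mem_C F) (s_mem_C F)⟩ = (ch : F.C → ℂ) ⟨F.r, r_mem_C F⟩

variable {F} {θ : IrrCharacter F.O} (E : Ext F θ)

theorem Ext.rot' {x : F.C} {l : G} (hl : l ∈ F.O) {k : ℤ} (h : (x : G) = l * F.s ^ k) :
    (E.ch : F.C → ℂ) x = (θ : F.O → ℂ) ⟨l, hl⟩ := by
  rw [← E.rot ⟨l, hl⟩ k]
  exact congrArg _ (Subtype.ext h)

/-- The virtual character of `C`. -/
noncomputable def Ext.alpha (i : Bool) (x : F.C) : ℂ := (E.ch : F.C → ℂ) x * (fD i (kap F x) : ℂ)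

theorem isGeneralized_fD (i : Bool) : IsGeneralizedCharacter (DihedralGroup 4) fun g => (fD i g : ℂ) := by
  have hl : ∀ f : DihedralGroup 4 →* ℤˣ, IsCharacter (DihedralGroup 4) fun g => ((f g : ℤ) : ℂ) := fun f => by
    have h := isCharacter_of_irr (isIrrCharacter_linear
      ((Units.map (Int.castRingHom ℂ).toMonoidHom).comp f))
    convert h using 1
    funext g
    simp
  have h1 := hl 1
  refine ⟨_, _, ?_, isCharacter_psiD, funext fun g => by simp only [fD, Pi.sub_apply]; push_cast; rfl⟩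
  cases i
  · have := IsCharacter.add h1 (hl epsD)
    convert this using 1
    funext g
    simp
  · have := IsCharacter.add (hl aD) (IsCharacter.mul (hl aD) (hl epsD))
    convert this using 1
    funext g
    simp [mul_add]

theorem Ext.isGeneralized_alpha (i : Bool) : IsGeneralizedCharacter F.C (E.alpha i) :=
  IsGeneralizedCharacter.mul (IsCharacter.isGeneralized (isCharacter_of_irr E.ch.2))
    (IsGeneralizedCharacter.comp_hom (isGeneralized_fD i) (kap F))

theorem Ext.isClassFunction_alpha (i : Bool) : IsClassFunction F.C (E.alpha i) := by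
  intro g h
  simp only [Ext.alpha, isClassFunction_irr E.ch g h]
  congr 2
  obtain ⟨a, b, ha, hb, e⟩ := isGeneralized_fD i
  apply Int.cast_injective (α := ℂ)
  have := congrFun e
  simp only [Pi.sub_apply] at this
  rw [this, this, map_mul, map_mul, map_inv, isClassFunction_isChar ha, isClassFunction_isChar hb]

theorem Ext.alpha_one (i : Bool) : E.alpha i 1 = 0 := by
  rw [Ext.alpha, map_one, fD_one, Int.cast_zero, mul_zero]

theorem Ext.alpha_support {i : Bool} {x : F.C} (h : E.alpha i x ≠ 0) :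
    ∃ l ∈ F.O, ∃ k : ℤ, (x : G) = l * F.s ^ k ∧ ¬ (4 : ℤ) ∣ k :=
  support_fD F fun e => h (by rw [Ext.alpha, e, Int.cast_zero, mul_zero])

variable (F) in
/-- The support. -/
def Supp : Set G := {x | ∃ l ∈ F.O, ∃ k : ℤ, x = l * F.s ^ k ∧ ¬ (4 : ℤ) ∣ k}

variable (F) in
/-- An element of the support has `t` as a power. -/
theorem t_pow_supp {x : G} (hx : x ∈ Supp F) : x ^ (orderOf x / 2) = F.t ∧ orderOf x ≠ 0 := by
  obtain ⟨l, hl, k, rfl, h4⟩ := hx
  have hxC : l * F.s ^ k ∈ F.C := mul_mem (F.O_le hl) (F.S_le_C (zpow_mem_S F k))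
  set x := l * F.s ^ k with hx
  have hpow : ∀ m : ℕ, ∃ l' ∈ F.O, x ^ m = l' * F.s ^ (k * m) := by
    intro m
    induction m with
    | zero => exact ⟨1, one_mem _, by simp⟩
    | succ m ih =>
      obtain ⟨l', hl', e⟩ := ih
      refine ⟨l' * (F.s ^ (k * m) * l * (F.s ^ (k * m))⁻¹),
        mul_mem hl' (conj_mem_O F (F.S_le_C (zpow_mem_S F _)) hl), ?_⟩
      rw [pow_succ, e, hx, Nat.cast_succ, mul_add, mul_one, zpow_add]
      group
  have hne : orderOf x ≠ 0 := (orderOf_pos x).ne'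
  refine ⟨?_, hne⟩
  have heven : 2 ∣ orderOf x := by
    by_contra hodd
    obtain ⟨l', hl', e⟩ := hpow (orderOf x)
    rw [pow_orderOf_eq_one] at e
    have h1 := (form_unique F (one_mem _) hl' (one_mem _) (zpow_mem_S F _) (by rwa [one_mul])).2
    have h2 := orderOf_dvd_iff_zpow_eq_one.2 h1.symm
    rw [F.s_order] at h2
    refine h4 ((Int.natCast_dvd_natCast.2 (show 4 ∣ 2 ^ (F.n - 1) by
      have := F.three_le
      exact (show (4 : ℕ) = 2 ^ 2 by norm_num) ▸ pow_dvd_pow 2 (by omega)) : (4 : ℤ) ∣ _).trans ?_)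
    have hc : IsCoprime ((2 ^ (F.n - 1) : ℕ) : ℤ) (orderOf x : ℤ) :=
      Nat.isCoprime_iff_coprime.2 (((Nat.prime_two.coprime_iff_not_dvd).2 hodd).pow_left _)
    exact hc.dvd_of_dvd_mul_right h2
  set q := x ^ (orderOf x / 2) with hq
  obtain ⟨l', hl', e⟩ := hpow (orderOf x / 2)
  rw [← hq] at e
  have hq2 : q * q = 1 := by
    rw [hq, ← pow_add, ← two_mul, Nat.mul_div_cancel' heven, pow_orderOf_eq_one]
  have hq1 : q ≠ 1 := fun h => by
    have := Nat.le_of_dvd (Nat.div_pos (Nat.le_of_dvd (orderOf_pos x) heven) two_pos)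
      (orderOf_dvd_of_pow_eq_one h)
    have := orderOf_pos x
    omega
  set u := F.s ^ (k * ((orderOf x / 2 : ℕ) : ℤ)) with hu
  have huS : u ∈ F.S := zpow_mem_S F _
  have h1 : l' * (u * l' * u⁻¹) * (u * u) = 1 * 1 := by
    rw [one_mul, ← hq2, e]; group
  obtain ⟨e1, e2⟩ := form_unique F (mul_mem hl' (conj_mem_O F (F.S_le_C huS) hl')) (one_mem _)
    (mul_mem huS huS) (one_mem _) h1
  rcases F.data.sq_zpowers (Subgroup.mem_zpowers_iff.2 ⟨_, rfl⟩ : u ∈ Subgroup.zpowers F.s) e2 with h | h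
  · exfalso
    rw [h, mul_one] at e
    refine odd_O F hl' (dvd_of_eq (orderOf_eq_prime ?_ (e ▸ hq1)).symm)
    rw [pow_two, ← e, hq2]
  · rw [F.t_eq] at h
    rw [h] at e e1
    rw [(commute_t F hl').eq, mul_inv_cancel_right] at e1
    have h2 : l' = 1 := by
      by_contra hne
      exact odd_O F hl' (dvd_of_eq (orderOf_eq_prime (by rwa [pow_two]) hne).symm)
    rw [e, h2, one_mul]

variable (F) in
theorem supp_TI {g : G} (hg : g ∉ F.C) {x : G} (hx : x ∈ Supp F) (hgx : g * x * g⁻¹ ∈ Supp F) : x = 1 := by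
  exfalso
  refine hg (F.mem_C.2 (mul_inv_eq_iff_eq_mul.1 ?_))
  have h1 := (t_pow_supp F hgx).1
  rw [show orderOf (g * x * g⁻¹) = orderOf x from MulEquiv.orderOf_eq (MulAut.conj g) x, conj_pow,
    (t_pow_supp F hx).1] at h1
  exact h1

variable [Fintype F.O]

variable (F) in
/-- Sums over `C` of functions supported on `O⟨s⟩`. -/
theorem sum_supp [Fintype F.C] {R : Type*} [AddCommMonoid R] (g : F.C → R)
    (hg : ∀ c : F.C, g c ≠ 0 → ∃ l ∈ F.O, ∃ k : ℤ, (c : G) = l * F.s ^ k) :
    ∑ c : F.C, g c = ∑ k ∈ Finset.range (2 ^ (F.n - 1)), ∑ l : F.O,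
      g ⟨(l : G) * F.s ^ (k : ℤ), mul_mem (F.O_le l.2) (F.S_le_C (zpow_mem_S F k))⟩ := by
  classical
  rw [← Finset.sum_product']
  symm
  refine Finset.sum_bij_ne_zero (fun x _ _ => ⟨(x.2 : G) * F.s ^ (x.1 : ℤ),
    mul_mem (F.O_le x.2.2) (F.S_le_C (zpow_mem_S F _))⟩) (fun _ _ _ => Finset.mem_univ _) ?_ ?_ fun _ _ _ => rfl
  · intro a ha _ b hb _ h
    obtain ⟨e1, e2⟩ := form_unique F a.2.2 b.2.2 (zpow_mem_S F _) (zpow_mem_S F _) (congrArg Subtype.val h)
    rw [zpow_natCast, zpow_natCast] at e2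
    have := pow_injOn_Iio_orderOf (x := F.s)
      (by rw [Set.mem_Iio, F.s_order]; exact Finset.mem_range.1 (Finset.mem_product.1 ha).1)
      (by rw [Set.mem_Iio, F.s_order]; exact Finset.mem_range.1 (Finset.mem_product.1 hb).1) e2
    exact Prod.ext this (Subtype.ext e1)
  · intro c _ hc
    obtain ⟨l, hl, k, hk⟩ := hg c hc
    have hN : (0 : ℤ) < ((2 ^ (F.n - 1) : ℕ) : ℤ) := by positivity
    set j := (k % ((2 ^ (F.n - 1) : ℕ) : ℤ)).toNat
    have hj : (j : ℤ) = k % ((2 ^ (F.n - 1) : ℕ) : ℤ) := Int.toNat_of_nonneg (Int.emod_nonneg _ hN.ne')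
    have hsj : F.s ^ (j : ℤ) = F.s ^ k := by rw [hj, ← F.s_order, zpow_mod_orderOf]
    refine ⟨(j, ⟨l, hl⟩), Finset.mem_product.2 ⟨Finset.mem_range.2 ?_, Finset.mem_univ _⟩, ?_, ?_⟩
    · have := Int.emod_lt_of_pos k hN
      omega
    · intro h
      refine hc ?_
      rw [← h]
      exact congrArg g (Subtype.ext (hk.trans (congrArg (l * ·) hsj.symm)))
    · exact Subtype.ext ((congrArg (l * ·) hsj).trans hk.symm)

variable (F) in
theorem sum_period {R : Type*} [NonAssocSemiring R] (φ : ZMod 4 → R) :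
    ∑ k ∈ Finset.range (2 ^ (F.n - 1)), φ ((k : ℤ) : ZMod 4) =
      ((2 ^ (F.n - 3) : ℕ) : R) * (φ 0 + φ 1 + φ 2 + φ 3) := by
  have h : 2 ^ (F.n - 1) = 4 * 2 ^ (F.n - 3) := by
    have := F.three_le
    rw [show F.n - 1 = 2 + (F.n - 3) by omega, pow_add]; norm_num
  rw [h]
  generalize 2 ^ (F.n - 3) = m
  induction m with
  | zero => simp
  | succ m ih =>
    rw [show 4 * (m + 1) = 4 * m + 4 by ring, Finset.sum_range_add, ih, Finset.sum_range_succ,
      Finset.sum_range_succ, Finset.sum_range_succ, Finset.sum_range_one]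
    have h4 : ∀ j : ℕ, (((4 * m + j : ℕ) : ℤ) : ZMod 4) = (j : ZMod 4) := fun j => by
      push_cast
      rw [show (4 : ZMod 4) = 0 from rfl, zero_mul, zero_add]
    simp only [h4]
    push_cast
    rw [add_mul, one_mul]

theorem Ext.alpha_rot (i : Bool) (l : F.O) (k : ℤ) :
    E.alpha i ⟨(l : G) * F.s ^ k, mul_mem (F.O_le l.2) (F.S_le_C (zpow_mem_S F k))⟩ =
      (θ : F.O → ℂ) l * (fD i (.r (k : ZMod 4)) : ℂ) := by
  rw [Ext.alpha, E.rot, kap_rot F l.2 rfl]

theorem sum_normSq_theta : ∑ l : F.O, (θ : F.O → ℂ) l * conj ((θ : F.O → ℂ) l) = (Nat.card F.O : ℂ) := by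
  have := classInner_irr_self θ
  rwa [classInner_def, inv_mul_eq_one₀ (Nat.cast_ne_zero.2 Nat.card_pos.ne'), eq_comm] at this

theorem Ext.inner_alpha [Fintype F.C] (i j : Bool) :
    classInner (E.alpha i) (E.alpha j) = if i = j then 3 else 1 := by
  rw [classInner_def, sum_supp F _ fun c hc => ?_]
  swap
  · obtain ⟨l, hl, k, hk, -⟩ := E.alpha_support (i := i) (left_ne_zero_of_mul hc)
    exact ⟨l, hl, k, hk⟩
  have h1 : ∀ k : ℕ, ∑ l : F.O,
      E.alpha i ⟨(l : G) * F.s ^ (k : ℤ), mul_mem (F.O_le l.2) (F.S_le_C (zpow_mem_S F k))⟩ *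
        conj (E.alpha j ⟨(l : G) * F.s ^ (k : ℤ), mul_mem (F.O_le l.2) (F.S_le_C (zpow_mem_S F k))⟩) =
      (Nat.card F.O : ℂ) * ((fD i (.r ((k : ℤ) : ZMod 4)) * fD j (.r ((k : ℤ) : ZMod 4)) : ℤ) : ℂ) := by
    intro k
    rw [← sum_normSq_theta (θ := θ), Finset.sum_mul]
    refine Finset.sum_congr rfl fun l _ => ?_
    rw [E.alpha_rot, E.alpha_rot, map_mul, map_intCast]
    push_cast
    ring
  rw [Finset.sum_congr rfl fun k _ => h1 k, ← Finset.mul_sum,
    sum_period F (fun z : ZMod 4 => ((fD i (.r z) * fD j (.r z) : ℤ) : ℂ)), F.card_C, Frame.m]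
  have hn : 2 ^ (F.n - 2) = 2 * 2 ^ (F.n - 3) := by
    have := F.three_le
    rw [← pow_succ']; congr 1; omega
  have hv : fD i (.r 0) * fD j (.r 0) + fD i (.r 1) * fD j (.r 1) + fD i (.r 2) * fD j (.r 2) +
      fD i (.r 3) * fD j (.r 3) = if i = j then 24 else 8 := by
    clear h1
    revert i j; decide
  have hv' := congrArg (fun z : ℤ => (z : ℂ)) hv
  push_cast at hv' ⊢
  rw [hv', show (2 : ℂ) ^ (F.n - 2) = 2 * 2 ^ (F.n - 3) from mod_cast hn]
  have h0 : (Nat.card F.O : ℂ) ≠ 0 := Nat.cast_ne_zero.2 Nat.card_pos.ne'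
  split_ifs <;> field_simp <;> ring

variable [Fintype F.C]

/-- The coefficient of `χ` in the induced character. -/
noncomputable def Ext.coef (i : Bool) (χ : IrrCharacter G) : ℂ := classInner (indFun F.C (E.alpha i)) (χ : G → ℂ)

theorem Ext.exists_int_coef (i : Bool) (χ : IrrCharacter G) : ∃ n : ℤ, E.coef i χ = n := by
  obtain ⟨a, ha⟩ := exists_int_decomp (IsGeneralizedCharacter.indFun (E.isGeneralized_alpha i) (G := G))
  exact ⟨a χ, by rw [Ext.coef, ha, classInner_irrSum]⟩

/-- The integer coefficient. -/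
noncomputable def Ext.c (i : Bool) (χ : IrrCharacter G) : ℤ := Classical.choose (E.exists_int_coef i χ)

theorem Ext.c_spec (i : Bool) (χ : IrrCharacter G) : E.coef i χ = (E.c i χ : ℂ) :=
  Classical.choose_spec (E.exists_int_coef i χ)

theorem Ext.indFun_eq (i : Bool) :
    indFun F.C (E.alpha i) = ∑ χ : IrrCharacter G, (E.c i χ : ℂ) • (χ : G → ℂ) := by
  conv_lhs => rw [classFunction_expand (isClassFunction_indFun F.C (E.alpha i))]
  exact Finset.sum_congr rfl fun χ _ => by rw [← E.c_spec]; rfl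

theorem Ext.c_restrict (i : Bool) (χ : IrrCharacter G) :
    classInner (fun x : F.C => (χ : G → ℂ) x) (E.alpha i) = (E.c i χ : ℂ) := by
  rw [← frobenius_reciprocity' F.C _ (isClassFunction_irr χ), ← classInner_conj_symm,
    show classInner (indFun F.C (E.alpha i)) (χ : G → ℂ) = (E.c i χ : ℂ) from E.c_spec i χ, map_intCast]

theorem Ext.sum_c_mul (i j : Bool) : ∑ χ : IrrCharacter G, E.c i χ * E.c j χ = if i = j then 3 else 1 := by
  apply Int.cast_injective (α := ℂ)
  have h : classInner (indFun F.C (E.alpha i)) (indFun F.C (E.alpha j)) = classInner (E.alpha i) (E.alpha j) := by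
    rw [frobenius_reciprocity F.C _ (isClassFunction_indFun _ _), classInner_def, classInner_def]
    refine congrArg _ (Finset.sum_congr rfl fun x _ => ?_)
    by_cases hx : (x : G) ∈ Supp F
    · by_cases h1 : x = 1
      · rw [h1, E.alpha_one, zero_mul, zero_mul]
      · rw [indFun_TI_apply' F.C (Supp F) (fun g hg y hy hgy => supp_TI F hg hy hgy) (E.isClassFunction_alpha j)
          (fun y hy => by
            by_contra h0
            exact hy (E.alpha_support h0)) x hx h1]
    · rw [show E.alpha i x = 0 by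
        by_contra h0
        exact hx (E.alpha_support h0), zero_mul, zero_mul]
  rw [E.inner_alpha] at h
  have hleft : classInner (indFun F.C (E.alpha i)) (indFun F.C (E.alpha j)) =
      ∑ χ : IrrCharacter G, (E.c i χ : ℂ) * (E.c j χ : ℂ) := by
    conv_lhs => rw [E.indFun_eq i, classInner_sum_left]
    refine Finset.sum_congr rfl fun χ _ => ?_
    rw [classInner_smul_left, ← classInner_conj_symm]
    show (E.c i χ : ℂ) * conj (E.coef j χ) = _
    rw [E.c_spec, map_intCast]
  rw [hleft] at h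
  push_cast
  rw [h]

theorem Ext.sum_c_deg (i : Bool) : ∑ χ : IrrCharacter G, E.c i χ * (deg (χ : G → ℂ) : ℤ) = 0 := by
  apply Int.cast_injective (α := ℂ)
  have h := congrFun (E.indFun_eq i) 1
  rw [indFun_one, E.alpha_one, mul_zero, Finset.sum_apply] at h
  push_cast
  rw [h]
  exact Finset.sum_congr rfl fun χ _ => by rw [Pi.smul_apply, smul_eq_mul, irr_apply_one_eq_deg]

theorem Ext.c_sq_le (i : Bool) (χ : IrrCharacter G) : E.c i χ = 0 ∨ E.c i χ = 1 ∨ E.c i χ = -1 := by
  have h := E.sum_c_mul i i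
  rw [if_pos rfl] at h
  have := Finset.single_le_sum (f := fun φ => E.c i φ * E.c i φ) (fun φ _ => mul_self_nonneg _)
    (Finset.mem_univ χ)
  rw [h] at this
  have h1 : -2 < E.c i χ := by nlinarith
  have h2 : E.c i χ < 2 := by nlinarith
  omega

/-- A member of either induced character has non-zero sum of coefficients. -/
theorem Ext.c_add_ne (χ : IrrCharacter G) (h : E.c false χ ≠ 0 ∨ E.c true χ ≠ 0) :
    E.c false χ + E.c true χ ≠ 0 := by
  classical
  intro h0
  have h2 : E.c false χ - E.c true χ = 2 ∨ E.c false χ - E.c true χ = -2 := by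
    rcases E.c_sq_le false χ with e | e | e <;> omega
  have hsum : ∑ φ : IrrCharacter G, (E.c false φ - E.c true φ) * (E.c false φ - E.c true φ) = 4 := by
    simp only [sub_mul, mul_sub, Finset.sum_sub_distrib, E.sum_c_mul]
    decide
  have hp := Finset.add_sum_erase Finset.univ
    (fun φ : IrrCharacter G => (E.c false φ - E.c true φ) * (E.c false φ - E.c true φ)) (Finset.mem_univ χ)
  rw [hsum] at hp
  have hrest : ∀ φ ∈ Finset.univ.erase χ, E.c false φ - E.c true φ = 0 := by
    intro φ hφ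
    have h3 := Finset.single_le_sum (f := fun φ : IrrCharacter G =>
      (E.c false φ - E.c true φ) * (E.c false φ - E.c true φ)) (fun x _ => mul_self_nonneg _) hφ
    have h4 := mul_self_nonneg (E.c false φ - E.c true φ)
    refine mul_self_eq_zero.1 (le_antisymm ?_ h4)
    rcases h2 with e | e <;> rw [e] at hp <;> nlinarith
  have hd : ∑ φ : IrrCharacter G, (E.c false φ - E.c true φ) * (deg (φ : G → ℂ) : ℤ) = 0 := by
    simp only [sub_mul, Finset.sum_sub_distrib, E.sum_c_deg, sub_self]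
  rw [← Finset.add_sum_erase _ _ (Finset.mem_univ χ),
    Finset.sum_eq_zero fun φ hφ => by rw [hrest φ hφ, zero_mul], add_zero, mul_eq_zero] at hd
  rcases hd with e | e
  · rcases h2 with e' | e' <;> omega
  · exact (deg_irr_pos χ).ne' (by exact_mod_cast e)

/-- The sum of the two coefficients lives on the even powers of `s`. -/
theorem Ext.c_add_eq (χ : IrrCharacter G) :
    ((E.c false χ + E.c true χ : ℤ) : ℂ) * ((2 ^ F.n : ℕ) : ℂ) = 8 * ∑ k ∈ (Finset.range (2 ^ (F.n - 1))).filter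
      (fun k => k % 4 = 2), classInner (fun y : F.O => (χ : G → ℂ) ((y : G) * F.s ^ (k : ℤ))) (θ : F.O → ℂ) := by
  classical
  have h : ((E.c false χ + E.c true χ : ℤ) : ℂ) =
      classInner (fun x : F.C => (χ : G → ℂ) x) (E.alpha false + E.alpha true) := by
    rw [classInner_add_right, E.c_restrict, E.c_restrict, Int.cast_add]
  rw [h, classInner_def, sum_supp F _ fun c hc => ?_]
  swap
  · have h' : E.alpha false c ≠ 0 ∨ E.alpha true c ≠ 0 := by
      by_contra hh
      push Not at hh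
      exact hc (by simp [hh.1, hh.2])
    rcases h' with h' | h' <;> obtain ⟨l, hl, k, hk, -⟩ := E.alpha_support h' <;> exact ⟨l, hl, k, hk⟩
  simp only [Pi.add_apply, E.alpha_rot]
  rw [Finset.sum_filter, Finset.mul_sum, Finset.mul_sum, Finset.sum_mul]
  refine Finset.sum_congr rfl fun k _ => ?_
  have hkz : ((k : ℤ) : ZMod 4) = (k : ZMod 4) := Int.cast_natCast k
  have hval : fD false (.r ((k : ℤ) : ZMod 4)) + fD true (.r ((k : ℤ) : ZMod 4)) = if k % 4 = 2 then 8 else 0 := by
    rw [hkz, ← ZMod.natCast_mod k 4]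
    have : k % 4 < 4 := Nat.mod_lt _ (by norm_num)
    generalize k % 4 = j at this ⊢
    interval_cases j <;> decide
  have hv' := congrArg (fun z : ℤ => (z : ℂ)) hval
  push_cast at hv'
  have hcard : (Nat.card F.C : ℂ) = ((2 ^ F.n : ℕ) : ℂ) * (Nat.card F.O : ℂ) := by
    rw [F.card_C, Frame.m]
    obtain ⟨j, hj⟩ : ∃ j, F.n = j + 2 := ⟨F.n - 2, by have := F.three_le; omega⟩
    rw [hj, Nat.add_sub_cancel]
    push_cast
    rw [pow_add]; ring
  have hn0 : ((2 ^ F.n : ℕ) : ℂ) ≠ 0 := Nat.cast_ne_zero.2 (by positivity)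
  rw [hcard, mul_inv, classInner_def]
  split_ifs with h2
  · rw [if_pos h2] at hv'
    simp only [Int.cast_natCast]
    rw [mul_comm (((2 ^ F.n : ℕ) : ℂ))⁻¹, mul_assoc, mul_assoc, Finset.mul_sum, Finset.mul_sum, Finset.sum_mul,
      Finset.mul_sum, Finset.mul_sum]
    refine Finset.sum_congr rfl fun l _ => ?_
    rw [map_add, map_mul, map_mul, map_intCast, map_intCast, ← mul_add, hv']
    field_simp
  · rw [if_neg h2] at hv'
    simp only [Int.cast_natCast]
    rw [mul_zero, Finset.sum_eq_zero fun l _ => ?_, mul_zero, zero_mul]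
    rw [map_add, map_mul, map_mul, map_intCast, map_intCast, ← mul_add, hv', mul_zero, mul_zero]

/-- A member has the residues of `θ`. -/
theorem Ext.resid (hM : IsPModular 2 M) (hs2 : ∀ y ∈ F.O, Commute (F.s ^ 2) y) {χ : IrrCharacter G}
    (h : E.c false χ ≠ 0 ∨ E.c true χ ≠ 0) : Resid F M χ θ := by
  have hne := E.c_add_ne χ h
  have h1 := E.c_add_eq χ
  by_contra hno
  refine hne (Int.cast_injective (α := ℂ) ?_)
  rw [Finset.sum_eq_zero fun k hk => ?_, mul_zero, mul_eq_zero] at h1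
  · rw [Int.cast_zero]
    exact h1.resolve_right (Nat.cast_ne_zero.2 (by positivity))
  · obtain ⟨hk1, hk2⟩ := Finset.mem_filter.1 hk
    by_contra hne'
    refine hno (resid_of_section F hM (z := F.s ^ k) (Subgroup.pow_mem _ (Subgroup.mem_zpowers _) k) (fun e => ?_)
      (fun y hy => ?_) ?_)
    · have := Nat.le_of_dvd (by omega) (orderOf_dvd_of_pow_eq_one e)
      rw [F.s_order] at this
      have := Finset.mem_range.1 hk1
      omega
    · obtain ⟨j, rfl⟩ : 2 ∣ k := by omega
      rw [pow_mul]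
      exact (hs2 y hy).pow_left j
    · intro e
      apply hne'
      rw [← e]
      congr 1
      funext y
      obtain ⟨j, rfl⟩ : 2 ∣ k := by omega
      rw [zpow_natCast, pow_mul, ((hs2 y y.2).pow_left j).eq]

end Cfsg.Lib.GWD.Chr
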